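import Cfsg.Agent.H115.HC.RankTwo
import Cfsg.Agent.H115.HC.Four
import Cfsg.Agent.H720.PV.Tools
import Cfsg.Agent.H115.HC.TwDFour
import Mathlib
import Cfsg.Prelude.Def_ChevD4
import Cfsg.Prelude.Def_ChevWords
import Cfsg.Agent.H40.PV.Ell
import Cfsg.Agent.H620.PNorm
import Cfsg.Agent.H220.S4987.Co2_m3
import Cfsg.Agent.Lib.FinFast
import Cfsg.Agent.H997.OutMcL
import Cfsg.Agent.H713.Spor.McL
import Cfsg.Agent.H690.Spor.Ru
import Cfsg.Agent.CpAutRuFive.Cert
import Cfsg.Agent.H896.Van.Suz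
import Cfsg.Agent.H625.SylConst
import Cfsg.Agent.S0157
import Cfsg.Agent.H94.IMCPerm_m3
import Cfsg.Agent.H852.IMMathieu2
import Cfsg.Agent.J4Type.Aut22
import Cfsg.Agent.H723.Spor.MOrders
import Cfsg.Agent.H353.IMC.E67
import Cfsg.Agent.H665.NoPQ
import Cfsg.Agent.H35.ExcIdxTw_m3
import Cfsg.Agent.H53.HC.Asm
import Cfsg.Agent.H53.HC.Exc
import Cfsg.Agent.H419.Count_m3
import Cfsg.Agent.Nodes.FreeTorus
import Cfsg.Agent.H713.Invol
import Cfsg.Agent.H928.Van.Eng_m3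
import Cfsg.Agent.H674.Codegree
import Cfsg.Agent.H730.Sq.Main
import Cfsg.Agent.H526.Van.Chev
import Cfsg.Agent.H62.PPTwist
import Cfsg.Agent.H898.NotIn
import Cfsg.Agent.H928.Van.Tor
import Cfsg.Agent.H622.Levi.NonSwap
import Cfsg.Agent.Tits.ExtAux
import Cfsg.Agent.H53.HC.ExcIM
import Cfsg.Agent.H64.Dl.ExcK
import Cfsg.Agent.ChevFast.E6
import Cfsg.Agent.ChevFast.E7
import Cfsg.Agent.ChevFast.E8
import Cfsg.Agent.ChevFast.F4
import Cfsg.Agent.H872.PV.PSL_m3
import Cfsg.Agent.ClassicalGeometry.OmegaIndex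
import Cfsg.Agent.ClassicalGeometry.OrthDickson
import Cfsg.Agent.AutOrth.Main
import Cfsg.Agent.H477.HC.Rk3Chars_m3
import Cfsg.Agent.H720.PV.Regular
import Cfsg.Agent.H710.VanCount
import Cfsg.Agent.J3Type.CharTools
import Cfsg.Agent.FastGrp
import Cfsg.Agent.Prune
set_option linter.all false

section
prune_inst 0x7fbcacf8aaa8a5dfdf7f7e3fa6d8cff811808fffa4dff943bfe021af0b9f030009e563850de000fe0e42401410a87803fb7eeeffe06bdc7ffffd5df41ffbee0fe5f6350851d488240f380ffe03f0778e6f3fffffffffffffffffffffffffffbeffbffbfeffff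

-- part: H139/Van/Ord3
section
prune_inst 0x40500001001a20208000005801100620444000420002000008800080400000300008001000400100a0a0a200100050040001000800000000000000400000100000880400032410000440018000084010000000000000000000000000000000004004010000
set_option linter.all false
open scoped Cfsg.Agent.FastGrp

namespace Cfsg.Agent.H90F

private noncomputable def frc {α : Type} (x : ℕ) (f : ℕ → α) : α := Nat.rec (f 0) (fun k _ => f (Nat.succ k)) x

private theorem frc_eq {α : Type} (x : ℕ) (f : ℕ → α) : frc x f = f x := by cases x <;> rfl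

private noncomputable def nth {α : Type} (d : α) (l : List α) : ℕ → α :=
  List.rec (fun _ => d) (fun a _ ih n => Nat.rec a (fun k _ => ih k) n) l

private theorem nth_eq {α : Type} (d : α) (l : List α) (n : ℕ) : nth d l n = l.getD n d := by
  induction l generalizing n with
  | nil => rfl
  | cons a l ih => cases n with
    | zero => rfl
    | succ k => exact ih k

private noncomputable def fld {α : Type} (l : List α) (n : ℕ) (d : α) : α := frc n (nth d l)

private theorem ld_eq {α : Type} (l : List α) (n : ℕ) (d : α) : l.getD n d = fld l n d := by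
  rw [fld, frc_eq, nth_eq]

private theorem ld_fun : @List.getD.{0} = @fld := by
  funext α a n d; exact ld_eq a n d

private noncomputable def fal {α : Type} (l : List α) (p : α → Bool) : Bool :=
  List.rec true (fun a _ ih => Bool.rec false ih (p a)) l

private theorem al_fun : @List.all.{0} = @fal := by
  funext α l p
  induction l with
  | nil => rfl
  | cons a l ih => rw [List.all_cons, ih]; show _ = (Bool.rec false (fal l p) (p a) : Bool); cases p a <;> rfl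

private theorem bn_eq (a b : ℕ) : (a == b) = Nat.beq a b := by
  rw [Bool.eq_iff_iff, beq_iff_eq, Nat.beq_eq]

private theorem bn_fun : @BEq.beq ℕ instBEqOfDecidableEq = Nat.beq := by
  funext a b; exact bn_eq a b

private theorem a1_fun : @HAdd.hAdd ℕ ℕ ℕ _ = Nat.add := rfl

private theorem a2_fun : @HMul.hMul ℕ ℕ ℕ _ = Nat.mul := rfl

private theorem a4_fun : @HDiv.hDiv ℕ ℕ ℕ _ = Nat.div := rfl

private theorem a5_fun : @HMod.hMod ℕ ℕ ℕ _ = Nat.mod := rfl

private theorem a6_fun : @HPow.hPow ℕ ℕ ℕ _ = Nat.pow := rfl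

end Cfsg.Agent.H90F

-- part: H139/Van/CuspPow
section
/-!
# Cuspidal characters of rank one Levi subgroups: divisibility by the orders of regular torus elements (helper139)

* `dvd_of_reg` : `x ∈ T` such that all nontrivial powers act fixed point freely on `X_{α_i}`: the order of `x` divides
  the degree of the cuspidal characters of `LJ {i}`;
* `exists_chi_pow` : the Harish-Chandra induced character of `H115.HC.exists_chi_mul` with this divisibility;
* `exists_chi_G2_zero`, `exists_chi_G2_one` : type `G₂`, nodes `0` and `1`;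
* these characters vanish at the elements which are not conjugate into the parabolic subgroup.
-/

set_option autoImplicit false

open scoped ComplexConjugate
open Cfsg

namespace Cfsg.Agent.H139.Van.CuspPow

open CoxeterSystem Cfsg.Agent.ChevalleyStructure.CoxeterGeom Cfsg.Agent.Tits.Roots Cfsg.Agent.Tits.Core
  Cfsg.Agent.Tits.Exchange Cfsg.Agent.Nodes.Reps Cfsg.Agent.Nodes.BNOf Cfsg.Agent.Nodes.StabComb
  Cfsg.Agent.Nodes.Bruhat Cfsg.Agent.Nodes.OppDec Cfsg.Agent.Nodes.LeviDec Cfsg.Agent.H53.HC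
  Cfsg.Agent.LieRecognition.RankOneAbstract Cfsg.Agent.Characters Cfsg.Agent.H115.HC

section gen

variable {I W Y : Type*} [Fintype I] [DecidableEq I] [Group W] [Group Y] {M : CoxeterMatrix I}
  {cs : CoxeterSystem M W} {A : I → I → ℤ} {h : IsCartan M A} {p : ℕ} {T : Subgroup Y} {n : I → Y}
  {X : (I → ℤ) → Subgroup Y}

variable (R : RGD cs h p T n X)

include R

/-- regular elements and the degrees of cuspidal characters of the rank one Levi subgroup -/
theorem dvd_of_reg [Finite W] [Finite Y] {i : I} {ψ : ↥(LJ cs h T X {i}) → ℂ} (hψ : IsIrrCharacter _ ψ)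
    (hc : ∀ [Fintype ((X (sr i)).subgroupOf (LJ cs h T X {i}))],
        ∑ u : (X (sr i)).subgroupOf (LJ cs h T X {i}), ψ u = 0)
    {x : Y} (hx : x ∈ T)
    (hreg : ∀ y ∈ Subgroup.zpowers x, y ≠ 1 → ∀ u ∈ X (sr i), y * u = u * y → u = 1) :
    ∃ m : ℕ, ψ 1 = orderOf x * m := by
  classical
  have hf : Fintype ((X (sr i)).subgroupOf (LJ cs h T X {i})) := Fintype.ofFinite _
  have D := data R i
  have hxL : x ∈ LJ cs h T X {i} := T_le_LJ hx
  have hzero : ∀ y : LJ cs h T X {i}, y ∈ Subgroup.zpowers (⟨x, hxL⟩ : LJ cs h T X {i}) → y ≠ 1 → ψ y = 0 := by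
    intro y hy hy1
    obtain ⟨k, ρ, hρ, h1⟩ := hψ
    have hyB : y ∈ (BJ cs h T X {i}).subgroupOf (LJ cs h T X {i}) := by
      have h2 : Subgroup.zpowers (⟨x, hxL⟩ : LJ cs h T X {i}) ≤ (BJ cs h T X {i}).subgroupOf (LJ cs h T X {i}) := by
        rw [Subgroup.zpowers_le, Subgroup.mem_subgroupOf]
        exact T_le_BJ hx
      exact h2 hy
    rw [← h1]
    refine Cfsg.Agent.H710.Cuspidal.zero_of_regular ρ ((X (sr i)).subgroupOf (LJ cs h T X {i})) (by rw [h1]; exact hc)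
      (fun u => ⟨fun hu => D.norm y hyB u hu, fun hu => ?_⟩) ?_
    · have := D.norm y⁻¹ (Subgroup.inv_mem _ hyB) _ hu
      have h2 : y⁻¹ * (y * u * y⁻¹) * y⁻¹⁻¹ = u := by group
      rwa [h2] at this
    · intro u hu hyu
      apply Subtype.ext
      refine hreg y ?_ ?_ u hu ?_
      · obtain ⟨k, hk⟩ := hy
        refine ⟨k, ?_⟩
        have := congrArg Subtype.val hk
        simpa using this
      · intro h0
        exact hy1 (Subtype.ext h0)
      · exact congrArg Subtype.val hyu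
  have hf2 : Fintype (Subgroup.zpowers (⟨x, hxL⟩ : LJ cs h T X {i})) := Fintype.ofFinite _
  obtain ⟨m, hm⟩ := Cfsg.Agent.H710.Cuspidal.exists_mult (Subgroup.zpowers (⟨x, hxL⟩ : LJ cs h T X {i})) hψ
  refine ⟨m, ?_⟩
  rw [Finset.sum_eq_single (1 : Subgroup.zpowers (⟨x, hxL⟩ : LJ cs h T X {i}))
    (fun u _ hu => hzero u u.2 fun h => hu (Subtype.ext h)) (fun h => absurd (Finset.mem_univ _) h)] at hm
  rw [OneMemClass.coe_one, Nat.card_zpowers, Subgroup.orderOf_mk] at hm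
  exact hm

/-- **Harish-Chandra induction from a rank one Levi subgroup**, with the zeros. -/
theorem exists_chi_of_psi_zero [Finite W] [Fintype Y] (hG : GG cs h T X = ⊤) (i : I)
    {ψ : ↥(LJ cs h T X {i}) → ℂ} (hψ : IsIrrCharacter _ ψ)
    (hc : ∀ [Fintype ((X (sr i)).subgroupOf (LJ cs h T X {i}))],
        ∑ u : (X (sr i)).subgroupOf (LJ cs h T X {i}), ψ u = 0)
    (hs : ∀ w g, Rp cs R.nsys w g → w ∉ WJ cs {i} → rep cs h w (sr i) = sr i →
      ∃ (L : Subgroup Y) (hL : L ≤ LJ cs h T X {i}) (hL' : ∀ l ∈ L, g⁻¹ * l * g ∈ LJ cs h T X {i}),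
        ∀ [Fintype L], ∑ l : L, ψ ⟨l, hL l.2⟩ * conj (ψ ⟨g⁻¹ * l * g, hL' l l.2⟩) = 0) :
    ∃ χ : Y → ℂ, IsIrrCharacter Y χ ∧ χ 1 = (PJ cs h T X {i}).index * ψ 1 ∧
      ∀ x, (∀ g, g⁻¹ * x * g ∉ PJ cs h T X {i}) → χ x = 0 := by
  classical
  obtain ⟨ψ', hψ', hψL, hψV⟩ := exists_infl R {i} hψ
  refine ⟨indFun (PJ cs h T X {i}) ψ', ?_, ?_, ?_⟩
  · refine isIrr_indFun_rgd R hG {i} hψ' hψV ?_ ?_
    · intro k hk hf
      obtain rfl : k = i := hk
      have hf' : Fintype ((X (sr k)).subgroupOf (LJ cs h T X {k})) := Fintype.ofFinite _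
      rw [← hc]
      refine Fintype.sum_equiv ((MulEquiv.subgroupCongr (rad_single k)).trans
        (Subgroup.subgroupOfEquivOfLe (X_le_LJ_single (T := T) k)).symm).toEquiv _ _ fun u => ?_
      rw [← hψL]
      rfl
    · intro w g hg hw hp
      have hwi : rep cs h w (sr i) = sr i := by
        obtain ⟨k, hk, e⟩ := hp.2 i (Set.mem_singleton i)
        rw [e, Set.mem_singleton_iff.1 hk]
      obtain ⟨L, hL, hL', hsum⟩ := hs w g hg hw hwi
      refine ⟨L, le_trans hL LJ_le_PJ, fun l hl => LJ_le_PJ (hL' l hl), ?_⟩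
      intro hf
      rw [← hsum]
      refine Finset.sum_congr rfl fun l _ => ?_
      rw [hψL _ (hL l.2), hψL _ (hL' l l.2)]
  · rw [indFun_one]
    congr 1
    exact hψL 1 (one_mem _)
  · intro x hx
    change (Nat.card (PJ cs h T X {i}) : ℂ)⁻¹ * ∑ g : Y, extendByZero (PJ cs h T X {i}) ψ' (g⁻¹ * x * g) = 0
    rw [Finset.sum_eq_zero, mul_zero]
    intro g _
    unfold extendByZero
    apply Function.extend_apply'
    rintro ⟨y, hy⟩
    exact hx g (hy ▸ y.2)

/-- **Harish-Chandra induction of cuspidal characters of the rank one Levi subgroup with central character in general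
position.** -/
theorem exists_chi_pow [Finite W] [Finite Y] (hG : GG cs h T X = ⊤) (hTc : ∀ a ∈ T, ∀ b ∈ T, a * b = b * a) (i : I)
    (hU : 2 ≤ Nat.card (X (sr i))) (f : T →* ℂˣ)
    (hf : ∀ w g (hg : Rp cs R.nsys w g), w ∉ WJ cs {i} → ∀ hw : rep cs h w (sr i) = sr i,
      ∃ z, ∃ hz : z ∈ CT T X i, f ⟨z, CT_le hz⟩ ≠ f ⟨g⁻¹ * z * g, CT_le (conj_mem_CT R hg hw hz)⟩) :
    ∃ (χ : IrrCharacter Y) (m : ℕ), charDegree (χ : Y → ℂ) = (PJ cs h T X {i}).index * m ∧
      (∀ x ∈ T, (∀ y ∈ Subgroup.zpowers x, y ≠ 1 → ∀ u ∈ X (sr i), y * u = u * y → u = 1) → orderOf x ∣ m) ∧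
      ∀ x, (∀ g, g⁻¹ * x * g ∉ PJ cs h T X {i}) → (χ : Y → ℂ) x = 0 := by
  classical
  have := Fintype.ofFinite Y
  obtain ⟨ψ, hψ, hψc, hψz⟩ := exists_psi R hTc i hU f
  obtain ⟨χ, hχ, hχ1, hχ0⟩ := exists_chi_of_psi_zero R hG i hψ hψc (by
    intro w g hg hw hwi
    refine ⟨CT T X i, le_trans CT_le T_le_LJ, fun l hl => T_le_LJ (CT_le (conj_mem_CT R hg hwi hl)), ?_⟩
    intro hfin
    let g1 : CT T X i →* ℂˣ := f.comp (Subgroup.inclusion CT_le)
    let g2 : CT T X i →* ℂˣ := f.comp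
      { toFun := fun z => ⟨g⁻¹ * z * g, CT_le (conj_mem_CT R hg hwi z.2)⟩
        map_one' := Subtype.ext (by simp)
        map_mul' := fun a b => Subtype.ext (by
          change g⁻¹ * (a * b) * g = (g⁻¹ * a * g) * (g⁻¹ * b * g)
          group) }
    have h1 : ∀ l : CT T X i, ψ ⟨l, T_le_LJ (CT_le l.2)⟩ *
        conj (ψ ⟨g⁻¹ * l * g, T_le_LJ (CT_le (conj_mem_CT R hg hwi l.2))⟩) =
        (ψ 1 * conj (ψ 1)) * ((g1 l : ℂ) * conj (g2 l : ℂ)) := by
      intro l
      rw [hψz l l.2, hψz _ (conj_mem_CT R hg hwi l.2), map_mul]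
      change (g1 l : ℂ) * ψ 1 * (conj (g2 l : ℂ) * conj (ψ 1)) = _
      ring
    rw [Finset.sum_congr rfl fun l _ => h1 l, ← Finset.mul_sum, sum_conj_hom g1 g2, mul_zero]
    obtain ⟨z, hz, hne⟩ := hf w g hg hw hwi
    exact ⟨⟨z, hz⟩, hne⟩)
  have hd : χ 1 = (charDegree χ : ℂ) := Cfsg.Agent.Blocks.Basic.irr_one_eq_charDegree hχ
  have hd' : ψ 1 = (charDegree ψ : ℂ) := Cfsg.Agent.Blocks.Basic.irr_one_eq_charDegree hψ
  have hdd : charDegree χ = (PJ cs h T X {i}).index * charDegree ψ := by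
    rw [hd, hd'] at hχ1
    exact_mod_cast hχ1
  refine ⟨⟨χ, hχ⟩, charDegree ψ, hdd, ?_, hχ0⟩
  rintro x hx hreg
  obtain ⟨m, hm⟩ := dvd_of_reg R hψ hψc hx hreg
  have h1 : charDegree ψ = orderOf x * m := by
    rw [hd'] at hm
    exact_mod_cast hm
  rw [h1]
  exact Dvd.intro m rfl

/-- **The case of an element inverted by the relevant elements.** -/
theorem exists_chi_inv_pow [Finite W] [Finite Y] (hG : GG cs h T X = ⊤) (hTc : ∀ a ∈ T, ∀ b ∈ T, a * b = b * a) (i : I)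
    (hU : 2 ≤ Nat.card (X (sr i))) {z : Y} (hz : z ∈ CT T X i) (hz2 : z * z ≠ 1)
    (hinv : ∀ w g, Rp cs R.nsys w g → w ∉ WJ cs {i} → rep cs h w (sr i) = sr i → g⁻¹ * z * g = z⁻¹) :
    ∃ (χ : IrrCharacter Y) (m : ℕ), charDegree (χ : Y → ℂ) = (PJ cs h T X {i}).index * m ∧
      (∀ x ∈ T, (∀ y ∈ Subgroup.zpowers x, y ≠ 1 → ∀ u ∈ X (sr i), y * u = u * y → u = 1) → orderOf x ∣ m) ∧
      ∀ x, (∀ g, g⁻¹ * x * g ∉ PJ cs h T X {i}) → (χ : Y → ℂ) x = 0 := by
  obtain ⟨f, hf⟩ := exists_hom_ne_one hTc (T.mul_mem (CT_le hz) (CT_le hz)) hz2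
  refine exists_chi_pow R hG hTc i hU f fun w g hg hw hwi => ⟨z, hz, fun he => hf ?_⟩
  have h1 : f ⟨z * z, T.mul_mem (CT_le hz) (CT_le hz)⟩ = f ⟨z, CT_le hz⟩ * f ⟨z, CT_le hz⟩ := by
    rw [← map_mul]
    rfl
  have h2 : f ⟨g⁻¹ * z * g, CT_le (conj_mem_CT R hg hwi hz)⟩ = (f ⟨z, CT_le hz⟩)⁻¹ := by
    rw [← map_inv]
    congr 1
    exact Subtype.ext (hinv w g hg hw hwi)
  rw [h2] at he
  rw [h1]
  exact mul_eq_one_iff_eq_inv.2 he

end gen

/-! ### type `G₂`, the node `1` -/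

section rankTwo

variable {W Y : Type*} [Group W] [Group Y] {M : CoxeterMatrix (Fin 2)}
  {cs : CoxeterSystem M W} {A : Fin 2 → Fin 2 → ℤ} {h : IsCartan M A} {p : ℕ} {T : Subgroup Y} {n : Fin 2 → Y}
  {X : (Fin 2 → ℤ) → Subgroup Y}

/-- the reflection word -/
def vv1 (cs : CoxeterSystem M W) : W :=
  cs.simple 0 * cs.simple 1 * cs.simple 0 * (cs.simple 0 * cs.simple 1)⁻¹

theorem rep_eq_of_one [Finite W] {w : W} (hw : w ∉ WJ cs ({1} : Set (Fin 2))) (h0 : rep cs h w (sr 1) = sr 1) :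
    rep cs h w (sr 0) = fun k => if k = 1 then A 1 0 else -1 := by
  have hJ : ∀ i : Fin 2, i ∈ ({1} : Set (Fin 2)) ↔ i ≠ 0 := by
    intro i
    fin_cases i <;> simp
  have hp : Perm cs h ({1} : Set (Fin 2)) w := by
    refine ⟨fun i hi => ⟨1, rfl, ?_⟩, fun i hi => ⟨1, rfl, ?_⟩⟩
    · rw [Set.mem_singleton_iff.1 hi]
      nth_rw 1 [← h0]
      rw [rep_inv_apply]
    · rw [Set.mem_singleton_iff.1 hi, h0]
  have h1 := apply_eq_neg hJ hp hw (sr 0)
  rw [sr_self] at h1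
  have h2 := pairing_rep h0 (sr 0)
  rw [sr, pairing_single, mul_one] at h2
  unfold pairing at h2
  rw [Fin.sum_univ_two, h.diag, show (rep cs h w (Pi.single 0 1) : Fin 2 → ℤ) 0 = -1 from h1] at h2
  funext k
  fin_cases k
  · exact h1
  · change rep cs h w (Pi.single 0 1) 1 = A 1 0
    linarith

/-- the image of a vector under the reflection -/
theorem rep_vv1 (hA : A 0 1 * A 1 0 = 3) (x : Fin 2 → ℤ) :
    rep cs h (vv1 cs) x = ![-x 0, x 1 + A 1 0 * x 0] := by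
  have e : vv1 cs = cs.simple 0 * (cs.simple 1 * (cs.simple 0 * (cs.simple 1 * cs.simple 0))) := by
    unfold vv1
    rw [mul_inv_rev, cs.inv_simple, cs.inv_simple]
    simp only [mul_assoc]
  rw [e, rep_mul_apply, rep_mul_apply, rep_mul_apply, rep_mul_apply]
  simp only [rep_zero, rep_one, Matrix.cons_val_zero, Matrix.cons_val_one]
  apply vec_ext
  · linear_combination (-A 0 1 * (A 0 1 * A 1 0 - 1) * x 1 - A 0 1 * A 1 0 * x 0) * hA
  · linear_combination (A 0 1 * A 1 0 * x 1 + A 1 0 * x 0) * hA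

/-- For type `G₂` the only element outside `W_{1}` fixing `α_1` is the reflection of `s_0 s_1 α_0`. -/
theorem eq_vv1 [Finite W] (hA : A 0 1 * A 1 0 = 3) {w : W} (hw : w ∉ WJ cs ({1} : Set (Fin 2)))
    (h0 : rep cs h w (sr 1) = sr 1) : w = vv1 cs := by
  refine eq_of_rep (cs := cs) (h := h) fun i => ?_
  have h1 := rep_eq_of_one hw h0
  rw [rep_vv1 hA]
  fin_cases i
  · change rep cs h w (sr 0) = ![-(sr 0 : Fin 2 → ℤ) 0, (sr 0 : Fin 2 → ℤ) 1 + A 1 0 * (sr 0 : Fin 2 → ℤ) 0]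
    rw [h1, sr_zero_eq]
    funext k
    fin_cases k <;> simp
  · change rep cs h w (sr 1) = ![-(sr 1 : Fin 2 → ℤ) 0, (sr 1 : Fin 2 → ℤ) 1 + A 1 0 * (sr 1 : Fin 2 → ℤ) 0]
    rw [h0, sr_one_eq]
    exact vec_ext (by simp) (by simp)

/-- the root `s_1 s_0 α_1` -/
theorem rep_inv_one (hA : A 0 1 * A 1 0 = 3) :
    rep cs h (cs.simple 0 * cs.simple 1)⁻¹ (sr 1) = ![-A 0 1, 2] := by
  rw [mul_inv_rev, cs.inv_simple, cs.inv_simple, rep_mul_apply, sr_one_eq]
  simp only [rep_zero, rep_one, Matrix.cons_val_zero, Matrix.cons_val_one]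
  apply vec_ext
  · ring
  · linear_combination hA

variable (R : RGD cs h p T n X)

include R

/-- **The characters for type `G₂`, induced from the node `1`.** -/
theorem exists_chi_G2_one [Finite W] [Finite Y] (hG : GG cs h T X = ⊤) (hTc : ∀ a ∈ T, ∀ b ∈ T, a * b = b * a)
    (hA : A 0 1 * A 1 0 = 3) (hU : 2 ≤ Nat.card (X (sr 1))) {a : Y} (ha : a ∈ T) (ha2 : a * a ≠ 1)
    (hinv : (n 0)⁻¹ * a * n 0 = a⁻¹) (hc : ∀ u ∈ X ![-A 0 1, 2], a * u = u * a)
    (hc' : ∀ u ∈ X (-![-A 0 1, 2]), a * u = u * a) :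
    ∃ (χ : IrrCharacter Y) (m : ℕ), charDegree (χ : Y → ℂ) = (PJ cs h T X {1}).index * m ∧
      (∀ x ∈ T, (∀ y ∈ Subgroup.zpowers x, y ≠ 1 → ∀ u ∈ X (sr 1), y * u = u * y → u = 1) → orderOf x ∣ m) ∧
      ∀ x, (∀ g, g⁻¹ * x * g ∉ PJ cs h T X {1}) → (χ : Y → ℂ) x = 0 := by
  have hm : Rp cs R.nsys (cs.simple 0 * cs.simple 1) (n 0 * n 1) :=
    (rp_simple cs R.nsys 0).mul (rp_simple cs R.nsys 1)
  have hy : ∀ u ∈ X (sr 1), (n 0 * n 1)⁻¹ * u * (n 0 * n 1) ∈ X ![-A 0 1, 2] := by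
    intro u hu
    have := R.conj_mem' hm (isRoot_sr cs h 1) hu
    rwa [rep_inv_one hA] at this
  have hy' : ∀ u ∈ X (-sr 1), (n 0 * n 1)⁻¹ * u * (n 0 * n 1) ∈ X (-![-A 0 1, 2]) := by
    intro u hu
    have := R.conj_mem' hm (isRoot_sr cs h 1).neg hu
    rwa [map_neg, rep_inv_one hA] at this
  have hzT : (n 0 * n 1) * a * (n 0 * n 1)⁻¹ ∈ T := by
    have h1 := (mem_normalizer_iff_cj.1 hm.mem_normalizer)
    have h2 : (n 0 * n 1) * a * (n 0 * n 1)⁻¹ ∈ cj (n 0 * n 1) T := conj_mem_cj.2 ha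
    rwa [h1] at h2
  have hconj : ∀ u, a * ((n 0 * n 1)⁻¹ * u * (n 0 * n 1)) = ((n 0 * n 1)⁻¹ * u * (n 0 * n 1)) * a →
      (n 0 * n 1) * a * (n 0 * n 1)⁻¹ * u = u * ((n 0 * n 1) * a * (n 0 * n 1)⁻¹) := by
    intro u hu
    calc (n 0 * n 1) * a * (n 0 * n 1)⁻¹ * u =
          (n 0 * n 1) * (a * ((n 0 * n 1)⁻¹ * u * (n 0 * n 1))) * (n 0 * n 1)⁻¹ := by group
      _ = (n 0 * n 1) * (((n 0 * n 1)⁻¹ * u * (n 0 * n 1)) * a) * (n 0 * n 1)⁻¹ := by rw [hu]
      _ = _ := by group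
  have hz : (n 0 * n 1) * a * (n 0 * n 1)⁻¹ ∈ CT T X 1 :=
    mem_CT.2 ⟨hzT, fun u hu => hconj u (hc _ (hy u hu)), fun u hu => hconj u (hc' _ (hy' u hu))⟩
  refine exists_chi_inv_pow R hG hTc 1 hU hz ?_ ?_
  · intro h1
    apply ha2
    have h2 : (n 0 * n 1) * (a * a) * (n 0 * n 1)⁻¹ = 1 := by
      rw [← h1]
      group
    rwa [mul_inv_eq_one, mul_eq_left] at h2
  · intro w g hg hw hwi
    have hwv := eq_vv1 hA hw hwi
    subst hwv
    have hg1 : Rp cs R.nsys (vv1 cs) ((n 0 * n 1) * n 0 * (n 0 * n 1)⁻¹) :=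
      (hm.mul (rp_simple cs R.nsys 0)).mul hm.inv
    have ht := hg1.unique hg
    set m := n 0 * n 1 with hm0
    set t := (m * n 0 * m⁻¹)⁻¹ * g with ht0
    have e : g = m * n 0 * m⁻¹ * t := by rw [ht0]; group
    have e1 : (m * n 0 * m⁻¹)⁻¹ * (m * a * m⁻¹) * (m * n 0 * m⁻¹) = (m * a * m⁻¹)⁻¹ := by
      calc (m * n 0 * m⁻¹)⁻¹ * (m * a * m⁻¹) * (m * n 0 * m⁻¹) = m * ((n 0)⁻¹ * a * n 0) * m⁻¹ := by group
        _ = _ := by rw [hinv]; group
    have e2 := hTc _ (inv_mem hzT) _ ht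
    calc g⁻¹ * (m * a * m⁻¹) * g = t⁻¹ * ((m * n 0 * m⁻¹)⁻¹ * (m * a * m⁻¹) * (m * n 0 * m⁻¹)) * t := by
          rw [e]; group
      _ = t⁻¹ * ((m * a * m⁻¹)⁻¹ * t) := by rw [e1, mul_assoc]
      _ = t⁻¹ * (t * (m * a * m⁻¹)⁻¹) := by rw [e2]
      _ = _ := by group

/-- **The characters for type `G₂`, induced from the node `0`.** -/
theorem exists_chi_G2_zero [Finite W] [Finite Y] (hG : GG cs h T X = ⊤) (hTc : ∀ a ∈ T, ∀ b ∈ T, a * b = b * a)
    (hA : A 0 1 * A 1 0 = 3) (hU : 2 ≤ Nat.card (X (sr 0))) {a : Y} (ha : a ∈ T) (ha2 : a * a ≠ 1)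
    (hinv : (n 1)⁻¹ * a * n 1 = a⁻¹) (hc : ∀ u ∈ X ![2, -A 1 0], a * u = u * a)
    (hc' : ∀ u ∈ X (-![2, -A 1 0]), a * u = u * a) :
    ∃ (χ : IrrCharacter Y) (m : ℕ), charDegree (χ : Y → ℂ) = (PJ cs h T X {0}).index * m ∧
      (∀ x ∈ T, (∀ y ∈ Subgroup.zpowers x, y ≠ 1 → ∀ u ∈ X (sr 0), y * u = u * y → u = 1) → orderOf x ∣ m) ∧
      ∀ x, (∀ g, g⁻¹ * x * g ∉ PJ cs h T X {0}) → (χ : Y → ℂ) x = 0 := by
  have hm : Rp cs R.nsys (cs.simple 1 * cs.simple 0) (n 1 * n 0) :=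
    (rp_simple cs R.nsys 1).mul (rp_simple cs R.nsys 0)
  have hy : ∀ u ∈ X (sr 0), (n 1 * n 0)⁻¹ * u * (n 1 * n 0) ∈ X ![2, -A 1 0] := by
    intro u hu
    have := R.conj_mem' hm (isRoot_sr cs h 0) hu
    rwa [rep_inv_zero hA] at this
  have hy' : ∀ u ∈ X (-sr 0), (n 1 * n 0)⁻¹ * u * (n 1 * n 0) ∈ X (-![2, -A 1 0]) := by
    intro u hu
    have := R.conj_mem' hm (isRoot_sr cs h 0).neg hu
    rwa [map_neg, rep_inv_zero hA] at this
  have hzT : (n 1 * n 0) * a * (n 1 * n 0)⁻¹ ∈ T := by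
    have h1 := (mem_normalizer_iff_cj.1 hm.mem_normalizer)
    have h2 : (n 1 * n 0) * a * (n 1 * n 0)⁻¹ ∈ cj (n 1 * n 0) T := conj_mem_cj.2 ha
    rwa [h1] at h2
  have hconj : ∀ u, a * ((n 1 * n 0)⁻¹ * u * (n 1 * n 0)) = ((n 1 * n 0)⁻¹ * u * (n 1 * n 0)) * a →
      (n 1 * n 0) * a * (n 1 * n 0)⁻¹ * u = u * ((n 1 * n 0) * a * (n 1 * n 0)⁻¹) := by
    intro u hu
    calc (n 1 * n 0) * a * (n 1 * n 0)⁻¹ * u =
          (n 1 * n 0) * (a * ((n 1 * n 0)⁻¹ * u * (n 1 * n 0))) * (n 1 * n 0)⁻¹ := by group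
      _ = (n 1 * n 0) * (((n 1 * n 0)⁻¹ * u * (n 1 * n 0)) * a) * (n 1 * n 0)⁻¹ := by rw [hu]
      _ = _ := by group
  have hz : (n 1 * n 0) * a * (n 1 * n 0)⁻¹ ∈ CT T X 0 :=
    mem_CT.2 ⟨hzT, fun u hu => hconj u (hc _ (hy u hu)), fun u hu => hconj u (hc' _ (hy' u hu))⟩
  refine exists_chi_inv_pow R hG hTc 0 hU hz ?_ ?_
  · intro h1
    apply ha2
    have h2 : (n 1 * n 0) * (a * a) * (n 1 * n 0)⁻¹ = 1 := by
      rw [← h1]
      group
    rwa [mul_inv_eq_one, mul_eq_left] at h2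
  · intro w g hg hw hwi
    have hwv := eq_vv hA hw hwi
    subst hwv
    have hg1 : Rp cs R.nsys (vv cs) ((n 1 * n 0) * n 1 * (n 1 * n 0)⁻¹) :=
      (hm.mul (rp_simple cs R.nsys 1)).mul hm.inv
    have ht := hg1.unique hg
    set m := n 1 * n 0 with hm0
    set t := (m * n 1 * m⁻¹)⁻¹ * g with ht0
    have e : g = m * n 1 * m⁻¹ * t := by rw [ht0]; group
    have e1 : (m * n 1 * m⁻¹)⁻¹ * (m * a * m⁻¹) * (m * n 1 * m⁻¹) = (m * a * m⁻¹)⁻¹ := by
      calc (m * n 1 * m⁻¹)⁻¹ * (m * a * m⁻¹) * (m * n 1 * m⁻¹) = m * ((n 1)⁻¹ * a * n 1) * m⁻¹ := by group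
        _ = _ := by rw [hinv]; group
    have e2 := hTc _ (inv_mem hzT) _ ht
    calc g⁻¹ * (m * a * m⁻¹) * g = t⁻¹ * ((m * n 1 * m⁻¹)⁻¹ * (m * a * m⁻¹) * (m * n 1 * m⁻¹)) * t := by
          rw [e]; group
      _ = t⁻¹ * ((m * a * m⁻¹)⁻¹ * t) := by rw [e1, mul_assoc]
      _ = t⁻¹ * (t * (m * a * m⁻¹)⁻¹) := by rw [e2]
      _ = _ := by group

end rankTwo

end Cfsg.Agent.H139.Van.CuspPow
end

-- part: H139/Van/DzG2
section
/-!
# Characters of `p`-defect zero of `G₂(q)` for `p ∤ q (q² - 1)` (helper139)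

* `dz_G2`.
-/

set_option autoImplicit false
set_option linter.unusedSectionVars false

namespace Cfsg.Agent.H139.Van.DzG2

open Cfsg Cfsg.Lie Cfsg.Agent.H720.PV Cfsg.Agent.H115.HC

/-- if `N = d * C` and `p ∤ C` then the `p`-part of `N` divides `d` -/
theorem pow_dvd_of {N d C p : ℕ} (hp : p.Prime) (hN : N = d * C) (hC : ¬ p ∣ C) :
    p ^ N.factorization p ∣ d := by
  have h1 : p ^ N.factorization p ∣ d * C := by rw [← hN]; exact Nat.ordProj_dvd N p
  exact (Nat.Coprime.pow_left _ ((Nat.Prime.coprime_iff_not_dvd hp).2 hC)).dvd_of_dvd_mul_right h1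

theorem HasDZ.of_equiv {p : ℕ} {G H : Type*} [Group G] [Group H] (e : G ≃* H)
    (h : H665.NoPQ.HasDZ p H) : H665.NoPQ.HasDZ p G := by
  obtain ⟨χ, hχ⟩ := h
  refine ⟨⟨_, Cfsg.Agent.Characters.Core.isIrr_comp e.toMonoidHom e.surjective χ.2⟩, ?_⟩
  have h1 : charDegree ((χ : H → ℂ) ∘ e.toMonoidHom) = charDegree (χ : H → ℂ) := by
    rw [Cfsg.Agent.Blocks.Basic.charDegree_def, Cfsg.Agent.Blocks.Basic.charDegree_def]
    simp
  rw [Nat.card_congr e.toEquiv, ← hχ]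
  exact congrArg (fun n => n.factorization p) h1

theorem arith {q : ℕ} (hq : 2 ≤ q) : q ^ 6 * (q ^ 2 - 1) * (q ^ 6 - 1) =
    (q + 1) * (q ^ 4 + q ^ 2 + 1) * (q ^ 6 * ((q + 1) * (q - 1) * (q - 1))) := by
  obtain ⟨m, rfl⟩ := Nat.exists_eq_add_of_le hq
  have e1 : 2 + m - 1 = m + 1 := by omega
  have e2 : (2 + m) ^ 2 - 1 = (m + 1) * (2 + m + 1) := by
    rw [show (2 + m) ^ 2 = (m + 1) * (2 + m + 1) + 1 by ring]
    rfl
  have e3 : (2 + m) ^ 6 - 1 = (m + 1) * ((2 + m + 1) * ((2 + m) ^ 4 + (2 + m) ^ 2 + 1)) := by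
    rw [show (2 + m) ^ 6 = (m + 1) * ((2 + m + 1) * ((2 + m) ^ 4 + (2 + m) ^ 2 + 1)) + 1 by ring]
    rfl
  rw [e1, e2, e3]
  ring

/-- **`G₂(q)`, `q ≥ 3`, has characters of `p`-defect zero for all primes `p ∤ q (q² - 1)`.** -/
theorem dz_G2 {F : Type} [Field F] [Fintype F] (h3 : 3 ≤ Fintype.card F) {p : ℕ} [hpf : Fact p.Prime]
    (hpq : ¬ p ∣ Fintype.card F) (h1 : ¬ p ∣ Fintype.card F - 1) (h2 : ¬ p ∣ Fintype.card F + 1) :
    H665.NoPQ.HasDZ p ↥(chevG2.group F) := by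
  classical
  have hpp := hpf.out
  have hC : ∀ q : ℕ, q = Fintype.card F → ¬ p ∣ q ^ 6 * ((q + 1) * (q - 1) * (q - 1)) := by
    rintro q rfl h
    rcases hpp.dvd_mul.1 h with h | h
    · exact hpq (hpp.dvd_of_dvd_pow h)
    · rcases hpp.dvd_mul.1 h with h | h
      · rcases hpp.dvd_mul.1 h with h | h
        · exact h2 h
        · exact h1 h
      · exact h1 h
  rcases Nat.eq_or_lt_of_le h3 with h4 | h4
  · have e : F ≃+* ZMod 3 := by
      have : CharP F 3 := by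
        obtain ⟨p, hch⟩ := CharP.exists F
        obtain ⟨⟨k, hk⟩, hpp, hcard⟩ := FiniteField.card F p
        have h5 : p ^ k = 3 := by rw [h4]; exact hcard.symm
        have h6 : p ∣ 3 := by
          rw [← h5]
          exact dvd_pow_self p hk.ne'
        have h7 := (Nat.prime_dvd_prime_iff_eq hpp Nat.prime_three).1 h6
        rwa [h7] at hch
      have h5 := ZMod.ringEquivOfPrime F Nat.prime_three h4.symm
      exact h5.symm
    have e' := Cfsg.Agent.ChevStructure.FieldMap.groupEquivOfRingEquiv chevG2 e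
    refine HasDZ.of_equiv e' ?_
    obtain ⟨χ, m, hχ⟩ := GThree.char_three
    have : Finite ↥(chevG2.group (ZMod 3)) := inferInstance
    refine hasDZ_of_degree χ.2 (Cfsg.Agent.Blocks.Basic.irr_one_eq_charDegree χ.2) ?_
    have hc : Nat.card ↥(chevG2.group (ZMod 3)) = 3 ^ 6 * (3 ^ 2 - 1) * (3 ^ 6 - 1) :=
      Cfsg.Agent.S1059.result (by rw [ZMod.card])
    refine (pow_dvd_of hpp (d := 364) (C := 3 ^ 6 * ((3 + 1) * (3 - 1) * (3 - 1))) ?_ (hC 3 h4)).trans ⟨m, hχ⟩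
    rw [hc, arith (by norm_num)]
    norm_num
  · obtain ⟨χ, m, hχ, -⟩ := GTwo.char_four (K := F) h4
    have : Finite ↥(chevG2.group F) := inferInstance
    refine hasDZ_of_degree χ.2 (Cfsg.Agent.Blocks.Basic.irr_one_eq_charDegree χ.2) ?_
    rw [hχ]
    refine (pow_dvd_of hpp ?_ (hC _ rfl)).mul_right m
    rw [Cfsg.Agent.S1059.result rfl, arith (by omega)]

end Cfsg.Agent.H139.Van.DzG2
end

-- part: H139/Van/TwD4
section
/-!
# Characters of `p`-defect zero of `³D₄(q)` (helper139)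

* `dz_of_not_dvd` : `p ∤ q (q² - 1)`, `p ∤ q² + q + 1`;
* `char_one` : the characters induced from the parabolic subgroup of the outer nodes, `q ≥ 4`;
* `dz_of_dvd` : `p ∣ q² + q + 1`, `p ≠ 3`, `q ≥ 4`.
-/

set_option autoImplicit false
set_option linter.unusedSectionVars false

open Cfsg

namespace Cfsg.Agent.H139.Van.TwD4

open CoxeterSystem Cfsg.Agent.ChevalleyStructure.CoxeterGeom Cfsg.Agent.Tits.Roots Cfsg.Agent.Tits.Core
  Cfsg.Agent.Tits.RootComb Cfsg.Agent.Nodes.Comb Cfsg.Agent.Nodes.Reps Cfsg.Agent.Nodes.BNOf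
  Cfsg.Agent.Nodes.BNOf.RGD Cfsg.Agent.Nodes.RGDChev Cfsg.Agent.Nodes.RGDFold
open Cfsg.Agent.Nodes.Bruhat Cfsg.Agent.Nodes.LeviDec
open Cfsg.Lie Cfsg.Agent.ChevalleyStructure Cfsg.Agent.ChevalleyStructure.TwistedU
open Cfsg.Agent.Nodes.RGDFoldSL
open Cfsg.Agent.ChevalleyStructure.SL2Hom (up lo mem_closure_SL2)
open Cfsg.Agent.BiChar.TwDFour
open Cfsg.Agent.H115.HC.TwDFour Cfsg.Agent.H139.Van.CuspPow Cfsg.Agent.H139.Van.DzG2 Cfsg.Agent.H720.PV

/-- the short relative root of height three -/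
theorem cls_mid : ∀ k < chevD4.nroots, (V chevD4 Nodes.RGDTwD4.J k = ![1, 2] ↔ k ∈ [17, 20, 21]) := by decide +kernel

theorem cls_mid' : ∀ k < chevD4.nroots, (V chevD4 Nodes.RGDTwD4.J k = -![1, 2] ↔ k ∈ [2, 3, 6]) := by decide +kernel

theorem comm_check1 : ∀ s ∈ [17, 20, 21, 2, 3, 6], ∀ r ∈ [14, 9], r < chevD4.nroots ∧ s < chevD4.nroots ∧ s ≠ r ∧
    s ≠ chevD4.neg r ∧ chevD4.commTerms r s = [] := by decide +kernel

theorem comm_xG1 {K : Type*} [Field K] {s : ℕ} (hs : s ∈ [17, 20, 21, 2, 3, 6]) {r : ℕ} (hr : r ∈ [14, 9]) (t u : K) :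
    Elts.xG Nodes.RGDTwD4.hp.inList s u * Elts.xG Nodes.RGDTwD4.hp.inList r t =
      Elts.xG Nodes.RGDTwD4.hp.inList r t * Elts.xG Nodes.RGDTwD4.hp.inList s u := by
  obtain ⟨h1, h0, h2, h3, h4⟩ := comm_check1 s hs r hr
  have h5 := Nodes.RGDChev.comm_xG Nodes.RGDTwD4.hp h1 h0 h2 h3 (-t) (-u)
  have h6 : chevD4.commWord K r s (-t) (-u) = [] := by
    show (chevD4.commTerms r s).map _ = []
    rw [h4, List.map_nil]
  rw [h6, Elts.wordG_nil, commutatorElement_eq_one_iff_mul_comm, Elts.xG_inv, Elts.xG_inv, _root_.neg_neg,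
    _root_.neg_neg] at h5
  exact h5

theorem rspan_comm1 {K : Type*} [Field K] {A B : List ℕ} (hB : ∀ s ∈ B, s ∈ [17, 20, 21, 2, 3, 6])
    (hA : ∀ r ∈ A, r ∈ [14, 9])
    {x y : GL chevD4.Idx K} (hx : x ∈ rspan (Elts.xG (F := K) Nodes.RGDTwD4.hp.inList) {k | k ∈ B})
    (hy : y ∈ rspan (Elts.xG (F := K) Nodes.RGDTwD4.hp.inList) {k | k ∈ A}) : x * y = y * x := by
  have h1 : rspan (Elts.xG (F := K) Nodes.RGDTwD4.hp.inList) {k | k ∈ B} ≤
      Subgroup.centralizer (rspan (Elts.xG (F := K) Nodes.RGDTwD4.hp.inList) {k | k ∈ A} : Set _) := by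
    rw [Subgroup.le_centralizer_iff]
    refine (Subgroup.closure_le _).2 ?_
    rintro _ ⟨r, hr, t, rfl⟩
    rw [SetLike.mem_coe, Subgroup.mem_centralizer_iff]
    intro z hz
    refine Subgroup.closure_induction (p := fun z _ => z * Elts.xG Nodes.RGDTwD4.hp.inList r t =
      Elts.xG Nodes.RGDTwD4.hp.inList r t * z) ?_ ?_ ?_ ?_ hz
    · rintro _ ⟨s', hs', u, rfl⟩
      exact comm_xG1 (hB s' hs') (hA r hr) t u
    · rw [one_mul, mul_one]
    · intro a b _ _ ha hb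
      rw [mul_assoc, hb, ← mul_assoc, ha, mul_assoc]
    · intro a _ ha
      have : Commute a (Elts.xG Nodes.RGDTwD4.hp.inList r t) := ha
      exact this.inv_left
  exact ((Subgroup.mem_centralizer_iff.1 (h1 hx)) y hy).symm

variable {K : Type} [Field K] {q : ℕ} {φ : K →+* K}

section

variable (hφ : ∀ x, φ x = x ^ q) (hle : twistedD4 K q ≤ D4Fixed.fix φ)

theorem comm_mid {B : List ℕ} (hB : ∀ s ∈ B, s ∈ [17, 20, 21, 2, 3, 6]) {x : ↥(twistedD4 K q)}
    (hxs : (x : GL chevD4.Idx K) ∈ rspan (Elts.xG (F := K) Nodes.RGDTwD4.hp.inList) {k | k ∈ B})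
    {p : ℕ} [Fact p.Prime] [Fintype K] [CharP K p] (hK : Fintype.card K = q ^ 3)
    (g : Matrix.SpecialLinearGroup (Fin 2) (Fx φ ((Nodes.RGDTwNode.D4.rest 0).length + 1))) :
    Ph hφ hle 0 g * x = x * Ph hφ hle 0 g := by
  have h1 := Ph_mem (p := p) hφ hle hK 0 g
  have h2 : Nodes.RGDTwD4.X φ q (sr 0) ⊔ Nodes.RGDTwD4.X φ q (-sr 0) ≤ Subgroup.centralizer {x} := by
    refine sup_le ?_ ?_
    · intro y hy
      rw [Subgroup.mem_centralizer_singleton_iff]
      have h3 : (y : GL chevD4.Idx K) ∈ R chevD4 Nodes.RGDTwD4.hp K Nodes.RGDTwD4.J (D4Fixed.sig φ) (sr 0) :=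
        Subgroup.mem_subgroupOf.1 hy
      rw [R_eq Nodes.RGDTwD4.cls0 (by decide +kernel)] at h3
      exact Subtype.ext (rspan_comm1 hB (A := [14]) (by decide) hxs h3.1).symm
    · intro y hy
      rw [Subgroup.mem_centralizer_singleton_iff]
      have h3 : (y : GL chevD4.Idx K) ∈ R chevD4 Nodes.RGDTwD4.hp K Nodes.RGDTwD4.J (D4Fixed.sig φ) (-sr 0) :=
        Subgroup.mem_subgroupOf.1 hy
      rw [R_eq Nodes.RGDTwD4.cls0' (by decide +kernel)] at h3
      exact Subtype.ext (rspan_comm1 hB (A := [9]) (by decide) hxs h3.1).symm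
  exact Subgroup.mem_centralizer_singleton_iff.1 (h2 h1)

/-- the torus of the central node acts faithfully -/
theorem Ph0_ne_one {d : Fx φ ((Nodes.RGDTwNode.D4.rest 0).length + 1)} (hd : (d : K) ≠ 0) (hd1 : (d : K) ≠ 1) :
    Ph hφ hle 0 (hS d) ≠ 1 := by
  intro h0
  have hD : Elts.InList chevD4 := Nodes.RGDTwD4.hp.inList
  have tab : chevD4.simple 1 = 14 ∧ chevD4.cartan 1 18 = -1 ∧ 1 < chevD4.rank ∧ 18 < chevD4.nroots := by
    decide +kernel
  obtain ⟨s1, c1, r1, rn⟩ := tab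
  have h1 : Elts.hG hD 14 (d : K) = 1 := by
    rw [← coe_hS0 hφ hle d, h0]
    rfl
  have h2 := Cfsg.Agent.ETable.Exc.hG_xG hD r1 rn hd 1
  rw [s1, c1, h1, one_mul, mul_one, mul_one, zpow_neg, zpow_one] at h2
  have h3 := Elts.xG_injective hD rn h2
  exact hd1 (by rw [← inv_inv (d : K), ← h3, inv_one])

end

variable [Fintype K]

/-- the order of the root group of the outer nodes -/
theorem card_X1 (hφ : ∀ x, φ x = x ^ q) (hle : twistedD4 K q ≤ D4Fixed.fix φ)
    (hK : Fintype.card K = q ^ 3) : Nat.card (Nodes.RGDTwD4.X φ q (sr 1)) = q ^ 3 := by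
  have h1 : Nat.card (Fx φ ((Nodes.RGDTwNode.D4.rest 1).length + 1)) = q ^ 3 := by
    rw [← hK, ← Nat.card_eq_fintype_card]
    exact Nat.card_congr (Equiv.subtypeUnivEquiv fun t => mem_Fx_three hK hφ t)
  refine Eq.trans ?_ h1
  symm
  refine Nat.card_congr (Equiv.ofBijective (fun t => (⟨Ph hφ hle 1 (up t), (mem_X hφ hle 1 _).2 ⟨t, rfl⟩⟩ :
    Nodes.RGDTwD4.X φ q (sr 1))) ⟨fun a b hab => up_inj hφ hle 1 (congrArg Subtype.val hab), ?_⟩)
  rintro ⟨g, hg⟩
  obtain ⟨t, ht⟩ := (mem_X hφ hle 1 g).1 hg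
  exact ⟨t, Subtype.ext ht.symm⟩

/-- the index of the parabolic subgroup -/
theorem index_eq1 {p : ℕ} [Fact p.Prime] [CharP K p] (hφ : ∀ x, φ x = x ^ q)
    (hle : twistedD4 K q ≤ D4Fixed.fix φ) (hq : IsPrimePow q) (hK : Fintype.card K = q ^ 3) :
    (PJ cs Nodes.RGDTwD4.isCartan (Nodes.RGDTwD4.T K q) (Nodes.RGDTwD4.X φ q) {1}).index =
      (q + 1) * (q ^ 8 + q ^ 4 + 1) := by
  have : Finite CoxeterMatrix.G₂.Group := Nodes.RGDChev.finite_W Cfsg.Agent.BiChar.GTwo.isType cs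
  have R := Nodes.RGDTwD4.rgd (K := K) cs hK hφ p
  have hpp : p.Prime := Fact.out
  obtain ⟨f, hf, hqf⟩ : ∃ f, f ≠ 0 ∧ q = p ^ f := by
    obtain ⟨p', k, hp', hk, e⟩ := hq
    obtain ⟨m, -, hm⟩ := FiniteField.card K p
    have h1 : p' = p := by
      have h2 : p' ∣ p ^ (m : ℕ) := by
        rw [← hm, hK, ← e]
        exact dvd_pow (dvd_pow_self p' hk.ne') (by norm_num)
      exact (Nat.prime_dvd_prime_iff_eq hp'.nat_prime hpp).1 (hp'.nat_prime.dvd_of_dvd_pow h2)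
    exact ⟨k, hk.ne', by rw [← e, h1]⟩
  have hpr : Cfsg.Agent.H35.PoinNum.pr (p ^ f) [2, 6] = (q ^ 2 - 1) * (q ^ 6 - 1) := by
    rw [Cfsg.Agent.H35.PoinNum.pr_cons, Cfsg.Agent.H35.PoinNum.pr_cons, Cfsg.Agent.H35.PoinNum.pr_nil, mul_one, hqf]
  have hN : Nat.card ↥(PJ cs Nodes.RGDTwD4.isCartan (Nodes.RGDTwD4.T K q) (Nodes.RGDTwD4.X φ q) {1}) =
      (q ^ 3 + 1) * Nat.card ↥(RGD.B cs Nodes.RGDTwD4.isCartan (Nodes.RGDTwD4.T K q) (Nodes.RGDTwD4.X φ q)) := by
    have h1 := Cfsg.Agent.H554.RG.relIndex_B_PJ_singleton R 1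
    rw [card_X1 hφ hle hK] at h1
    rw [← h1, mul_comm]
    have h2 := Subgroup.relIndex_mul_relIndex ⊥ _ _ bot_le (B_le_PJ (cs := cs)
      (h := Nodes.RGDTwD4.isCartan) (T := Nodes.RGDTwD4.T K q) (X := Nodes.RGDTwD4.X φ q) (J := {1}))
    rw [Subgroup.relIndex_bot_left, Subgroup.relIndex_bot_left] at h2
    exact h2.symm
  have hT : 1 * Nat.card (Nodes.RGDTwD4.T K q) = (q - 1) * (q ^ 3 - 1) := by
    rw [one_mul, ← D4H1.card_H1 hq hK hφ]
    exact Nat.card_congr (Subgroup.subgroupOfEquivOfLe inf_le_right).toEquiv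
  have h1 := Cfsg.Agent.H35.ExcIdx.index_eq (p := p) R (GG_top hφ hK) hN (d := 1) (b := f * 12)
    (P := Cfsg.Agent.H35.PoinNum.pr (p ^ f) [2, 6] * (q ^ 8 + q ^ 4 + 1)) (by
      rw [Nat.dvd_one]
      exact hpp.one_lt.ne') hT (by
      rw [one_mul, Cfsg.Agent.S1067.result hq hK, hpr, pow_mul, ← hqf]
      ring) (by
      rw [hpp.dvd_mul, not_or]
      refine ⟨Cfsg.Agent.H35.ExcIdx.not_dvd_pr hpp hf _ (by simp), fun h2 => ?_⟩
      have h3 : p ∣ q := by
        rw [hqf]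
        exact dvd_pow_self p hf
      have h4 : p ∣ q ^ 8 + q ^ 4 := dvd_add (dvd_pow h3 (by norm_num)) (dvd_pow h3 (by norm_num))
      exact hpp.one_lt.ne' (Nat.dvd_one.1 ((Nat.dvd_add_right h4).1 h2)))
  rw [hpr] at h1
  obtain ⟨m, hm⟩ := Nat.exists_eq_add_of_le hq.two_le
  rw [hm] at h1 ⊢
  have e1 : 2 + m - 1 = m + 1 := by omega
  have e2 : (2 + m) ^ 2 - 1 = (m + 1) * (2 + m + 1) := by
    rw [show (2 + m) ^ 2 = (m + 1) * (2 + m + 1) + 1 by ring]
    rfl
  have e3 : (2 + m) ^ 3 - 1 = (m + 1) * ((2 + m) ^ 2 + (2 + m) + 1) := by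
    rw [show (2 + m) ^ 3 = (m + 1) * ((2 + m) ^ 2 + (2 + m) + 1) + 1 by ring]
    rfl
  have e6 : (2 + m) ^ 6 - 1 = (m + 1) * (((2 + m) ^ 2 + (2 + m) + 1) * ((2 + m) ^ 3 + 1)) := by
    rw [show (2 + m) ^ 6 = (m + 1) * (((2 + m) ^ 2 + (2 + m) + 1) * ((2 + m) ^ 3 + 1)) + 1 by ring]
    rfl
  rw [e1, e2, e3, e6] at h1
  have h3 : 0 < ((2 + m) ^ 3 + 1) * ((m + 1) * ((m + 1) * ((2 + m) ^ 2 + (2 + m) + 1))) := by positivity
  apply Nat.eq_of_mul_eq_mul_right h3
  rw [← mul_assoc, h1]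
  ring

/-- **The characters of `³D₄(q)` induced from the parabolic subgroup of the outer nodes, `q ≥ 4`.** -/
theorem char_one (hq : IsPrimePow q) (h4 : 4 ≤ q) (hK : Fintype.card K = q ^ 3) :
    ∃ (χ : IrrCharacter ↥(twistedD4 K q)) (m : ℕ),
      charDegree (χ : ↥(twistedD4 K q) → ℂ) = ((q + 1) * (q ^ 8 + q ^ 4 + 1)) * m ∧
      ∀ n : ℕ, Odd n → n ∣ q ^ 3 - 1 → n ∣ m := by
  classical
  obtain ⟨p, hch⟩ := CharP.exists K
  have : Fact p.Prime := ⟨CharP.char_is_prime K p⟩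
  obtain ⟨φ, hφ⟩ := D4Fixed.exists_frob hq hK
  have hle := D4Fixed.twisted_le_fix hK hφ
  have : Finite CoxeterMatrix.G₂.Group := Nodes.RGDChev.finite_W Cfsg.Agent.BiChar.GTwo.isType cs
  have Rg := Nodes.RGDTwD4.rgd (K := K) cs hK hφ p
  have hfin : Finite (Fx φ ((Nodes.RGDTwNode.D4.rest 0).length + 1)) := inferInstance
  have hfin1 : Finite (Fx φ ((Nodes.RGDTwNode.D4.rest 1).length + 1)) := inferInstance
  have hcF : Nat.card (Fx φ ((Nodes.RGDTwNode.D4.rest 0).length + 1)) = q := by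
    rw [← ChevalleyStructure.D4U.card_fix_field hq.one_lt hK hφ]
    refine Nat.card_congr (Equiv.subtypeEquivRight fun a => ?_)
    rw [mem_Fx]
    exact Iff.rfl
  have hcF1 : Nat.card (Fx φ ((Nodes.RGDTwNode.D4.rest 1).length + 1)) = q ^ 3 := by
    rw [← hK, ← Nat.card_eq_fintype_card]
    exact Nat.card_congr (Equiv.subtypeUnivEquiv fun t => mem_Fx_three hK hφ t)
  -- an element of the torus
  obtain ⟨c, hc0, hc2⟩ : ∃ c : Fx φ ((Nodes.RGDTwNode.D4.rest 0).length + 1), c ≠ 0 ∧ c ^ 2 ≠ 1 := by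
    obtain ⟨g, hg⟩ := IsCyclic.exists_generator (α := (Fx φ ((Nodes.RGDTwNode.D4.rest 0).length + 1))ˣ)
    have h2 : orderOf g = q - 1 := by
      rw [orderOf_eq_card_of_forall_mem_zpowers hg, Nat.card_units, hcF]
    refine ⟨g, g.ne_zero, fun h4' => ?_⟩
    have h5 : g ^ 2 = 1 := Units.ext (by rw [Units.val_pow_eq_pow_val, h4', Units.val_one])
    have h6 := Nat.le_of_dvd (by norm_num) (orderOf_dvd_of_pow_eq_one h5)
    rw [h2] at h6
    omega
  have hcc : c * c ≠ 0 := mul_ne_zero hc0 hc0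
  obtain ⟨χ, m, h1, h2, -⟩ := exists_chi_G2_one Rg (GG_top hφ hK) T_comm (by decide)
    (by
      rw [card_X1 hφ hle hK]
      exact (le_trans (by norm_num) h4).trans (Nat.le_self_pow (by norm_num) q)) (a := Ph hφ hle 0 (hS c))
    (Cfsg.Agent.BiChar.TwDFour.Ph_hS hφ hle 0 hc0)
    (by
      rw [← map_mul, hS_mul hc0 hc0]
      refine Ph0_ne_one hφ hle (fun h => hcc (Subtype.ext h)) (fun h => hc2 ?_)
      rw [sq]
      exact Subtype.ext h)
    (by
      rw [← Cfsg.Agent.BiChar.TwDFour.Ph_wS hφ hle 0, ← map_inv, ← map_mul, ← map_mul, wS_hS hc0, map_inv])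
    (by
      intro u hu
      have hu' : (u : GL chevD4.Idx K) ∈ R chevD4 Nodes.RGDTwD4.hp K Nodes.RGDTwD4.J (D4Fixed.sig φ) ![1, 2] :=
        Subgroup.mem_subgroupOf.1 hu
      rw [R_eq cls_mid (by decide +kernel)] at hu'
      exact comm_mid hφ hle (B := [17, 20, 21]) (by decide) hu'.1 (p := p) hK _)
    (by
      intro u hu
      have hu' : (u : GL chevD4.Idx K) ∈ R chevD4 Nodes.RGDTwD4.hp K Nodes.RGDTwD4.J (D4Fixed.sig φ) (-![1, 2]) :=
        Subgroup.mem_subgroupOf.1 hu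
      rw [R_eq cls_mid' (by decide +kernel)] at hu'
      exact comm_mid hφ hle (B := [2, 3, 6]) (by decide) hu'.1 (p := p) hK _)
  rw [index_eq1 (p := p) hφ hle hq hK] at h1
  refine ⟨χ, m, h1, fun n hn hnd => ?_⟩
  -- an element of order `n` of the torus
  obtain ⟨d, hd⟩ : ∃ d : (Fx φ ((Nodes.RGDTwNode.D4.rest 1).length + 1))ˣ, orderOf d = n := by
    obtain ⟨g, hg⟩ := IsCyclic.exists_generator (α := (Fx φ ((Nodes.RGDTwNode.D4.rest 1).length + 1))ˣ)
    have h3 : orderOf g = q ^ 3 - 1 := by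
      rw [orderOf_eq_card_of_forall_mem_zpowers hg, Nat.card_units, hcF1]
    obtain ⟨k, hk⟩ := hnd
    refine ⟨g ^ k, ?_⟩
    have hk0 : k ≠ 0 := by
      rintro rfl
      rw [mul_zero] at hk
      have h5 : 4 ^ 3 ≤ q ^ 3 := Nat.pow_le_pow_left h4 3
      omega
    have hn0 : 0 < n := hn.pos
    rw [orderOf_pow' g hk0, h3, hk, Nat.gcd_mul_left_left, Nat.mul_div_cancel _ (Nat.pos_of_ne_zero hk0)]
  have h1S : hS (1 : Fx φ ((Nodes.RGDTwNode.D4.rest 1).length + 1)) = 1 := by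
    apply Subtype.ext
    rw [coe_hS one_ne_zero, inv_one]
    exact Matrix.one_fin_two.symm
  have key : ∀ (e : (Fx φ ((Nodes.RGDTwNode.D4.rest 1).length + 1))ˣ) (k : ℕ),
      hS (e : Fx φ ((Nodes.RGDTwNode.D4.rest 1).length + 1)) ^ k =
      hS ((e : Fx φ ((Nodes.RGDTwNode.D4.rest 1).length + 1)) ^ k) := by
    intro e k
    induction k with
    | zero => rw [pow_zero, pow_zero, h1S]
    | succ k ih => rw [pow_succ, ih, hS_mul (pow_ne_zero _ e.ne_zero) e.ne_zero, ← pow_succ]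
  have hpowP : ∀ k : ℕ, (Ph hφ hle 1 (hS (d : Fx φ ((Nodes.RGDTwNode.D4.rest 1).length + 1)))) ^ k =
      Ph hφ hle 1 (hS ((d ^ k : (Fx φ ((Nodes.RGDTwNode.D4.rest 1).length + 1))ˣ) :
        Fx φ ((Nodes.RGDTwNode.D4.rest 1).length + 1))) := by
    intro k
    rw [← map_pow, key, Units.val_pow_eq_pow_val]
  -- nontrivial powers are regular
  have hfree : ∀ k : ℕ, d ^ k ≠ 1 → ∀ t : Fx φ ((Nodes.RGDTwNode.D4.rest 1).length + 1),
      (Ph hφ hle 1 (hS (d : Fx φ ((Nodes.RGDTwNode.D4.rest 1).length + 1)))) ^ k * Ph hφ hle 1 (up t) =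
        Ph hφ hle 1 (up t) * (Ph hφ hle 1 (hS (d : Fx φ ((Nodes.RGDTwNode.D4.rest 1).length + 1)))) ^ k → t = 0 := by
    intro k hk t ht
    rw [hpowP] at ht
    refine free hφ hle (Units.ne_zero _) ?_ ht
    intro h3
    apply hk
    have h4 : (d ^ k) ^ 2 = 1 := Units.ext (by rw [Units.val_pow_eq_pow_val, h3, Units.val_one])
    have h5 : orderOf (d ^ k) ∣ 2 := orderOf_dvd_of_pow_eq_one h4
    have h6 : orderOf (d ^ k) ∣ n := by rw [← hd]; exact orderOf_pow_dvd k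
    have h7 : orderOf (d ^ k) ∣ 1 := by
      have := Nat.dvd_gcd h5 h6
      rwa [Nat.coprime_two_left.2 hn] at this
    exact orderOf_eq_one_iff.1 (Nat.dvd_one.1 h7)
  have hord : orderOf (Ph hφ hle 1 (hS (d : Fx φ ((Nodes.RGDTwNode.D4.rest 1).length + 1)))) = n := by
    apply Nat.dvd_antisymm
    · refine orderOf_dvd_of_pow_eq_one ?_
      rw [hpowP, ← hd, pow_orderOf_eq_one, Units.val_one, h1S, map_one]
    · rw [← hd]
      by_contra hcon
      have h3 : d ^ orderOf (Ph hφ hle 1 (hS (d : Fx φ ((Nodes.RGDTwNode.D4.rest 1).length + 1)))) ≠ 1 :=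
        fun h => hcon (orderOf_dvd_of_pow_eq_one h)
      have h4 := hfree _ h3 1 (by rw [pow_orderOf_eq_one, one_mul, mul_one])
      exact one_ne_zero h4
  rw [← hord]
  refine h2 _ (Cfsg.Agent.BiChar.TwDFour.Ph_hS hφ hle 1 d.ne_zero) ?_
  intro y hy hy1 u hu huc
  obtain ⟨t, rfl⟩ := (mem_X hφ hle 1 u).1 hu
  have hyp : y ∈ Submonoid.powers (Ph hφ hle 1 (hS (d : Fx φ ((Nodes.RGDTwNode.D4.rest 1).length + 1)))) := by
    rwa [mem_powers_iff_mem_zpowers]
  obtain ⟨k, rfl⟩ := hyp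
  have ht := hfree k (by
    intro h3
    apply hy1
    change (Ph hφ hle 1 (hS (d : Fx φ ((Nodes.RGDTwNode.D4.rest 1).length + 1)))) ^ k = 1
    rw [hpowP, h3, Units.val_one, h1S, map_one]) t huc
  subst ht
  have h0 : (up 0 : Matrix.SpecialLinearGroup (Fin 2) (Fx φ ((Nodes.RGDTwNode.D4.rest 1).length + 1))) = 1 := by
    apply Subtype.ext
    exact Matrix.one_fin_two.symm
  rw [h0, map_one]

/-! ### arithmetic -/

theorem arith_a {q : ℕ} (hq : 2 ≤ q) : q ^ 12 * (q ^ 2 - 1) * (q ^ 6 - 1) * (q ^ 8 + q ^ 4 + 1) =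
    (q ^ 3 + 1) * (q ^ 8 + q ^ 4 + 1) * (q ^ 12 * ((q + 1) * (q - 1) * ((q - 1) * (q ^ 2 + q + 1)))) := by
  obtain ⟨m, rfl⟩ := Nat.exists_eq_add_of_le hq
  have e1 : 2 + m - 1 = m + 1 := by omega
  have e2 : (2 + m) ^ 2 - 1 = (m + 1) * (2 + m + 1) := by
    rw [show (2 + m) ^ 2 = (m + 1) * (2 + m + 1) + 1 by ring]
    rfl
  have e6 : (2 + m) ^ 6 - 1 = (m + 1) * (((2 + m) ^ 2 + (2 + m) + 1) * ((2 + m) ^ 3 + 1)) := by
    rw [show (2 + m) ^ 6 = (m + 1) * (((2 + m) ^ 2 + (2 + m) + 1) * ((2 + m) ^ 3 + 1)) + 1 by ring]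
    rfl
  rw [e1, e2, e6]
  ring

/-- if `p ∤ C` and `N = d * s * C` then the `p`-part of `N` divides `d` times the `p`-part of `s` -/
theorem pow_dvd_of_two {N d s C p : ℕ} (hp : p.Prime) (hN : N = d * s * C) (hC : ¬ p ∣ C) (hN0 : N ≠ 0) :
    p ^ N.factorization p ∣ d * p ^ s.factorization p := by
  have hd0 : d ≠ 0 := by rintro rfl; simp at hN; exact hN0 hN
  have hs0 : s ≠ 0 := by rintro rfl; simp at hN; exact hN0 hN
  have h1 := pow_dvd_of hp hN hC
  have h2 : N.factorization p ≤ (d * s).factorization p :=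
    (hp.pow_dvd_iff_le_factorization (mul_ne_zero hd0 hs0)).1 h1
  rw [Nat.factorization_mul hd0 hs0, Finsupp.add_apply] at h2
  refine (pow_dvd_pow p h2).trans ?_
  rw [pow_add]
  exact mul_dvd_mul (Nat.ordProj_dvd d p) (dvd_refl _)

theorem dz_of_not_dvd (hq : IsPrimePow q) (hK : Fintype.card K = q ^ 3) {p : ℕ} [hpf : Fact p.Prime] (hpq : ¬ p ∣ q)
    (h1 : ¬ p ∣ q - 1) (h2 : ¬ p ∣ q + 1) (h3 : ¬ p ∣ q ^ 2 + q + 1) : H665.NoPQ.HasDZ p ↥(twistedD4 K q) := by
  have hpp := hpf.out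
  obtain ⟨χ, m, hχ, -⟩ := char_all hq hK
  have : Finite ↥(twistedD4 K q) := inferInstance
  refine hasDZ_of_degree χ.2 (Cfsg.Agent.Blocks.Basic.irr_one_eq_charDegree χ.2) ?_
  rw [hχ]
  refine (pow_dvd_of hpp (C := q ^ 12 * ((q + 1) * (q - 1) * ((q - 1) * (q ^ 2 + q + 1)))) ?_ ?_).mul_right m
  · rw [Cfsg.Agent.S1067.result hq hK, arith_a hq.two_le]
  · intro h
    rcases hpp.dvd_mul.1 h with h | h
    · exact hpq (hpp.dvd_of_dvd_pow h)
    · rcases hpp.dvd_mul.1 h with h | h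
      · rcases hpp.dvd_mul.1 h with h | h
        · exact h2 h
        · exact h1 h
      · rcases hpp.dvd_mul.1 h with h | h
        · exact h1 h
        · exact h3 h

theorem arith_b {q : ℕ} (hq : 2 ≤ q) : q ^ 12 * (q ^ 2 - 1) * (q ^ 6 - 1) * (q ^ 8 + q ^ 4 + 1) =
    (q + 1) * (q ^ 8 + q ^ 4 + 1) * (q ^ 3 - 1) * (q ^ 12 * ((q - 1) * (q ^ 3 + 1))) := by
  obtain ⟨m, rfl⟩ := Nat.exists_eq_add_of_le hq
  have e1 : 2 + m - 1 = m + 1 := by omega
  have e2 : (2 + m) ^ 2 - 1 = (m + 1) * (2 + m + 1) := by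
    rw [show (2 + m) ^ 2 = (m + 1) * (2 + m + 1) + 1 by ring]
    rfl
  have e3 : (2 + m) ^ 3 - 1 = (m + 1) * ((2 + m) ^ 2 + (2 + m) + 1) := by
    rw [show (2 + m) ^ 3 = (m + 1) * ((2 + m) ^ 2 + (2 + m) + 1) + 1 by ring]
    rfl
  have e6 : (2 + m) ^ 6 - 1 = (m + 1) * (((2 + m) ^ 2 + (2 + m) + 1) * ((2 + m) ^ 3 + 1)) := by
    rw [show (2 + m) ^ 6 = (m + 1) * (((2 + m) ^ 2 + (2 + m) + 1) * ((2 + m) ^ 3 + 1)) + 1 by ring]
    rfl
  rw [e1, e2, e3, e6]
  ring

/-- a prime `p` with `p ∣ q ^ 3 - 1`, `p ≠ 2` does not divide `q ^ 3 + 1` -/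
theorem not_dvd_cube {q p : ℕ} (hp : p.Prime) (hp2 : p ≠ 2) (hq : 1 ≤ q) (h : p ∣ q ^ 3 - 1) : ¬ p ∣ q ^ 3 + 1 := by
  intro h1
  have h2 : p ∣ (q ^ 3 + 1) - (q ^ 3 - 1) := Nat.dvd_sub h1 h
  have h3 : 1 ≤ q ^ 3 := Nat.one_le_pow _ _ hq
  have h4 : (q ^ 3 + 1) - (q ^ 3 - 1) = 2 := by omega
  rw [h4] at h2
  exact hp2 ((Nat.prime_dvd_prime_iff_eq hp Nat.prime_two).1 h2)

theorem dz_of_dvd (hq : IsPrimePow q) (h4 : 4 ≤ q) (hK : Fintype.card K = q ^ 3) {p : ℕ} [hpf : Fact p.Prime]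
    (hpq : ¬ p ∣ q) (hp2 : p ≠ 2) (h1 : ¬ p ∣ q - 1) (h3 : p ∣ q ^ 3 - 1) : H665.NoPQ.HasDZ p ↥(twistedD4 K q) := by
  have hpp := hpf.out
  obtain ⟨χ, m, hχ, hm⟩ := char_one hq h4 hK
  have : Finite ↥(twistedD4 K q) := inferInstance
  refine hasDZ_of_degree χ.2 (Cfsg.Agent.Blocks.Basic.irr_one_eq_charDegree χ.2) ?_
  rw [hχ]
  have hcard := Cfsg.Agent.S1067.result hq hK
  refine (pow_dvd_of_two hpp (d := (q + 1) * (q ^ 8 + q ^ 4 + 1)) (s := q ^ 3 - 1)
    (C := q ^ 12 * ((q - 1) * (q ^ 3 + 1))) ?_ ?_ Nat.card_pos.ne').trans (mul_dvd_mul (dvd_refl _) (hm _ ?_ ?_))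
  · rw [hcard, arith_b hq.two_le]
  · intro h
    rcases hpp.dvd_mul.1 h with h | h
    · exact hpq (hpp.dvd_of_dvd_pow h)
    · rcases hpp.dvd_mul.1 h with h | h
      · exact h1 h
      · exact not_dvd_cube hpp hp2 (by omega) h3 h
  · exact (hpp.odd_of_ne_two hp2).pow
  · exact Nat.ordProj_dvd _ p

end Cfsg.Agent.H139.Van.TwD4
end

-- part: H139/Van/Tab28
section
/-!
# Kernel checks for `28 × 28` matrices modulo small primes (helper139)

A row is a natural number with the digits in base `4`.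
-/

set_option autoImplicit false

namespace Cfsg.Agent.H139.Van.Tab28

open Cfsg.Lie

/-- `force n f` is `f n`, but the kernel evaluates `n` to a literal first. -/
@[reducible] def force {α : Sort _} (n : ℕ) (f : ℕ → α) : α :=
  Nat.rec (f 0) (fun k _ => f (Nat.succ k)) n

theorem force_eq {α : Sort _} (n : ℕ) (f : ℕ → α) : force n f = f n := by
  cases n <;> rfl

/-- the scalar product of two rows -/
def dot (a b : ℕ) : ℕ → ℕ
  | 0 => 0
  | k + 1 => dot a b k + (a / 4 ^ k % 4) * (b / 4 ^ k % 4)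

theorem dot_eq (a b n : ℕ) : dot a b n = ∑ k : Fin n, (a / 4 ^ (k : ℕ) % 4) * (b / 4 ^ (k : ℕ) % 4) := by
  induction n with
  | zero => simp [dot]
  | succ n ih => rw [dot, ih, Fin.sum_univ_castSucc]; rfl

/-- the matrix -/
def M (p : ℕ) (L : List ℕ) : Matrix (Fin 28) (Fin 28) (ZMod p) := fun i j => ((L.getD i 0 / 4 ^ (j : ℕ) % 4 : ℕ) : ZMod p)

/-- the check of a product `A * Bᵀ = C` -/
def chk (p : ℕ) (A BT C : List ℕ) : Bool :=
  (List.range 28).all fun i => force (A.getD i 0) fun a => force (C.getD i 0) fun c =>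
    (List.range 28).all fun j => force (BT.getD j 0) fun b => dot a b 28 % p == c / 4 ^ j % 4

theorem mul_of_chk {p : ℕ} {A BT C : List ℕ} (h : chk p A BT C = true) : M p A * (M p BT).transpose = M p C := by
  ext i j
  unfold chk at h
  rw [List.all_eq_true] at h
  have h1 := h i (List.mem_range.2 i.2)
  rw [force_eq, force_eq, List.all_eq_true] at h1
  have h2 := h1 j (List.mem_range.2 j.2)
  rw [force_eq, beq_iff_eq, dot_eq] at h2
  rw [Matrix.mul_apply]
  change ∑ k : Fin 28, ((A.getD i 0 / 4 ^ (k : ℕ) % 4 : ℕ) : ZMod p) * ((BT.getD j 0 / 4 ^ (k : ℕ) % 4 : ℕ) : ZMod p) =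
    ((C.getD i 0 / 4 ^ (j : ℕ) % 4 : ℕ) : ZMod p)
  rw [← h2, ZMod.natCast_mod, Nat.cast_sum]
  refine Finset.sum_congr rfl fun k _ => ?_
  rw [Nat.cast_mul]

/-- the check of a transpose -/
def chkT (A AT : List ℕ) : Bool :=
  (List.range 28).all fun i => force (A.getD i 0) fun a =>
    (List.range 28).all fun j => force (AT.getD j 0) fun b => a / 4 ^ j % 4 == b / 4 ^ i % 4

theorem tr_of_chk {A AT : List ℕ} (h : chkT A AT = true) (p : ℕ) : (M p AT).transpose = M p A := by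
  ext i j
  unfold chkT at h
  rw [List.all_eq_true] at h
  have h1 := h i (List.mem_range.2 i.2)
  rw [force_eq, List.all_eq_true] at h1
  have h2 := h1 j (List.mem_range.2 j.2)
  rw [force_eq, beq_iff_eq] at h2
  change ((AT.getD j 0 / 4 ^ (i : ℕ) % 4 : ℕ) : ZMod p) = ((A.getD i 0 / 4 ^ (j : ℕ) % 4 : ℕ) : ZMod p)
  rw [h2]

/-- the numbering of the basis -/
def e : chevD4.Idx ≃ Fin 28 := finSumFinEquiv

/-- the matrix on the basis of the Lie algebra -/
def N (p : ℕ) (L : List ℕ) : Matrix chevD4.Idx chevD4.Idx (ZMod p) := (M p L).submatrix e e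

theorem N_mul {p : ℕ} {A BT C : List ℕ} (h : chk p A BT C = true) : N p A * (N p BT).transpose = N p C := by
  unfold N
  rw [← mul_of_chk h, Matrix.transpose_submatrix, Matrix.submatrix_mul_equiv]

theorem N_tr {A AT : List ℕ} (h : chkT A AT = true) (p : ℕ) : (N p AT).transpose = N p A := by
  unfold N
  rw [← tr_of_chk h, Matrix.transpose_submatrix]

end Cfsg.Agent.H139.Van.Tab28
end

-- part: H139/Van/Tab28Two
section
/-!
# An element of order 7 of `³D₄(2)`: tables (helper139)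

The product of the root elements with the parameters `±1` in characteristic 2: its power `7` is `1`, its trace is `0`.
-/

set_option autoImplicit false

namespace Cfsg.Agent.H139.Van.Tab28Two

open Cfsg.Lie Cfsg.Agent.H139.Van.Tab28

def g14 : List ℕ :=
  [0x1000000001, 0x4, 0x1000000010, 0x1000000040, 0x500, 0x400, 0x1000, 0x4000, 0x50000, 0x40000, 0x100000,
    0x10400000, 0x41000000, 0x1004000004, 0x10000000, 0x40000000, 0x4100000000, 0x10400000000, 0x1000000000,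
    0x4000000000, 0x10000000000, 0x40000000000, 0x500000000000, 0x400000000000, 0x1000000000000, 0x4000000000000,
    0x50000000000000, 0x40000000000000]

def g9 : List ℕ :=
  [0x4000001, 0x4, 0x4000010, 0x4000040, 0x100, 0x500, 0x1000, 0x4000, 0x10000, 0x50000, 0x100000, 0x400000,
    0x1000000, 0x4000000, 0x10400000, 0x41000000, 0x100000000, 0x400000000, 0x1004000004, 0x4100000000,
    0x10400000000, 0x40000000000, 0x100000000000, 0x500000000000, 0x1000000000000, 0x4000000000000,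
    0x10000000000000, 0x50000000000000]

def g18 : List ℕ :=
  [0x1, 0x100000000004, 0x10, 0x40, 0x100, 0x100400, 0x401000, 0x1004000, 0x4010000, 0x100000040001, 0x100000,
    0x400000, 0x1000000, 0x4000000, 0x10000000, 0x40000000, 0x100000000, 0x400000000, 0x401000000000,
    0x1004000000000, 0x4010000000000, 0x10040000000000, 0x100000000000, 0x400000000000, 0x1000000000000,
    0x4000000000000, 0x10000000000000, 0x40000000000000]

def g13 : List ℕ :=
  [0x1, 0x400000004, 0x10, 0x40, 0x100, 0x4400, 0x11000, 0x4000, 0x10000, 0x40000, 0x1100000, 0x4400000, 0x1000000,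
    0x4000000, 0x410000010, 0x40000000, 0x100000000, 0x400000000, 0x11000000000, 0x44000000000, 0x10000000000,
    0x40000000000, 0x100000000000, 0x4400000000000, 0x11000000000000, 0x4000000000000, 0x10000000000000,
    0x40000000000000]

def g12 : List ℕ :=
  [0x1, 0x100000004, 0x10, 0x40, 0x100, 0x1400, 0x1000, 0x14000, 0x10000, 0x40000, 0x500000, 0x400000, 0x5000000,
    0x4000000, 0x10000000, 0x140000040, 0x100000000, 0x400000000, 0x5000000000, 0x4000000000, 0x50000000000,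
    0x40000000000, 0x100000000000, 0x1400000000000, 0x1000000000000, 0x14000000000000, 0x10000000000000,
    0x40000000000000]

def g5 : List ℕ :=
  [0x1, 0x40004, 0x10, 0x40, 0x100, 0x400, 0x1000, 0x4000, 0x10000, 0x40000, 0x100400, 0x401000, 0x1004000,
    0x4010000, 0x10000000, 0x40000000, 0x100000000, 0x400000000, 0x1000000000, 0x4000000000, 0x10000000000,
    0x40000000000, 0x100000040001, 0x401000000000, 0x1004000000000, 0x4010000000000, 0x10040000000000,
    0x40000000000000]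

def g10 : List ℕ :=
  [0x1, 0x10000004, 0x10, 0x40, 0x100, 0x400, 0x1000, 0x4400, 0x11000, 0x40000, 0x100000, 0x400000, 0x1100000,
    0x4400000, 0x10000000, 0x40000000, 0x100000000, 0x410000010, 0x1000000000, 0x4000000000, 0x11000000000,
    0x44000000000, 0x100000000000, 0x400000000000, 0x1000000000000, 0x4400000000000, 0x11000000000000,
    0x40000000000000]

def g11 : List ℕ :=
  [0x1, 0x40000004, 0x10, 0x40, 0x100, 0x400, 0x1400, 0x4000, 0x14000, 0x40000, 0x100000, 0x500000, 0x1000000,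
    0x5000000, 0x10000000, 0x40000000, 0x140000040, 0x400000000, 0x1000000000, 0x5000000000, 0x10000000000,
    0x50000000000, 0x100000000000, 0x400000000000, 0x1400000000000, 0x4000000000000, 0x14000000000000,
    0x40000000000000]

def p0 : List ℕ :=
  [0x1, 0x4000004, 0x10, 0x40, 0x100, 0x500, 0x1000, 0x4000, 0x10000, 0x50000, 0x100000, 0x400000, 0x1000000,
    0x4000000, 0x10400000, 0x41000000, 0x100000000, 0x400000000, 0x1004000051, 0x4100000000, 0x10400000000,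
    0x40000000000, 0x100000000000, 0x500000000000, 0x1000000000000, 0x4000000000000, 0x10000000000000,
    0x50000000000000]

def p1 : List ℕ :=
  [0x1, 0x4000055, 0x10, 0x40, 0x500, 0x100, 0x1000, 0x4000, 0x50000, 0x10000, 0x100000, 0x10400000, 0x41000000,
    0x1004000051, 0x400000, 0x1000000, 0x4100000000, 0x10400000000, 0x4000000, 0x100000000, 0x400000000,
    0x40000000000, 0x500000000000, 0x100000000000, 0x1000000000000, 0x4000000000000, 0x50000000000000,
    0x10000000000000]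

def p2 : List ℕ :=
  [0x40001, 0x4050055, 0x10, 0x40, 0x500, 0x100, 0x1000, 0x4000, 0x50000, 0x10000, 0x100400, 0x10401000,
    0x41004000, 0x1004050051, 0x401000, 0x1004000, 0x4100000000, 0x10400000000, 0x4010000, 0x100000000,
    0x400000000, 0x40000000000, 0x501000040004, 0x100000040004, 0x1004000000000, 0x4010000000000, 0x50040000000000,
    0x10040000000000]

def p3 : List ℕ :=
  [0x40001, 0x14451055, 0x10000010, 0x40, 0x500, 0x100, 0x1000, 0x4400, 0x51000, 0x11000, 0x100400, 0x10401000,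
    0x41104400, 0x1014451051, 0x401000, 0x1104400, 0x4100000000, 0x11410000004, 0x4411000, 0x100000000,
    0x410000004, 0x44000000000, 0x501000040004, 0x100000040004, 0x1004000000000, 0x4411000000000, 0x51044000000000,
    0x11044000000000]

def p4 : List ℕ :=
  [0x40001, 0x55555455, 0x10000010, 0x40000040, 0x500, 0x100, 0x1400, 0x4400, 0x55400, 0x15400, 0x100400,
    0x10501400, 0x41104400, 0x1055555451, 0x501400, 0x1104400, 0x5140000004, 0x11410000004, 0x5515400, 0x140000004,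
    0x410000004, 0x55000000000, 0x501000040004, 0x100000040004, 0x1405000000000, 0x4411000000000, 0x55455000000000,
    0x15455000000000]

def p5 : List ℕ :=
  [0x40005, 0x50055451, 0x10000010, 0x40000040, 0x100500, 0x100, 0x501400, 0x1104400, 0x100005555404, 0x5515400,
    0x400, 0x10001400, 0x40004400, 0x401050055455, 0x1400, 0x4400, 0x1405140000004, 0x4411410000004, 0x15400,
    0x140000004, 0x410000004, 0x15455000000000, 0x1000040000, 0x40000, 0x5000000000, 0x11000000000,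
    0x40055000000000, 0x55000000000]

def p6 : List ℕ :=
  [0x40005, 0x50041455, 0x10000014, 0x40000040, 0x1104500, 0x100, 0x5515400, 0x100400, 0x100000541404, 0x501400,
    0x4400, 0x410015404, 0x40000400, 0x4411050041451, 0x15400, 0x400, 0x15455140000004, 0x401010000000, 0x1400,
    0x140000004, 0x10000000, 0x1405000000000, 0x11000040000, 0x40000, 0x55000000000, 0x1000000000,
    0x40005000000000, 0x5000000000]

def p7 : List ℕ :=
  [0x40005, 0x50040451, 0x10000014, 0x40000044, 0x5515500, 0x100, 0x1104400, 0x501400, 0x100000140404, 0x100400,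
    0x15400, 0x410004404, 0x140001404, 0x15455050040455, 0x4400, 0x1400, 0x4411040000000, 0x1405010000000, 0x400,
    0x40000000, 0x10000000, 0x401000000000, 0x55000040000, 0x40000, 0x11000000000, 0x5000000000, 0x40001000000000,
    0x1000000000]

def xT : List ℕ :=
  [0x4000005, 0x5410051, 0x4000014, 0x4000044, 0x500, 0x1055555104, 0x41104100, 0x10501100, 0x100100,
    0x500004010005, 0x55100, 0x4100, 0x1100, 0x100, 0x10404400014, 0x4105000044, 0x1000000, 0x400000,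
    0x55140504000000, 0x4100404000000, 0x1100104000000, 0x100004000000, 0x10000, 0x40504000000, 0x404000000,
    0x104000000, 0x4000000, 0x10000000000000]

def x2 : List ℕ :=
  [0x50100054, 0x50145555, 0x40044045, 0x10041015, 0x15555504000051, 0x5515500, 0x140515504, 0x411115504,
    0x55050115551, 0x15500, 0x100001545504, 0x1405040545551, 0x4411011145551, 0x40414050145504, 0x501500,
    0x1104500, 0x5010041000, 0x11040044000, 0x100, 0x1400, 0x4400, 0x40400, 0x401050100000, 0x100400, 0x10000400,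
    0x40000400, 0x1000000400, 0x400]

def x4 : List ℕ :=
  [0x100000000001, 0x15455000000004, 0x400000010, 0x100000040, 0x40000000000000, 0x50000000000000,
    0x14000000000000, 0x11000000000000, 0x15400000000000, 0x15500000000000, 0x10040000000000, 0x14050000000000,
    0x11044000000000, 0x15455000000000, 0x14050400000000, 0x11044100000000, 0x140000004, 0x410000004,
    0x15555504000051, 0x145000004, 0x414400004, 0x5500000, 0x100000040004, 0x100004050004, 0x5014000, 0x4411000,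
    0x5515400, 0x5515500]

def x6 : List ℕ :=
  [0x401000000054, 0x1000000055, 0x11000000045, 0x5000000015, 0x400, 0x1000000000, 0x1040000000, 0x1010000000,
    0x1050100000, 0x400000000000, 0x1000040000, 0x1040044000, 0x1010041000, 0x1050145500, 0x10000000000,
    0x4000000000, 0x5041000055, 0x11010400055, 0x40000000000000, 0x44000000000000, 0x41000000000000,
    0x45500000000000, 0x401000050055, 0x40040000000000, 0x44050400000000, 0x41044100000000, 0x45555504000051,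
    0x50000000000000]

def x7 : List ℕ :=
  [0x1, 0x4, 0x10, 0x40, 0x100, 0x400, 0x1000, 0x4000, 0x10000, 0x40000, 0x100000, 0x400000, 0x1000000, 0x4000000,
    0x10000000, 0x40000000, 0x100000000, 0x400000000, 0x1000000000, 0x4000000000, 0x10000000000, 0x40000000000,
    0x100000000000, 0x400000000000, 0x1000000000000, 0x4000000000000, 0x10000000000000, 0x40000000000000]

def x2T : List ℕ :=
  [0x1410154, 0x4105055, 0x1410145, 0x1410115, 0x1055555404, 0x55454055555404, 0x4115555444, 0x10445555414,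
    0x55400, 0x40505500054, 0x500055515405, 0x10501400, 0x41104400, 0x500, 0x1100105014045, 0x4100404411015,
    0x1100, 0x4100, 0x10100501410100, 0x104410100, 0x405010100, 0x10100, 0x100100, 0x100005400100, 0x400100,
    0x1000100, 0x100, 0x4000000]

def x4T : List ℕ :=
  [0x1000000001, 0x514500000004, 0x1000000010, 0x1000000040, 0x40000000000000, 0x50000000000000, 0x54000000000000,
    0x51000000000000, 0x55400000000000, 0x500000000000, 0x50040000000000, 0x54050000000000, 0x51044000000000,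
    0x55455000000000, 0x10400000000, 0x4100000000, 0x5140000040, 0x11410000010, 0x1004000004, 0x1045000004,
    0x1014400004, 0x1055500004, 0x501000040001, 0x1004050004, 0x1045054004, 0x1014451004, 0x1055555404, 0x500]

/-! ### the generators -/

instance : Fact (Nat.Prime 2) := ⟨by norm_num⟩

set_option maxRecDepth 100000

private noncomputable def _root_.Cfsg.Agent.LsF.fddb9f4_0 : {f // @Cfsg.Lie.ChevalleyDatum.chainCoeff = f} := ⟨_, by first | (delta Cfsg.Lie.ChevalleyDatum.chainCoeff; rewrite [Cfsg.Agent.LsF.nadd_pat, Cfsg.Agent.LsF.instDecEq_eq, Cfsg.Agent.LsF.map_eq, Cfsg.Agent.LsF.flatMap_eq, Cfsg.Agent.LsF.filter_eq, Cfsg.Agent.LsF.agetD_eq, Cfsg.Agent.LsF.zipIdx_eq, Cfsg.Agent.LsF.decide_eq]; exact rfl) | exact rfl⟩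
private noncomputable def _root_.Cfsg.Agent.LsF.fddb9f4_1 : {f // @Cfsg.Agent.H139.Van.Tab28.M = f} := ⟨_, by first | (delta Cfsg.Agent.H139.Van.Tab28.M; rewrite [Cfsg.Agent.LsF.ndiv_pat, Cfsg.Agent.LsF.nmod_pat, Cfsg.Agent.LsF.npow_pat, Cfsg.Agent.LsF.getD_eq]; exact rfl) | exact rfl⟩
private noncomputable def _root_.Cfsg.Agent.LsF.fddb9f4_2 : {f // @Cfsg.Agent.H139.Van.Tab28.N = f} := ⟨_, by first | (delta Cfsg.Agent.H139.Van.Tab28.N; rewrite [Cfsg.Agent.LsF.fddb9f4_1.2]; exact rfl) | exact rfl⟩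
theorem x_14 : chevD4.xMat (ZMod 2) ⟨14, by decide⟩ (1) = (N 2 g14).transpose := by
  (refine of_decide_eq_true ?_; (try (delta Cfsg.Lie.ChevalleyDatum.xMat; rewrite [Cfsg.Agent.LsF.fddb9f4_0.2, Cfsg.Agent.LsF.fddb9f4_2.2, Cfsg.Agent.LsF.mof_pat, Cfsg.Agent.LsF.zadd_pat, Cfsg.Agent.LsF.zmul_pat, Cfsg.Agent.LsF.zneg_pat, Cfsg.Agent.LsF.zdecEq_eq, Cfsg.Agent.LsF.finFintype_eq, Cfsg.Agent.LsF.dMat_eq, Cfsg.Agent.LsF.transpose_eq, Cfsg.Agent.LsF.instZAdd_pat, Cfsg.Agent.LsF.instDecEq_eq, Cfsg.Agent.LsF.map_eq, Cfsg.Agent.LsF.sum_eq, Cfsg.Agent.LsF.agetD_eq, Cfsg.Agent.LsF.dFinEq_eq, Cfsg.Agent.LsF.ite_eq])); decide +kernel)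

theorem x_9 : chevD4.xMat (ZMod 2) ⟨9, by decide⟩ (1) = (N 2 g9).transpose := by
  (refine of_decide_eq_true ?_; (try (delta Cfsg.Lie.ChevalleyDatum.xMat; rewrite [Cfsg.Agent.LsF.fddb9f4_0.2, Cfsg.Agent.LsF.fddb9f4_2.2, Cfsg.Agent.LsF.mof_pat, Cfsg.Agent.LsF.zadd_pat, Cfsg.Agent.LsF.zmul_pat, Cfsg.Agent.LsF.zneg_pat, Cfsg.Agent.LsF.zdecEq_eq, Cfsg.Agent.LsF.finFintype_eq, Cfsg.Agent.LsF.dMat_eq, Cfsg.Agent.LsF.transpose_eq, Cfsg.Agent.LsF.instZAdd_pat, Cfsg.Agent.LsF.instDecEq_eq, Cfsg.Agent.LsF.map_eq, Cfsg.Agent.LsF.sum_eq, Cfsg.Agent.LsF.agetD_eq, Cfsg.Agent.LsF.dFinEq_eq, Cfsg.Agent.LsF.ite_eq])); decide +kernel)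

theorem x_18 : chevD4.xMat (ZMod 2) ⟨18, by decide⟩ (1) = (N 2 g18).transpose := by
  (refine of_decide_eq_true ?_; (try (delta Cfsg.Lie.ChevalleyDatum.xMat; rewrite [Cfsg.Agent.LsF.fddb9f4_0.2, Cfsg.Agent.LsF.fddb9f4_2.2, Cfsg.Agent.LsF.mof_pat, Cfsg.Agent.LsF.zadd_pat, Cfsg.Agent.LsF.zmul_pat, Cfsg.Agent.LsF.zneg_pat, Cfsg.Agent.LsF.zdecEq_eq, Cfsg.Agent.LsF.finFintype_eq, Cfsg.Agent.LsF.dMat_eq, Cfsg.Agent.LsF.transpose_eq, Cfsg.Agent.LsF.instZAdd_pat, Cfsg.Agent.LsF.instDecEq_eq, Cfsg.Agent.LsF.map_eq, Cfsg.Agent.LsF.sum_eq, Cfsg.Agent.LsF.agetD_eq, Cfsg.Agent.LsF.dFinEq_eq, Cfsg.Agent.LsF.ite_eq])); decide +kernel)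

theorem x_13 : chevD4.xMat (ZMod 2) ⟨13, by decide⟩ (1) = (N 2 g13).transpose := by
  (refine of_decide_eq_true ?_; (try (delta Cfsg.Lie.ChevalleyDatum.xMat; rewrite [Cfsg.Agent.LsF.fddb9f4_0.2, Cfsg.Agent.LsF.fddb9f4_2.2, Cfsg.Agent.LsF.mof_pat, Cfsg.Agent.LsF.zadd_pat, Cfsg.Agent.LsF.zmul_pat, Cfsg.Agent.LsF.zneg_pat, Cfsg.Agent.LsF.zdecEq_eq, Cfsg.Agent.LsF.finFintype_eq, Cfsg.Agent.LsF.dMat_eq, Cfsg.Agent.LsF.transpose_eq, Cfsg.Agent.LsF.instZAdd_pat, Cfsg.Agent.LsF.instDecEq_eq, Cfsg.Agent.LsF.map_eq, Cfsg.Agent.LsF.sum_eq, Cfsg.Agent.LsF.agetD_eq, Cfsg.Agent.LsF.dFinEq_eq, Cfsg.Agent.LsF.ite_eq])); decide +kernel)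

theorem x_12 : chevD4.xMat (ZMod 2) ⟨12, by decide⟩ (1) = (N 2 g12).transpose := by
  (refine of_decide_eq_true ?_; (try (delta Cfsg.Lie.ChevalleyDatum.xMat; rewrite [Cfsg.Agent.LsF.fddb9f4_0.2, Cfsg.Agent.LsF.fddb9f4_2.2, Cfsg.Agent.LsF.mof_pat, Cfsg.Agent.LsF.zadd_pat, Cfsg.Agent.LsF.zmul_pat, Cfsg.Agent.LsF.zneg_pat, Cfsg.Agent.LsF.zdecEq_eq, Cfsg.Agent.LsF.finFintype_eq, Cfsg.Agent.LsF.dMat_eq, Cfsg.Agent.LsF.transpose_eq, Cfsg.Agent.LsF.instZAdd_pat, Cfsg.Agent.LsF.instDecEq_eq, Cfsg.Agent.LsF.map_eq, Cfsg.Agent.LsF.sum_eq, Cfsg.Agent.LsF.agetD_eq, Cfsg.Agent.LsF.dFinEq_eq, Cfsg.Agent.LsF.ite_eq])); decide +kernel)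

theorem x_5 : chevD4.xMat (ZMod 2) ⟨5, by decide⟩ (-1) = (N 2 g5).transpose := by
  (refine of_decide_eq_true ?_; (try (delta Cfsg.Lie.ChevalleyDatum.xMat; rewrite [Cfsg.Agent.LsF.fddb9f4_0.2, Cfsg.Agent.LsF.fddb9f4_2.2, Cfsg.Agent.LsF.mof_pat, Cfsg.Agent.LsF.zadd_pat, Cfsg.Agent.LsF.zmul_pat, Cfsg.Agent.LsF.zneg_pat, Cfsg.Agent.LsF.zdecEq_eq, Cfsg.Agent.LsF.finFintype_eq, Cfsg.Agent.LsF.dMat_eq, Cfsg.Agent.LsF.transpose_eq, Cfsg.Agent.LsF.instZAdd_pat, Cfsg.Agent.LsF.instDecEq_eq, Cfsg.Agent.LsF.map_eq, Cfsg.Agent.LsF.sum_eq, Cfsg.Agent.LsF.agetD_eq, Cfsg.Agent.LsF.dFinEq_eq, Cfsg.Agent.LsF.ite_eq])); decide +kernel)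

theorem x_10 : chevD4.xMat (ZMod 2) ⟨10, by decide⟩ (-1) = (N 2 g10).transpose := by
  (refine of_decide_eq_true ?_; (try (delta Cfsg.Lie.ChevalleyDatum.xMat; rewrite [Cfsg.Agent.LsF.fddb9f4_0.2, Cfsg.Agent.LsF.fddb9f4_2.2, Cfsg.Agent.LsF.mof_pat, Cfsg.Agent.LsF.zadd_pat, Cfsg.Agent.LsF.zmul_pat, Cfsg.Agent.LsF.zneg_pat, Cfsg.Agent.LsF.zdecEq_eq, Cfsg.Agent.LsF.finFintype_eq, Cfsg.Agent.LsF.dMat_eq, Cfsg.Agent.LsF.transpose_eq, Cfsg.Agent.LsF.instZAdd_pat, Cfsg.Agent.LsF.instDecEq_eq, Cfsg.Agent.LsF.map_eq, Cfsg.Agent.LsF.sum_eq, Cfsg.Agent.LsF.agetD_eq, Cfsg.Agent.LsF.dFinEq_eq, Cfsg.Agent.LsF.ite_eq])); decide +kernel)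

theorem x_11 : chevD4.xMat (ZMod 2) ⟨11, by decide⟩ (-1) = (N 2 g11).transpose := by
  (refine of_decide_eq_true ?_; (try (delta Cfsg.Lie.ChevalleyDatum.xMat; rewrite [Cfsg.Agent.LsF.fddb9f4_0.2, Cfsg.Agent.LsF.fddb9f4_2.2, Cfsg.Agent.LsF.mof_pat, Cfsg.Agent.LsF.zadd_pat, Cfsg.Agent.LsF.zmul_pat, Cfsg.Agent.LsF.zneg_pat, Cfsg.Agent.LsF.zdecEq_eq, Cfsg.Agent.LsF.finFintype_eq, Cfsg.Agent.LsF.dMat_eq, Cfsg.Agent.LsF.transpose_eq, Cfsg.Agent.LsF.instZAdd_pat, Cfsg.Agent.LsF.instDecEq_eq, Cfsg.Agent.LsF.map_eq, Cfsg.Agent.LsF.sum_eq, Cfsg.Agent.LsF.agetD_eq, Cfsg.Agent.LsF.dFinEq_eq, Cfsg.Agent.LsF.ite_eq])); decide +kernel)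

/-! ### the products -/

theorem tr0 : chkT p0 g14 = true := by decide +kernel
theorem c1 : chk 2 p0 g9 p1 = true := by (delta Cfsg.Agent.H139.Van.Tab28.dot Cfsg.Agent.H139.Van.Tab28.chk Cfsg.Agent.H139.Van.Tab28.dot._f; rewrite [H90F.bn_fun, H90F.ld_fun, H90F.al_fun, H90F.a1_fun, H90F.a2_fun, H90F.a4_fun, H90F.a5_fun, H90F.a6_fun]; decide +kernel)
theorem c2 : chk 2 p1 g18 p2 = true := by (delta Cfsg.Agent.H139.Van.Tab28.dot Cfsg.Agent.H139.Van.Tab28.chk Cfsg.Agent.H139.Van.Tab28.dot._f; rewrite [H90F.bn_fun, H90F.ld_fun, H90F.al_fun, H90F.a1_fun, H90F.a2_fun, H90F.a4_fun, H90F.a5_fun, H90F.a6_fun]; decide +kernel)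
theorem c3 : chk 2 p2 g13 p3 = true := by (delta Cfsg.Agent.H139.Van.Tab28.dot Cfsg.Agent.H139.Van.Tab28.chk Cfsg.Agent.H139.Van.Tab28.dot._f; rewrite [H90F.bn_fun, H90F.ld_fun, H90F.al_fun, H90F.a1_fun, H90F.a2_fun, H90F.a4_fun, H90F.a5_fun, H90F.a6_fun]; decide +kernel)
theorem c4 : chk 2 p3 g12 p4 = true := by (delta Cfsg.Agent.H139.Van.Tab28.dot Cfsg.Agent.H139.Van.Tab28.chk Cfsg.Agent.H139.Van.Tab28.dot._f; rewrite [H90F.bn_fun, H90F.ld_fun, H90F.al_fun, H90F.a1_fun, H90F.a2_fun, H90F.a4_fun, H90F.a5_fun, H90F.a6_fun]; decide +kernel)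
theorem c5 : chk 2 p4 g5 p5 = true := by (delta Cfsg.Agent.H139.Van.Tab28.dot Cfsg.Agent.H139.Van.Tab28.chk Cfsg.Agent.H139.Van.Tab28.dot._f; rewrite [H90F.bn_fun, H90F.ld_fun, H90F.al_fun, H90F.a1_fun, H90F.a2_fun, H90F.a4_fun, H90F.a5_fun, H90F.a6_fun]; decide +kernel)
theorem c6 : chk 2 p5 g10 p6 = true := by (delta Cfsg.Agent.H139.Van.Tab28.dot Cfsg.Agent.H139.Van.Tab28.chk Cfsg.Agent.H139.Van.Tab28.dot._f; rewrite [H90F.bn_fun, H90F.ld_fun, H90F.al_fun, H90F.a1_fun, H90F.a2_fun, H90F.a4_fun, H90F.a5_fun, H90F.a6_fun]; decide +kernel)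
theorem c7 : chk 2 p6 g11 p7 = true := by (delta Cfsg.Agent.H139.Van.Tab28.dot Cfsg.Agent.H139.Van.Tab28.chk Cfsg.Agent.H139.Van.Tab28.dot._f; rewrite [H90F.bn_fun, H90F.ld_fun, H90F.al_fun, H90F.a1_fun, H90F.a2_fun, H90F.a4_fun, H90F.a5_fun, H90F.a6_fun]; decide +kernel)
theorem trX : chkT p7 xT = true := by decide +kernel
theorem d2 : chk 2 p7 xT x2 = true := by (delta Cfsg.Agent.H139.Van.Tab28.dot Cfsg.Agent.H139.Van.Tab28.chk Cfsg.Agent.H139.Van.Tab28.dot._f; rewrite [H90F.bn_fun, H90F.ld_fun, H90F.al_fun, H90F.a1_fun, H90F.a2_fun, H90F.a4_fun, H90F.a5_fun, H90F.a6_fun]; decide +kernel)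
theorem tr2 : chkT x2 x2T = true := by decide +kernel
theorem d4 : chk 2 x2 x2T x4 = true := by (delta Cfsg.Agent.H139.Van.Tab28.dot Cfsg.Agent.H139.Van.Tab28.chk Cfsg.Agent.H139.Van.Tab28.dot._f; rewrite [H90F.bn_fun, H90F.ld_fun, H90F.al_fun, H90F.a1_fun, H90F.a2_fun, H90F.a4_fun, H90F.a5_fun, H90F.a6_fun]; decide +kernel)
theorem d6 : chk 2 x4 x2T x6 = true := by (delta Cfsg.Agent.H139.Van.Tab28.dot Cfsg.Agent.H139.Van.Tab28.chk Cfsg.Agent.H139.Van.Tab28.dot._f; rewrite [H90F.bn_fun, H90F.ld_fun, H90F.al_fun, H90F.a1_fun, H90F.a2_fun, H90F.a4_fun, H90F.a5_fun, H90F.a6_fun]; decide +kernel)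
theorem d7 : chk 2 x6 xT x7 = true := by (delta Cfsg.Agent.H139.Van.Tab28.dot Cfsg.Agent.H139.Van.Tab28.chk Cfsg.Agent.H139.Van.Tab28.dot._f; rewrite [H90F.bn_fun, H90F.ld_fun, H90F.al_fun, H90F.a1_fun, H90F.a2_fun, H90F.a4_fun, H90F.a5_fun, H90F.a6_fun]; decide +kernel)

theorem one_eq : N 2 x7 = 1 := by
  (refine of_decide_eq_true ?_; (try (rewrite [Cfsg.Agent.LsF.fddb9f4_2.2, Cfsg.Agent.LsF.zdecEq_eq, Cfsg.Agent.LsF.finFintype_eq, Cfsg.Agent.LsF.dMat_eq, Cfsg.Agent.LsF.instMOne_eq, Cfsg.Agent.LsF.dFinEq_eq, Cfsg.Agent.LsF.decide_eq])); decide +kernel)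

theorem trace_eq : (N 2 p7).trace = 0 := by decide +kernel

theorem ne_one : N 2 p7 ≠ 1 := by
  intro h
  have := congrFun (congrFun h (Sum.inl ⟨1, by decide⟩)) (Sum.inl ⟨1, by decide⟩)
  revert this
  decide +kernel

end Cfsg.Agent.H139.Van.Tab28Two
end

-- part: H139/Van/Tab28Three
section
/-!
# An element of order 13 of `³D₄(3)`: tables (helper139)

The product of the root elements with the parameters `±1` in characteristic 3: its power `13` is `1`, its trace is `0`.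
-/

set_option autoImplicit false

namespace Cfsg.Agent.H139.Van.Tab28Three

open Cfsg.Lie Cfsg.Agent.H139.Van.Tab28

def g14 : List ℕ :=
  [0x1000000001, 0x1000000004, 0x1000000010, 0x1000000040, 0x900, 0x400, 0x1000, 0x4000, 0x90000, 0x40000,
    0x100000, 0x10400000, 0x41000000, 0x2004000004, 0x10000000, 0x40000000, 0x8100000000, 0x20400000000,
    0x1000000000, 0x4000000000, 0x10000000000, 0x40000000000, 0x500000000000, 0x400000000000, 0x1000000000000,
    0x4000000000000, 0x50000000000000, 0x40000000000000]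

def g9 : List ℕ :=
  [0x8000001, 0x8000004, 0x8000010, 0x8000040, 0x100, 0x600, 0x1000, 0x4000, 0x10000, 0x60000, 0x100000, 0x400000,
    0x1000000, 0x4000000, 0x10400000, 0x41000000, 0x100000000, 0x400000000, 0x1008000008, 0x4200000000,
    0x10800000000, 0x40000000000, 0x100000000000, 0x500000000000, 0x1000000000000, 0x4000000000000,
    0x10000000000000, 0x50000000000000]

def g18 : List ℕ :=
  [0x100000000001, 0x100000000004, 0x10, 0x40, 0x100, 0x100400, 0x401000, 0x1004000, 0x4010000, 0x200000040001,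
    0x100000, 0x400000, 0x1000000, 0x4000000, 0x10000000, 0x40000000, 0x100000000, 0x400000000, 0x801000000000,
    0x2004000000000, 0x8010000000000, 0x20040000000000, 0x100000000000, 0x400000000000, 0x1000000000000,
    0x4000000000000, 0x10000000000000, 0x40000000000000]

def g13 : List ℕ :=
  [0x1, 0x400000004, 0x400000010, 0x40, 0x100, 0x8400, 0x21000, 0x4000, 0x10000, 0x40000, 0x2100000, 0x8400000,
    0x1000000, 0x4000000, 0x810000010, 0x40000000, 0x100000000, 0x400000000, 0x11000000000, 0x44000000000,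
    0x10000000000, 0x40000000000, 0x100000000000, 0x4400000000000, 0x11000000000000, 0x4000000000000,
    0x10000000000000, 0x40000000000000]

def g12 : List ℕ :=
  [0x1, 0x100000004, 0x10, 0x100000040, 0x100, 0x2400, 0x1000, 0x24000, 0x10000, 0x40000, 0x900000, 0x400000,
    0x9000000, 0x4000000, 0x10000000, 0x240000040, 0x100000000, 0x400000000, 0x5000000000, 0x4000000000,
    0x50000000000, 0x40000000000, 0x100000000000, 0x1400000000000, 0x1000000000000, 0x14000000000000,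
    0x10000000000000, 0x40000000000000]

def g5 : List ℕ :=
  [0x40001, 0x40004, 0x10, 0x40, 0x100, 0x400, 0x1000, 0x4000, 0x10000, 0x40000, 0x100800, 0x402000, 0x1008000,
    0x4020000, 0x10000000, 0x40000000, 0x100000000, 0x400000000, 0x1000000000, 0x4000000000, 0x10000000000,
    0x40000000000, 0x100000080001, 0x401000000000, 0x1004000000000, 0x4010000000000, 0x10040000000000,
    0x40000000000000]

def g10 : List ℕ :=
  [0x1, 0x10000004, 0x10000010, 0x40, 0x100, 0x400, 0x1000, 0x4400, 0x11000, 0x40000, 0x100000, 0x400000,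
    0x1100000, 0x4400000, 0x10000000, 0x40000000, 0x100000000, 0x420000010, 0x1000000000, 0x4000000000,
    0x12000000000, 0x48000000000, 0x100000000000, 0x400000000000, 0x1000000000000, 0x4800000000000,
    0x12000000000000, 0x40000000000000]

def g11 : List ℕ :=
  [0x1, 0x40000004, 0x10, 0x40000040, 0x100, 0x400, 0x1400, 0x4000, 0x14000, 0x40000, 0x100000, 0x500000,
    0x1000000, 0x5000000, 0x10000000, 0x40000000, 0x180000040, 0x400000000, 0x1000000000, 0x6000000000,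
    0x10000000000, 0x60000000000, 0x100000000000, 0x400000000000, 0x1800000000000, 0x4000000000000,
    0x18000000000000, 0x40000000000000]

def p0 : List ℕ :=
  [0x1, 0x4000004, 0x10, 0x40, 0x100, 0x600, 0x1000, 0x4000, 0x10000, 0x60000, 0x100000, 0x400000, 0x1000000,
    0x4000000, 0x10400000, 0x41000000, 0x100000000, 0x400000000, 0x1008000055, 0x4200000000, 0x10800000000,
    0x40000000000, 0x100000000000, 0x500000000000, 0x1000000000000, 0x4000000000000, 0x10000000000000,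
    0x50000000000000]

def p1 : List ℕ :=
  [0x1, 0x10040000a2, 0x10, 0x40, 0x900, 0xa00, 0x1000, 0x4000, 0x90000, 0xa0000, 0x100000, 0x10400000, 0x41000000,
    0x20040000aa, 0x20400000, 0x81000000, 0x8100000000, 0x20400000000, 0x10080000aa, 0x8200000000, 0x20800000000,
    0x40000000000, 0x500000000000, 0x900000000000, 0x1000000000000, 0x4000000000000, 0x50000000000000,
    0x90000000000000]

def p2 : List ℕ :=
  [0x40001, 0x10040900a2, 0x10, 0x40, 0x900, 0xa00, 0x1000, 0x4000, 0x90000, 0xa0000, 0x100400, 0x10401000,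
    0x41004000, 0x20040900aa, 0x20401000, 0x81004000, 0x8100000000, 0x20400000000, 0x10080a00aa, 0x8200000000,
    0x20800000000, 0x40000000000, 0x502000080005, 0x901000080005, 0x1008000000000, 0x4020000000000,
    0x50080000000000, 0x90080000000000]

def p3 : List ℕ :=
  [0x40001, 0x10248920a2, 0x10000010, 0x40, 0x900, 0xa00, 0x1000, 0x4800, 0x92000, 0xa1000, 0x100400, 0x10401000,
    0x41204800, 0x20248920aa, 0x20401000, 0x81204800, 0x8100000000, 0x22420000014, 0x10284a10aa, 0x8200000000,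
    0x22810000028, 0x44000000000, 0x502000080005, 0x901000080005, 0x1008000000000, 0x4422000000000,
    0x51088000000000, 0x91088000000000]

def p4 : List ℕ :=
  [0x40001, 0x10a699a4a2, 0x10000010, 0x40000040, 0x900, 0xa00, 0x1800, 0x4800, 0x9a400, 0xa5800, 0x100400,
    0x10601800, 0x41204800, 0x20a699a4aa, 0x20601800, 0x81204800, 0xa180000044, 0x22420000014, 0x10a96a58aa,
    0xa240000088, 0x22810000028, 0x55000000000, 0x502000080005, 0x901000080005, 0x140a000000000, 0x4422000000000,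
    0x554aa000000000, 0x954aa000000000]

def p5 : List ℕ :=
  [0x40006, 0x4010a009a4a9, 0x10000010, 0x40000040, 0x100900, 0x100a00, 0x901800, 0x2104800, 0x10000969a40a,
    0x1000069a580a, 0x400, 0x10001800, 0x40004800, 0x8020a009a4a5, 0x20001800, 0x80004800, 0x280a180000044,
    0x8822420000014, 0x4010a00a58a5, 0x280a240000088, 0x8822810000028, 0x15455000000000, 0x2000080000,
    0x1000080000, 0xa000000000, 0x22000000000, 0x400aa000000000, 0x800aa000000000]

def p6 : List ℕ :=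
  [0x40006, 0x84210a0082495, 0x10000024, 0x40000040, 0x1108900, 0x1108a00, 0x9919800, 0x100800, 0x10000068240a,
    0x10000098180a, 0x4400, 0x810019814, 0x40000800, 0x48120a0082491, 0x420019828, 0x80000800, 0x1685a180000044,
    0x802020000000, 0x84210a0081891, 0x1685a240000088, 0x802010000000, 0x1405000000000, 0x12000080000,
    0x21000080000, 0x5a000000000, 0x2000000000, 0x4000a000000000, 0x8000a000000000]

def p7 : List ℕ :=
  [0x40006, 0x1a4690a0080451, 0x10000024, 0x40000084, 0x552a900, 0x552aa00, 0x1108800, 0x502800, 0x10000028040a,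
    0x10000018080a, 0x15400, 0x810008814, 0x240002844, 0x258960a0080459, 0x420008828, 0x180002888, 0x4812080000000,
    0x1806020000000, 0x1a4690a0080859, 0x4812040000000, 0x1806010000000, 0x401000000000, 0x96000080000,
    0x69000080000, 0x12000000000, 0x6000000000, 0x40002000000000, 0x80002000000000]

def xT : List ℕ :=
  [0x10040a0006, 0x20a94a0051, 0x1024400024, 0x1085000084, 0x900, 0x20a699aa04, 0x82108a00, 0x20902a00, 0x100a00,
    0xa020080a0009, 0x65500, 0x4500, 0x1500, 0x500, 0x12828400018, 0x6289000048, 0x42000000, 0x10800000,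
    0xaa669a08000004, 0x4912404000008, 0x1906104000008, 0x601008000004, 0x50000, 0x69a08000004, 0x12404000008,
    0x6104000008, 0x1008000004, 0x90000000000000]

def x2 : List ℕ :=
  [0x1a5690a0100055, 0x556a8a05420659, 0x1a469480088055, 0x1a469120082055, 0x25a96a02a156aa, 0x25a96a040000aa,
    0x24a52a944, 0x81992a914, 0x25a690554156a1, 0x25a6905a92a9a1, 0x100006aa560a, 0x1986648a592961,
    0x1685a129998991, 0x9062aaa54a0a55, 0x2649984a55a992, 0x294a521995a962, 0x264662a008182a, 0x2945a8a008488a,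
    0x4a242a5a95a908, 0x26466120082062, 0x2945a480088092, 0x1a4960a0040859, 0x2aaaa0a02808a8, 0x15655050200052,
    0x264990600404a6, 0x294a50900404a6, 0xa58950500404a6, 0x658940500404a6]

def x4 : List ℕ :=
  [0x50514aa280a002, 0x50a14a0410a9a6, 0x50a24682192020, 0x50a18920998080, 0x859945a4285555, 0x50a16a554606aa,
    0xa4a18992462962, 0xa1a24661868992, 0x5a42855aa6a809, 0xa01059400655, 0x50a685a2a60652, 0xa4a942a5aa9424,
    0xa1a948a66a6484, 0x10100509420100, 0x11849060655, 0x5218460655, 0xa4a14aa4999595, 0xa1a14aa6196565,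
    0x20040000aa, 0x20450006aa, 0x20144006aa, 0xa000a2900600, 0xa0a94aa6a8a556, 0x1008090955, 0x20441064900,
    0x8110461900, 0xa0a14aa699a404, 0x1008000655]

def x8 : List ℕ :=
  [0x69000000009, 0x4a0420a0080408, 0x2409000000018, 0x8421000000048, 0x40001000000000, 0x1000000000,
    0x80004000000000, 0x80010000000000, 0x40056000080000, 0x80016000080000, 0x40400000000000, 0x81409010000000,
    0x84421040000000, 0x554a8050040859, 0x80806020000000, 0x80812080000000, 0x294a5210041062, 0x26499840044092,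
    0x808150a0080400, 0x8421010041062, 0x2409040044092, 0x25896a000900a5, 0x25a690502000a1, 0x960a0100052,
    0x1a569110400069, 0x1a569441000099, 0x1a569506a15655, 0x1a56950152a955]

def x12 : List ℕ :=
  [0x5010040000a1, 0x10040000a2, 0x21404000092, 0x9104000062, 0x600, 0x20040000aa, 0x1049000055, 0x1018400055,
    0x20a69000aa, 0x500000000000, 0x20040900aa, 0x1049064055, 0x1018461055, 0x20a699aaaa, 0x20400000000,
    0x8100000000, 0x6289000011, 0x12828400041, 0x50000000000000, 0x54000000000000, 0x51000000000000,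
    0x55900000000000, 0xa020080a0050, 0xa0040000000000, 0xa8060800000000, 0xa2048200000000, 0xaa669a080000aa,
    0x60000000000000]

def x13 : List ℕ :=
  [0x1, 0x4, 0x10, 0x40, 0x100, 0x400, 0x1000, 0x4000, 0x10000, 0x40000, 0x100000, 0x400000, 0x1000000, 0x4000000,
    0x10000000, 0x40000000, 0x100000000, 0x400000000, 0x1000000000, 0x4000000000, 0x10000000000, 0x40000000000,
    0x100000000000, 0x400000000000, 0x1000000000000, 0x4000000000000, 0x10000000000000, 0x40000000000000]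

def x2T : List ℕ :=
  [0xaa868aa5650a55, 0x55282a04205a59, 0xaa6582958a4a55, 0xaa6648664a1a55, 0x1059665208, 0x55282aaa99a104,
    0xa1a099a180, 0x224a219a120, 0x105969a108, 0x55269a5aa000a0, 0xa01051645201, 0x2096699204, 0x2065a96204,
    0x20a699a404, 0x56689a4a054082, 0x596a1a18851022, 0x6289002a48, 0x12828408a18, 0x156aaa5a850a51,
    0x5666496a4a05aa, 0x596586998a05aa, 0xaa6955a1450a59, 0xa020081a0a09, 0xa56545568a0a55, 0x5669a6624505a6,
    0x596a69918505a6, 0xaa668aa54a0a55, 0x60001008000004]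

def x4T : List ℕ :=
  [0x4062a55025a90a, 0x5052a551460904, 0x4052a950946928, 0x4052a652149988, 0x855a85a4285904, 0x5a95455156a508,
    0x2420090242212a, 0x2120060182818a, 0x1a4005aaa2a850, 0x25a00a529156a0, 0x10240502a20254, 0x24290245a69482,
    0x21284816666422, 0x909155a94a0504, 0x24290a42a59682, 0x21284a12a56622, 0x24200a8491996a, 0x21200a2611699a,
    0x4042a050040800, 0x18100541626595, 0x12100511629565, 0x200002900200, 0x20280a06a8a9a9, 0x20280a02a9aaa9,
    0x401024100, 0x100421100, 0x20200a0691a455, 0x20200a0291a655]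

/-! ### the generators -/

instance : Fact (Nat.Prime 3) := ⟨by norm_num⟩

set_option maxRecDepth 100000

theorem x_14 : chevD4.xMat (ZMod 3) ⟨14, by decide⟩ (1) = (N 3 g14).transpose := by
  (refine of_decide_eq_true ?_; (try (delta Cfsg.Lie.ChevalleyDatum.xMat; rewrite [Cfsg.Agent.LsF.fddb9f4_0.2, Cfsg.Agent.LsF.fddb9f4_2.2, Cfsg.Agent.LsF.mof_pat, Cfsg.Agent.LsF.zadd_pat, Cfsg.Agent.LsF.zmul_pat, Cfsg.Agent.LsF.zneg_pat, Cfsg.Agent.LsF.zdecEq_eq, Cfsg.Agent.LsF.finFintype_eq, Cfsg.Agent.LsF.dMat_eq, Cfsg.Agent.LsF.transpose_eq, Cfsg.Agent.LsF.instZAdd_pat, Cfsg.Agent.LsF.instDecEq_eq, Cfsg.Agent.LsF.map_eq, Cfsg.Agent.LsF.sum_eq, Cfsg.Agent.LsF.agetD_eq, Cfsg.Agent.LsF.dFinEq_eq, Cfsg.Agent.LsF.ite_eq])); decide +kernel)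

theorem x_9 : chevD4.xMat (ZMod 3) ⟨9, by decide⟩ (1) = (N 3 g9).transpose := by
  (refine of_decide_eq_true ?_; (try (delta Cfsg.Lie.ChevalleyDatum.xMat; rewrite [Cfsg.Agent.LsF.fddb9f4_0.2, Cfsg.Agent.LsF.fddb9f4_2.2, Cfsg.Agent.LsF.mof_pat, Cfsg.Agent.LsF.zadd_pat, Cfsg.Agent.LsF.zmul_pat, Cfsg.Agent.LsF.zneg_pat, Cfsg.Agent.LsF.zdecEq_eq, Cfsg.Agent.LsF.finFintype_eq, Cfsg.Agent.LsF.dMat_eq, Cfsg.Agent.LsF.transpose_eq, Cfsg.Agent.LsF.instZAdd_pat, Cfsg.Agent.LsF.instDecEq_eq, Cfsg.Agent.LsF.map_eq, Cfsg.Agent.LsF.sum_eq, Cfsg.Agent.LsF.agetD_eq, Cfsg.Agent.LsF.dFinEq_eq, Cfsg.Agent.LsF.ite_eq])); decide +kernel)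

theorem x_18 : chevD4.xMat (ZMod 3) ⟨18, by decide⟩ (1) = (N 3 g18).transpose := by
  (refine of_decide_eq_true ?_; (try (delta Cfsg.Lie.ChevalleyDatum.xMat; rewrite [Cfsg.Agent.LsF.fddb9f4_0.2, Cfsg.Agent.LsF.fddb9f4_2.2, Cfsg.Agent.LsF.mof_pat, Cfsg.Agent.LsF.zadd_pat, Cfsg.Agent.LsF.zmul_pat, Cfsg.Agent.LsF.zneg_pat, Cfsg.Agent.LsF.zdecEq_eq, Cfsg.Agent.LsF.finFintype_eq, Cfsg.Agent.LsF.dMat_eq, Cfsg.Agent.LsF.transpose_eq, Cfsg.Agent.LsF.instZAdd_pat, Cfsg.Agent.LsF.instDecEq_eq, Cfsg.Agent.LsF.map_eq, Cfsg.Agent.LsF.sum_eq, Cfsg.Agent.LsF.agetD_eq, Cfsg.Agent.LsF.dFinEq_eq, Cfsg.Agent.LsF.ite_eq])); decide +kernel)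

theorem x_13 : chevD4.xMat (ZMod 3) ⟨13, by decide⟩ (1) = (N 3 g13).transpose := by
  (refine of_decide_eq_true ?_; (try (delta Cfsg.Lie.ChevalleyDatum.xMat; rewrite [Cfsg.Agent.LsF.fddb9f4_0.2, Cfsg.Agent.LsF.fddb9f4_2.2, Cfsg.Agent.LsF.mof_pat, Cfsg.Agent.LsF.zadd_pat, Cfsg.Agent.LsF.zmul_pat, Cfsg.Agent.LsF.zneg_pat, Cfsg.Agent.LsF.zdecEq_eq, Cfsg.Agent.LsF.finFintype_eq, Cfsg.Agent.LsF.dMat_eq, Cfsg.Agent.LsF.transpose_eq, Cfsg.Agent.LsF.instZAdd_pat, Cfsg.Agent.LsF.instDecEq_eq, Cfsg.Agent.LsF.map_eq, Cfsg.Agent.LsF.sum_eq, Cfsg.Agent.LsF.agetD_eq, Cfsg.Agent.LsF.dFinEq_eq, Cfsg.Agent.LsF.ite_eq])); decide +kernel)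

theorem x_12 : chevD4.xMat (ZMod 3) ⟨12, by decide⟩ (1) = (N 3 g12).transpose := by
  (refine of_decide_eq_true ?_; (try (delta Cfsg.Lie.ChevalleyDatum.xMat; rewrite [Cfsg.Agent.LsF.fddb9f4_0.2, Cfsg.Agent.LsF.fddb9f4_2.2, Cfsg.Agent.LsF.mof_pat, Cfsg.Agent.LsF.zadd_pat, Cfsg.Agent.LsF.zmul_pat, Cfsg.Agent.LsF.zneg_pat, Cfsg.Agent.LsF.zdecEq_eq, Cfsg.Agent.LsF.finFintype_eq, Cfsg.Agent.LsF.dMat_eq, Cfsg.Agent.LsF.transpose_eq, Cfsg.Agent.LsF.instZAdd_pat, Cfsg.Agent.LsF.instDecEq_eq, Cfsg.Agent.LsF.map_eq, Cfsg.Agent.LsF.sum_eq, Cfsg.Agent.LsF.agetD_eq, Cfsg.Agent.LsF.dFinEq_eq, Cfsg.Agent.LsF.ite_eq])); decide +kernel)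

theorem x_5 : chevD4.xMat (ZMod 3) ⟨5, by decide⟩ (-1) = (N 3 g5).transpose := by
  (refine of_decide_eq_true ?_; (try (delta Cfsg.Lie.ChevalleyDatum.xMat; rewrite [Cfsg.Agent.LsF.fddb9f4_0.2, Cfsg.Agent.LsF.fddb9f4_2.2, Cfsg.Agent.LsF.mof_pat, Cfsg.Agent.LsF.zadd_pat, Cfsg.Agent.LsF.zmul_pat, Cfsg.Agent.LsF.zneg_pat, Cfsg.Agent.LsF.zdecEq_eq, Cfsg.Agent.LsF.finFintype_eq, Cfsg.Agent.LsF.dMat_eq, Cfsg.Agent.LsF.transpose_eq, Cfsg.Agent.LsF.instZAdd_pat, Cfsg.Agent.LsF.instDecEq_eq, Cfsg.Agent.LsF.map_eq, Cfsg.Agent.LsF.sum_eq, Cfsg.Agent.LsF.agetD_eq, Cfsg.Agent.LsF.dFinEq_eq, Cfsg.Agent.LsF.ite_eq])); decide +kernel)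

theorem x_10 : chevD4.xMat (ZMod 3) ⟨10, by decide⟩ (-1) = (N 3 g10).transpose := by
  (refine of_decide_eq_true ?_; (try (delta Cfsg.Lie.ChevalleyDatum.xMat; rewrite [Cfsg.Agent.LsF.fddb9f4_0.2, Cfsg.Agent.LsF.fddb9f4_2.2, Cfsg.Agent.LsF.mof_pat, Cfsg.Agent.LsF.zadd_pat, Cfsg.Agent.LsF.zmul_pat, Cfsg.Agent.LsF.zneg_pat, Cfsg.Agent.LsF.zdecEq_eq, Cfsg.Agent.LsF.finFintype_eq, Cfsg.Agent.LsF.dMat_eq, Cfsg.Agent.LsF.transpose_eq, Cfsg.Agent.LsF.instZAdd_pat, Cfsg.Agent.LsF.instDecEq_eq, Cfsg.Agent.LsF.map_eq, Cfsg.Agent.LsF.sum_eq, Cfsg.Agent.LsF.agetD_eq, Cfsg.Agent.LsF.dFinEq_eq, Cfsg.Agent.LsF.ite_eq])); decide +kernel)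

theorem x_11 : chevD4.xMat (ZMod 3) ⟨11, by decide⟩ (-1) = (N 3 g11).transpose := by
  (refine of_decide_eq_true ?_; (try (delta Cfsg.Lie.ChevalleyDatum.xMat; rewrite [Cfsg.Agent.LsF.fddb9f4_0.2, Cfsg.Agent.LsF.fddb9f4_2.2, Cfsg.Agent.LsF.mof_pat, Cfsg.Agent.LsF.zadd_pat, Cfsg.Agent.LsF.zmul_pat, Cfsg.Agent.LsF.zneg_pat, Cfsg.Agent.LsF.zdecEq_eq, Cfsg.Agent.LsF.finFintype_eq, Cfsg.Agent.LsF.dMat_eq, Cfsg.Agent.LsF.transpose_eq, Cfsg.Agent.LsF.instZAdd_pat, Cfsg.Agent.LsF.instDecEq_eq, Cfsg.Agent.LsF.map_eq, Cfsg.Agent.LsF.sum_eq, Cfsg.Agent.LsF.agetD_eq, Cfsg.Agent.LsF.dFinEq_eq, Cfsg.Agent.LsF.ite_eq])); decide +kernel)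

/-! ### the products -/

theorem tr0 : chkT p0 g14 = true := by decide +kernel
theorem c1 : chk 3 p0 g9 p1 = true := by (delta Cfsg.Agent.H139.Van.Tab28.dot Cfsg.Agent.H139.Van.Tab28.chk Cfsg.Agent.H139.Van.Tab28.dot._f; rewrite [H90F.bn_fun, H90F.ld_fun, H90F.al_fun, H90F.a1_fun, H90F.a2_fun, H90F.a4_fun, H90F.a5_fun, H90F.a6_fun]; decide +kernel)
theorem c2 : chk 3 p1 g18 p2 = true := by (delta Cfsg.Agent.H139.Van.Tab28.dot Cfsg.Agent.H139.Van.Tab28.chk Cfsg.Agent.H139.Van.Tab28.dot._f; rewrite [H90F.bn_fun, H90F.ld_fun, H90F.al_fun, H90F.a1_fun, H90F.a2_fun, H90F.a4_fun, H90F.a5_fun, H90F.a6_fun]; decide +kernel)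
theorem c3 : chk 3 p2 g13 p3 = true := by (delta Cfsg.Agent.H139.Van.Tab28.dot Cfsg.Agent.H139.Van.Tab28.chk Cfsg.Agent.H139.Van.Tab28.dot._f; rewrite [H90F.bn_fun, H90F.ld_fun, H90F.al_fun, H90F.a1_fun, H90F.a2_fun, H90F.a4_fun, H90F.a5_fun, H90F.a6_fun]; decide +kernel)
theorem c4 : chk 3 p3 g12 p4 = true := by (delta Cfsg.Agent.H139.Van.Tab28.dot Cfsg.Agent.H139.Van.Tab28.chk Cfsg.Agent.H139.Van.Tab28.dot._f; rewrite [H90F.bn_fun, H90F.ld_fun, H90F.al_fun, H90F.a1_fun, H90F.a2_fun, H90F.a4_fun, H90F.a5_fun, H90F.a6_fun]; decide +kernel)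
theorem c5 : chk 3 p4 g5 p5 = true := by (delta Cfsg.Agent.H139.Van.Tab28.dot Cfsg.Agent.H139.Van.Tab28.chk Cfsg.Agent.H139.Van.Tab28.dot._f; rewrite [H90F.bn_fun, H90F.ld_fun, H90F.al_fun, H90F.a1_fun, H90F.a2_fun, H90F.a4_fun, H90F.a5_fun, H90F.a6_fun]; decide +kernel)
theorem c6 : chk 3 p5 g10 p6 = true := by (delta Cfsg.Agent.H139.Van.Tab28.dot Cfsg.Agent.H139.Van.Tab28.chk Cfsg.Agent.H139.Van.Tab28.dot._f; rewrite [H90F.bn_fun, H90F.ld_fun, H90F.al_fun, H90F.a1_fun, H90F.a2_fun, H90F.a4_fun, H90F.a5_fun, H90F.a6_fun]; decide +kernel)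
theorem c7 : chk 3 p6 g11 p7 = true := by (delta Cfsg.Agent.H139.Van.Tab28.dot Cfsg.Agent.H139.Van.Tab28.chk Cfsg.Agent.H139.Van.Tab28.dot._f; rewrite [H90F.bn_fun, H90F.ld_fun, H90F.al_fun, H90F.a1_fun, H90F.a2_fun, H90F.a4_fun, H90F.a5_fun, H90F.a6_fun]; decide +kernel)
theorem trX : chkT p7 xT = true := by decide +kernel
theorem d2 : chk 3 p7 xT x2 = true := by (delta Cfsg.Agent.H139.Van.Tab28.dot Cfsg.Agent.H139.Van.Tab28.chk Cfsg.Agent.H139.Van.Tab28.dot._f; rewrite [H90F.bn_fun, H90F.ld_fun, H90F.al_fun, H90F.a1_fun, H90F.a2_fun, H90F.a4_fun, H90F.a5_fun, H90F.a6_fun]; decide +kernel)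
theorem tr2 : chkT x2 x2T = true := by decide +kernel
theorem d4 : chk 3 x2 x2T x4 = true := by (delta Cfsg.Agent.H139.Van.Tab28.dot Cfsg.Agent.H139.Van.Tab28.chk Cfsg.Agent.H139.Van.Tab28.dot._f; rewrite [H90F.bn_fun, H90F.ld_fun, H90F.al_fun, H90F.a1_fun, H90F.a2_fun, H90F.a4_fun, H90F.a5_fun, H90F.a6_fun]; decide +kernel)
theorem tr4 : chkT x4 x4T = true := by decide +kernel
theorem d8 : chk 3 x4 x4T x8 = true := by (delta Cfsg.Agent.H139.Van.Tab28.dot Cfsg.Agent.H139.Van.Tab28.chk Cfsg.Agent.H139.Van.Tab28.dot._f; rewrite [H90F.bn_fun, H90F.ld_fun, H90F.al_fun, H90F.a1_fun, H90F.a2_fun, H90F.a4_fun, H90F.a5_fun, H90F.a6_fun]; ((try (delta Nat.brecOn Nat.brecOn.go; rewrite [Cfsg.Agent.LsF.range_eq])); decide +kernel))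
theorem d12 : chk 3 x8 x4T x12 = true := by (delta Cfsg.Agent.H139.Van.Tab28.dot Cfsg.Agent.H139.Van.Tab28.chk Cfsg.Agent.H139.Van.Tab28.dot._f; rewrite [H90F.bn_fun, H90F.ld_fun, H90F.al_fun, H90F.a1_fun, H90F.a2_fun, H90F.a4_fun, H90F.a5_fun, H90F.a6_fun]; ((try (delta Nat.brecOn Nat.brecOn.go; rewrite [Cfsg.Agent.LsF.range_eq])); decide +kernel))
theorem d13 : chk 3 x12 xT x13 = true := by (delta Cfsg.Agent.H139.Van.Tab28.dot Cfsg.Agent.H139.Van.Tab28.chk Cfsg.Agent.H139.Van.Tab28.dot._f; rewrite [H90F.bn_fun, H90F.ld_fun, H90F.al_fun, H90F.a1_fun, H90F.a2_fun, H90F.a4_fun, H90F.a5_fun, H90F.a6_fun]; decide +kernel)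

theorem one_eq : N 3 x13 = 1 := by
  (refine of_decide_eq_true ?_; (try (rewrite [Cfsg.Agent.LsF.fddb9f4_2.2, Cfsg.Agent.LsF.zdecEq_eq, Cfsg.Agent.LsF.finFintype_eq, Cfsg.Agent.LsF.dMat_eq, Cfsg.Agent.LsF.instMOne_eq, Cfsg.Agent.LsF.dFinEq_eq, Cfsg.Agent.LsF.decide_eq])); decide +kernel)

theorem trace_eq : (N 3 p7).trace = 0 := by decide +kernel

theorem ne_one : N 3 p7 ≠ 1 := by
  intro h
  have := congrFun (congrFun h (Sum.inl ⟨0, by decide⟩)) (Sum.inl ⟨0, by decide⟩)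
  revert this
  decide +kernel

end Cfsg.Agent.H139.Van.Tab28Three
end

-- part: H139/Van/TwD4Small
section
/-!
# `³D₄(2)`, `p = 7` and `³D₄(3)`, `p = 13` (helper139)

The elements of order `p` of the torus have trace `1` on the adjoint module; the element of `Tab28` has order `p` and
trace `0`, so it is not conjugate into `P_{0}`, and the characters induced from `P_{0}` vanish at it.
-/

set_option autoImplicit false
set_option linter.unusedSectionVars false

open Cfsg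

namespace Cfsg.Agent.H139.Van.TwD4Small

open Cfsg.Lie Cfsg.Agent.ChevalleyStructure Cfsg.Agent.ChevalleyStructure.D4Torus
  Cfsg.Agent.ChevalleyStructure.D4Cols Cfsg.Agent.ChevalleyStructure.D4Fixed Cfsg.Agent.H139.Van.Tab28

/-! ### Sylow -/

theorem exists_conj_mem_of_index {H : Type*} [Group H] [Finite H] {p : ℕ} [hp : Fact p.Prime] (L : Subgroup H)
    (hL : ¬ p ∣ L.index) {x : H} (hx : orderOf x = p) : ∃ y : H, y * x * y⁻¹ ∈ L := by
  let S : Sylow p L := default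
  have h1 : IsPGroup p ((S : Subgroup L).map L.subtype) := S.isPGroup'.map _
  have h2 : ¬ p ∣ ((S : Subgroup L).map L.subtype).index := by
    rw [Subgroup.index_map_subtype, hp.out.dvd_mul, not_or]
    exact ⟨S.not_dvd_index, hL⟩
  have h3 : IsPGroup p (Subgroup.zpowers x) := IsPGroup.of_card (n := 1) (by rw [Nat.card_zpowers, hx, pow_one])
  obtain ⟨Q, hQ⟩ := h3.exists_le_sylow
  obtain ⟨g, hg⟩ := MulAction.exists_smul_eq H Q (h1.toSylow h2)
  refine ⟨g, ?_⟩
  have h4 : g * x * g⁻¹ ∈ ((g • Q : Sylow p H) : Subgroup H) := by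
    rw [Sylow.coe_subgroup_smul]
    exact Subgroup.smul_mem_pointwise_smul x (MulAut.conj g) _ (hQ (Subgroup.mem_zpowers x))
  rw [hg] at h4
  obtain ⟨y, -, hy⟩ := h4
  rw [← hy]
  exact y.2

/-! ### the trace of the elements of the torus -/

/-- the exponents -/
def nn (q m : ℕ) (s : ℕ) : ℕ := ((coef s 0 + q * coef s 2 + q ^ 2 * coef s 3) % m).toNat

theorem val_eq {K : Type*} [Field K] (χ : Fin 4 → Kˣ) {q m : ℕ} (h1 : χ 1 = 1) (h2 : χ 2 = χ 0 ^ q)
    (h3 : χ 3 = χ 0 ^ (q ^ 2)) (hm : χ 0 ^ m = 1) (hm0 : 0 < m) (s : Fin chevD4.nroots) :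
    val χ (Sum.inr s) = χ 0 ^ nn q m s.val := by
  change χ 0 ^ coef s.val 0 * (χ 1 ^ coef s.val 1 * (χ 2 ^ coef s.val 2 * χ 3 ^ coef s.val 3)) = _
  rw [h1, one_zpow, one_mul, h2, h3, ← zpow_natCast (χ 0) q, ← zpow_natCast (χ 0) (q ^ 2), ← zpow_mul, ← zpow_mul,
    ← zpow_add, ← zpow_add, ← zpow_natCast (χ 0) (nn q m s.val), nn, Int.toNat_of_nonneg
    (Int.emod_nonneg _ (by omega))]
  have e : coef s.val 0 + ((q : ℤ) * coef s.val 2 + ((q ^ 2 : ℕ) : ℤ) * coef s.val 3) =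
      (coef s.val 0 + q * coef s.val 2 + q ^ 2 * coef s.val 3) % m +
        m * ((coef s.val 0 + q * coef s.val 2 + q ^ 2 * coef s.val 3) / m) := by
    rw [Int.emod_add_mul_ediv]
    push_cast
    ring
  rw [e, zpow_add, zpow_mul, zpow_natCast, hm, one_zpow, mul_one]

theorem trace_tor {K : Type*} [Field K] (χ : Fin 4 → Kˣ) {q m : ℕ} (h1 : χ 1 = 1) (h2 : χ 2 = χ 0 ^ q)
    (h3 : χ 3 = χ 0 ^ (q ^ 2)) (hm : χ 0 ^ m = 1) (hm0 : 0 < m) :
    Matrix.trace ((tor χ : GL chevD4.Idx K) : Matrix chevD4.Idx chevD4.Idx K) =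
      4 + ∑ s : Fin 24, (χ 0 : K) ^ nn q m s.val := by
  have e : ((tor χ : GL chevD4.Idx K) : Matrix chevD4.Idx chevD4.Idx K) = Matrix.diagonal fun j => (val χ j : K) := rfl
  rw [e, Matrix.trace_diagonal, Fintype.sum_sum_type]
  congr 1
  · have : ∀ i : Fin chevD4.rank, ((val χ (Sum.inl i) : Kˣ) : K) = 1 := fun i => rfl
    rw [Finset.sum_congr rfl fun i _ => this i, Finset.sum_const, Finset.card_univ, Fintype.card_fin]
    change 4 • (1 : K) = 4
    simp
  · change ∑ s : Fin chevD4.nroots, ((val χ (Sum.inr s) : Kˣ) : K) = ∑ s : Fin chevD4.nroots, (χ 0 : K) ^ nn q m s.val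
    refine Finset.sum_congr rfl fun s _ => ?_
    rw [val_eq χ h1 h2 h3 hm hm0 s, Units.val_pow_eq_pow_val]

def t2 : List ℕ := [0, 0, 4, 2, 6, 6, 1, 5, 3, 0, 5, 3, 4, 2, 0, 4, 2, 6, 1, 1, 5, 3, 0, 0]

def t3 : List ℕ := [0, 0, 9, 3, 12, 12, 1, 10, 4, 0, 10, 4, 9, 3, 0, 9, 3, 12, 1, 1, 10, 4, 0, 0]

theorem nn2 : ∀ s : Fin 24, nn 2 7 s.val = t2.getD s.val 0 := by decide +kernel

theorem nn3 : ∀ s : Fin 24, nn 3 13 s.val = t3.getD s.val 0 := by decide +kernel

theorem sum_two {K : Type*} [Field K] (T : K) :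
    ∑ s : Fin 24, T ^ nn 2 7 s.val = 6 + 3 * (T + T ^ 2 + T ^ 3 + T ^ 4 + T ^ 5 + T ^ 6) := by
  rw [Finset.sum_congr rfl fun s _ => by rw [nn2 s]]
  simp only [Fin.sum_univ_succ, t2, Fin.val_zero, Fin.val_succ, List.getD_cons_zero, List.getD_cons_succ]
  simp
  ring

theorem sum_three {K : Type*} [Field K] (T : K) :
    ∑ s : Fin 24, T ^ nn 3 13 s.val = 6 + 3 * (T + T ^ 3 + T ^ 4 + T ^ 9 + T ^ 10 + T ^ 12) := by
  rw [Finset.sum_congr rfl fun s _ => by rw [nn3 s]]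
  simp only [Fin.sum_univ_succ, t3, Fin.val_zero, Fin.val_succ, List.getD_cons_zero, List.getD_cons_succ]
  simp
  ring

/-! ### the elements of order `p` -/

theorem x_eq (K : Type*) [Field K] (r : ℕ) (hr : r < chevD4.nroots) (t : K) :
    chevD4.x K r t = chevD4.xMat K ⟨r, hr⟩ t := dif_pos hr

/-- the element -/
noncomputable def w {K : Type*} [Field K] (φ : K →+* K) : GL chevD4.Idx K := xU 14 1 * xU 9 1 * X φ 1 * Y φ (-1)

theorem coe_w {F K : Type*} [Field F] [Field K] (f : F →+* K) (φ : K →+* K) :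
    ((w φ : GL chevD4.Idx K) : Matrix chevD4.Idx chevD4.Idx K) =
      (chevD4.x F 14 1 * chevD4.x F 9 1 * (chevD4.x F 18 1 * chevD4.x F 13 1 * chevD4.x F 12 1) *
        (chevD4.x F 5 (-1) * chevD4.x F 10 (-1) * chevD4.x F 11 (-1))).map f := by
  have h1 : ∀ A B : Matrix chevD4.Idx chevD4.Idx F, (A * B).map f = A.map f * B.map f := fun A B => Matrix.map_mul
  simp only [h1, Cfsg.Agent.ChevStructure.FieldMap.x_map, map_one, map_neg]
  unfold w X Y
  simp only [Units.val_mul, coe_xU, map_one, map_neg]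

theorem w_mem {K : Type*} [Field K] {q : ℕ} {φ : K →+* K} (hφ : ∀ x, φ x = x ^ q) : w φ ∈ twistedD4 K q :=
  mul_mem (mul_mem (mul_mem (x14_mem (one_pow q)) (x9_mem (one_pow q))) (X_mem hφ 1)) (Y_mem hφ (-1))

section two

open Cfsg.Agent.H139.Van.Tab28Two

theorem word_two : chevD4.x (ZMod 2) 14 1 * chevD4.x (ZMod 2) 9 1 * (chevD4.x (ZMod 2) 18 1 * chevD4.x (ZMod 2) 13 1 *
    chevD4.x (ZMod 2) 12 1) * (chevD4.x (ZMod 2) 5 (-1) * chevD4.x (ZMod 2) 10 (-1) * chevD4.x (ZMod 2) 11 (-1)) =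
    N 2 p7 := by
  rw [x_eq _ 14 (by decide), x_eq _ 9 (by decide), x_eq _ 18 (by decide), x_eq _ 13 (by decide),
    x_eq _ 12 (by decide), x_eq _ 5 (by decide), x_eq _ 10 (by decide), x_eq _ 11 (by decide), x_14, x_9, x_18, x_13,
    x_12, x_5, x_10, x_11]
  simp only [← mul_assoc]
  rw [N_tr tr0, N_mul c1, N_mul c2, N_mul c3, N_mul c4, N_mul c5, N_mul c6, N_mul c7]

theorem pow_two' : (N 2 p7) ^ 7 = 1 := by
  have e1 : N 2 p7 * N 2 p7 = N 2 x2 := by
    have := N_mul d2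
    rwa [N_tr trX] at this
  have e2 : N 2 x2 * N 2 x2 = N 2 x4 := by
    have := N_mul d4
    rwa [N_tr tr2] at this
  have e3 : N 2 x4 * N 2 x2 = N 2 x6 := by
    have := N_mul d6
    rwa [N_tr tr2] at this
  have e4 : N 2 x6 * N 2 p7 = N 2 x7 := by
    have := N_mul d7
    rwa [N_tr trX] at this
  calc (N 2 p7) ^ 7 = ((N 2 p7 * N 2 p7) * (N 2 p7 * N 2 p7)) * (N 2 p7 * N 2 p7) * N 2 p7 := by
        simp only [pow_succ, pow_zero, one_mul, mul_assoc]
    _ = 1 := by rw [e1, e2, e3, e4, one_eq]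

end two

section three

open Cfsg.Agent.H139.Van.Tab28Three

theorem word_three : chevD4.x (ZMod 3) 14 1 * chevD4.x (ZMod 3) 9 1 * (chevD4.x (ZMod 3) 18 1 * chevD4.x (ZMod 3) 13 1 *
    chevD4.x (ZMod 3) 12 1) * (chevD4.x (ZMod 3) 5 (-1) * chevD4.x (ZMod 3) 10 (-1) * chevD4.x (ZMod 3) 11 (-1)) =
    N 3 p7 := by
  rw [x_eq _ 14 (by decide), x_eq _ 9 (by decide), x_eq _ 18 (by decide), x_eq _ 13 (by decide),
    x_eq _ 12 (by decide), x_eq _ 5 (by decide), x_eq _ 10 (by decide), x_eq _ 11 (by decide), x_14, x_9, x_18, x_13,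
    x_12, x_5, x_10, x_11]
  simp only [← mul_assoc]
  rw [N_tr tr0, N_mul c1, N_mul c2, N_mul c3, N_mul c4, N_mul c5, N_mul c6, N_mul c7]

theorem pow_three' : (N 3 p7) ^ 13 = 1 := by
  have e1 : N 3 p7 * N 3 p7 = N 3 x2 := by
    have := N_mul d2
    rwa [N_tr trX] at this
  have e2 : N 3 x2 * N 3 x2 = N 3 x4 := by
    have := N_mul d4
    rwa [N_tr tr2] at this
  have e3 : N 3 x4 * N 3 x4 = N 3 x8 := by
    have := N_mul d8
    rwa [N_tr tr4] at this
  have e4 : N 3 x8 * N 3 x4 = N 3 x12 := by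
    have := N_mul d12
    rwa [N_tr tr4] at this
  have e5 : N 3 x12 * N 3 p7 = N 3 x13 := by
    have := N_mul d13
    rwa [N_tr trX] at this
  have e6 : (N 3 p7) ^ 4 = N 3 x4 := by
    calc (N 3 p7) ^ 4 = (N 3 p7 * N 3 p7) * (N 3 p7 * N 3 p7) := by
          simp only [pow_succ, pow_zero, one_mul, mul_assoc]
      _ = _ := by rw [e1, e2]
  calc (N 3 p7) ^ 13 = ((N 3 p7) ^ 4 * (N 3 p7) ^ 4) * (N 3 p7) ^ 4 * N 3 p7 := by
        rw [← pow_add, ← pow_add, ← pow_succ]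
    _ = 1 := by rw [e6, e3, e4, e5, one_eq]

end three

/-- the order and the trace of the element -/
theorem order_trace {K : Type*} [Field K] {p₀ p : ℕ} [Fact p₀.Prime] [Fact p.Prime] [CharP K p₀] (φ : K →+* K)
    {A : Matrix chevD4.Idx chevD4.Idx (ZMod p₀)}
    (hA : chevD4.x (ZMod p₀) 14 1 * chevD4.x (ZMod p₀) 9 1 * (chevD4.x (ZMod p₀) 18 1 * chevD4.x (ZMod p₀) 13 1 *
      chevD4.x (ZMod p₀) 12 1) * (chevD4.x (ZMod p₀) 5 (-1) * chevD4.x (ZMod p₀) 10 (-1) *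
      chevD4.x (ZMod p₀) 11 (-1)) = A) (h1 : A ^ p = 1) (h2 : A ≠ 1) (h3 : A.trace = 0) :
    orderOf (w φ) = p ∧ Matrix.trace ((w φ : GL chevD4.Idx K) : Matrix chevD4.Idx chevD4.Idx K) = 0 := by
  have h4 := coe_w (ZMod.castHom (dvd_refl p₀) K) φ
  rw [hA] at h4
  refine ⟨orderOf_eq_prime ?_ ?_, ?_⟩
  · apply Units.ext
    rw [Units.val_pow_eq_pow_val, h4, Units.val_one]
    have h5 : (ZMod.castHom (dvd_refl p₀) K).mapMatrix (A ^ p) = 1 := by rw [h1, map_one]
    rw [map_pow] at h5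
    exact h5
  · intro h5
    apply h2
    have h6 : A.map (ZMod.castHom (dvd_refl p₀) K) = 1 := by rw [← h4, h5, Units.val_one]
    have h7 : (ZMod.castHom (dvd_refl p₀) K).mapMatrix A = (ZMod.castHom (dvd_refl p₀) K).mapMatrix 1 := by
      rw [map_one]
      exact h6
    ext i j
    have h8 := congrFun (congrFun h7 i) j
    exact (ZMod.castHom (dvd_refl p₀) K).injective h8
  · rw [h4]
    have : (A.map (ZMod.castHom (dvd_refl p₀) K)).trace = ZMod.castHom (dvd_refl p₀) K A.trace := by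
      unfold Matrix.trace
      rw [map_sum]
      rfl
    rw [this, h3, map_zero]

/-! ### zeros -/

section main

open CoxeterSystem Cfsg.Agent.ChevalleyStructure.CoxeterGeom Cfsg.Agent.Tits.Roots Cfsg.Agent.Tits.Core
  Cfsg.Agent.Tits.RootComb Cfsg.Agent.Nodes.Comb Cfsg.Agent.Nodes.Reps Cfsg.Agent.Nodes.BNOf
  Cfsg.Agent.Nodes.BNOf.RGD Cfsg.Agent.Nodes.RGDChev Cfsg.Agent.Nodes.RGDFold
open Cfsg.Agent.Nodes.Bruhat Cfsg.Agent.Nodes.LeviDec
open Cfsg.Agent.ChevalleyStructure.TwistedU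
open Cfsg.Agent.Nodes.RGDFoldSL
open Cfsg.Agent.ChevalleyStructure.SL2Hom (up lo mem_closure_SL2)
open Cfsg.Agent.BiChar.TwDFour
open Cfsg.Agent.H115.HC.TwDFour Cfsg.Agent.H139.Van.CuspPow Cfsg.Agent.H139.Van.DzG2 Cfsg.Agent.H139.Van.TwD4

variable {K : Type} [Field K] {q : ℕ} {φ : K →+* K} [Fintype K]

/-- **The characters of `³D₄(q)` induced from the parabolic subgroup of the central node.** -/
theorem char_zero {r : ℕ} [Fact r.Prime] [CharP K r] (hφ : ∀ x, φ x = x ^ q) (hq : IsPrimePow q)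
    (hK : Fintype.card K = q ^ 3) : ∃ χ : IrrCharacter ↥(twistedD4 K q), ∀ x,
      (∀ g, g⁻¹ * x * g ∉ PJ cs Nodes.RGDTwD4.isCartan (Nodes.RGDTwD4.T K q) (Nodes.RGDTwD4.X φ q) {0}) →
        (χ : ↥(twistedD4 K q) → ℂ) x = 0 := by
  classical
  have hle := D4Fixed.twisted_le_fix hK hφ
  have : Finite CoxeterMatrix.G₂.Group := Nodes.RGDChev.finite_W Cfsg.Agent.BiChar.GTwo.isType cs
  have Rg := Nodes.RGDTwD4.rgd (K := K) cs hK hφ r
  -- an element of the torus
  obtain ⟨c, hc0, hc4⟩ : ∃ c : Fx φ ((Nodes.RGDTwNode.D4.rest 1).length + 1), c ≠ 0 ∧ c ^ 4 ≠ 1 := by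
    have hfin : Finite (Fx φ ((Nodes.RGDTwNode.D4.rest 1).length + 1)) := inferInstance
    obtain ⟨g, hg⟩ := IsCyclic.exists_generator (α := (Fx φ ((Nodes.RGDTwNode.D4.rest 1).length + 1))ˣ)
    have h1 : Nat.card (Fx φ ((Nodes.RGDTwNode.D4.rest 1).length + 1)) = Nat.card K :=
      Nat.card_congr (Equiv.subtypeUnivEquiv fun t => mem_Fx_three hK hφ t)
    have h2 : orderOf g = Nat.card K - 1 := by
      rw [orderOf_eq_card_of_forall_mem_zpowers hg, Nat.card_units, h1]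
    refine ⟨g, g.ne_zero, fun h4 => ?_⟩
    have h5 : g ^ 4 = 1 := Units.ext (by rw [Units.val_pow_eq_pow_val, h4, Units.val_one])
    have h6 := Nat.le_of_dvd (by norm_num) (orderOf_dvd_of_pow_eq_one h5)
    rw [h2, Nat.card_eq_fintype_card, hK] at h6
    have h7 : 2 ^ 3 ≤ q ^ 3 := Nat.pow_le_pow_left hq.two_le 3
    omega
  have hcc : c * c ≠ 0 := mul_ne_zero hc0 hc0
  obtain ⟨χ, m, -, -, h3⟩ := exists_chi_G2_zero Rg (GG_top hφ hK) T_comm (by decide)
    (by
      rw [card_X0 hφ hle hq.one_lt hK]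
      exact hq.two_le) (a := Ph hφ hle 1 (hS c)) (Cfsg.Agent.BiChar.TwDFour.Ph_hS hφ hle 1 hc0)
    (by
      rw [← map_mul, hS_mul hc0 hc0]
      intro h1
      have h3 := free hφ hle hcc (by
        have e : (c * c) ^ 2 = c ^ 4 := by ring
        rw [e]
        exact hc4) (t := 1) (by rw [h1, one_mul, mul_one])
      exact one_ne_zero h3)
    (by
      rw [← Cfsg.Agent.BiChar.TwDFour.Ph_wS hφ hle 1, ← map_inv, ← map_mul, ← map_mul, wS_hS hc0, map_inv])
    (by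
      intro u hu
      have hu' : (u : GL chevD4.Idx K) ∈ R chevD4 Nodes.RGDTwD4.hp K Nodes.RGDTwD4.J (D4Fixed.sig φ) ![2, 3] :=
        Subgroup.mem_subgroupOf.1 hu
      rw [R_eq cls_hi (by decide +kernel)] at hu'
      exact comm_hi hφ hle (s := 23) (by decide) hu'.1 (p := r) hK _)
    (by
      intro u hu
      have hu' : (u : GL chevD4.Idx K) ∈ R chevD4 Nodes.RGDTwD4.hp K Nodes.RGDTwD4.J (D4Fixed.sig φ) (-![2, 3]) :=
        Subgroup.mem_subgroupOf.1 hu
      rw [R_eq cls_hi' (by decide +kernel)] at hu'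
      exact comm_hi hφ hle (s := 0) (by decide) hu'.1 (p := r) hK _)
  exact ⟨χ, h3⟩

/-- the index of the torus in the parabolic subgroup -/
theorem index_T {r : ℕ} [Fact r.Prime] [CharP K r] (hφ : ∀ x, φ x = x ^ q)
    (hq : IsPrimePow q) (hK : Fintype.card K = q ^ 3) :
    (Nodes.RGDTwD4.T K q).relIndex (PJ cs Nodes.RGDTwD4.isCartan (Nodes.RGDTwD4.T K q) (Nodes.RGDTwD4.X φ q) {0}) =
      q ^ 12 * (q + 1) := by
  have hle := D4Fixed.twisted_le_fix hK hφ
  set P := PJ cs Nodes.RGDTwD4.isCartan (Nodes.RGDTwD4.T K q) (Nodes.RGDTwD4.X φ q) {0} with hP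
  have h1 : P.index = (q ^ 3 + 1) * (q ^ 8 + q ^ 4 + 1) := index_eq' (p := r) hφ hle hq hK
  have h2 : Nat.card (Nodes.RGDTwD4.T K q) = (q - 1) * (q ^ 3 - 1) := by
    rw [← D4H1.card_H1 hq hK hφ]
    exact Nat.card_congr (Subgroup.subgroupOfEquivOfLe inf_le_right).toEquiv
  have hT : Nodes.RGDTwD4.T K q ≤ P := Cfsg.Agent.H115.HC.T_le_PJ {0}
  have h3 : (Nodes.RGDTwD4.T K q).relIndex P * P.index = (Nodes.RGDTwD4.T K q).index :=
    Subgroup.relIndex_mul_index hT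
  have h4 := (Nodes.RGDTwD4.T K q).index_mul_card
  rw [Cfsg.Agent.S1067.result hq hK, ← h3, h1, h2, arith_a hq.two_le] at h4
  clear_value P
  generalize (Nodes.RGDTwD4.T K q).relIndex P = I at h4 ⊢
  clear h3 hT h2 h1 hP
  obtain ⟨m, hm⟩ := Nat.exists_eq_add_of_le hq.two_le
  rw [hm] at h4 ⊢
  have e1 : 2 + m - 1 = m + 1 := by omega
  have e3 : (2 + m) ^ 3 - 1 = (m + 1) * ((2 + m) ^ 2 + (2 + m) + 1) := by
    rw [show (2 + m) ^ 3 = (m + 1) * ((2 + m) ^ 2 + (2 + m) + 1) + 1 by ring]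
    rfl
  rw [e1, e3] at h4
  have h5 : 0 < (((2 + m) ^ 3 + 1) * ((2 + m) ^ 8 + (2 + m) ^ 4 + 1)) *
      ((m + 1) * ((m + 1) * ((2 + m) ^ 2 + (2 + m) + 1))) := by positivity
  apply Nat.eq_of_mul_eq_mul_right h5
  rw [← mul_assoc, h4]
  ring

/-- **The zeros at the elements of order `p` with an exceptional trace.** -/
theorem vz_of_trace {r : ℕ} [Fact r.Prime] [CharP K r] (hφ : ∀ x, φ x = x ^ q) (hq : IsPrimePow q)
    (hK : Fintype.card K = q ^ 3) {p : ℕ} [hp : Fact p.Prime] (hpq : ¬ p ∣ q) (hp1 : ¬ p ∣ q + 1)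
    {x : ↥(twistedD4 K q)} (hx : orderOf x = p)
    (htr : ∀ z ∈ Nodes.RGDTwD4.T K q, orderOf z = p →
      Matrix.trace ((z : GL chevD4.Idx K) : Matrix chevD4.Idx chevD4.Idx K) ≠
        Matrix.trace ((x : GL chevD4.Idx K) : Matrix chevD4.Idx chevD4.Idx K)) :
    H713.VZ ↥(twistedD4 K q) x := by
  classical
  have hle := D4Fixed.twisted_le_fix hK hφ
  have : Finite CoxeterMatrix.G₂.Group := Nodes.RGDChev.finite_W Cfsg.Agent.BiChar.GTwo.isType cs
  have Rg := Nodes.RGDTwD4.rgd (K := K) cs hK hφ r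
  obtain ⟨χ, hχ⟩ := char_zero (r := r) hφ hq hK
  refine ⟨χ, fun α => hχ _ fun g hg => ?_⟩
  obtain ⟨g₀, σ, D, -, -, -, hP⟩ := H40.PV.exists_aut Rg (GG_top hφ hK) α
  have hσ : σ 0 = 0 := by
    by_contra h0
    have h1 : σ 0 = 1 := (by decide : ∀ i : Fin 2, i ≠ 0 → i = 1) _ h0
    have h2 := H40.PV.diag_card D 0
    rw [h1, card_X1 hφ hle hK, card_X0 hφ hle hq.one_lt hK] at h2
    have h3 := hq.two_le
    nlinarith [h2, h3, pow_pos (lt_of_lt_of_le Nat.zero_lt_two h3) 2, pow_succ q 2]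
  -- `x` is conjugate into `P_{0}`
  obtain ⟨c, hc⟩ := (MulAut.conj g₀ * α).surjective (g₀ * g)
  have h1 : (MulAut.conj g₀ * α) (c⁻¹ * x * c) = g⁻¹ * α x * g := by
    rw [map_mul, map_mul, map_inv, hc, MulAut.mul_apply, MulAut.conj_apply]
    group
  have h2 : c⁻¹ * x * c ∈ PJ cs Nodes.RGDTwD4.isCartan (Nodes.RGDTwD4.T K q) (Nodes.RGDTwD4.X φ q) {0} := by
    rw [← hP, h1, Set.image_singleton, hσ]
    exact hg
  -- and into the torus
  have h3 : orderOf (⟨c⁻¹ * x * c, h2⟩ : PJ cs Nodes.RGDTwD4.isCartan (Nodes.RGDTwD4.T K q)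
      (Nodes.RGDTwD4.X φ q) {0}) = p := by
    rw [Subgroup.orderOf_mk, ← hx]
    have e : c⁻¹ * x * c = MulAut.conj c⁻¹ x := by rw [MulAut.conj_apply, inv_inv]
    rw [e, MulEquiv.orderOf_eq]
  obtain ⟨d, hd⟩ := exists_conj_mem_of_index ((Nodes.RGDTwD4.T K q).subgroupOf _) (by
    change ¬ p ∣ (Nodes.RGDTwD4.T K q).relIndex _
    rw [index_T (r := r) hφ hq hK, hp.out.dvd_mul, not_or]
    exact ⟨fun h => hpq (hp.out.dvd_of_dvd_pow h), hp1⟩) h3
  rw [Subgroup.mem_subgroupOf] at hd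
  refine htr _ hd ?_ ?_
  · change orderOf ((d : ↥(twistedD4 K q)) * (c⁻¹ * x * c) * (d : ↥(twistedD4 K q))⁻¹) = p
    have e : (d : ↥(twistedD4 K q)) * (c⁻¹ * x * c) * (d : ↥(twistedD4 K q))⁻¹ =
        MulAut.conj ((d : ↥(twistedD4 K q)) * c⁻¹) x := by
      rw [MulAut.conj_apply]
      group
    rw [e, MulEquiv.orderOf_eq, hx]
  · change Matrix.trace (((((d : ↥(twistedD4 K q)) * (c⁻¹ * x * c) * (d : ↥(twistedD4 K q))⁻¹ :
      ↥(twistedD4 K q)) : GL chevD4.Idx K) : Matrix chevD4.Idx chevD4.Idx K)) = _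
    have e : (d : ↥(twistedD4 K q)) * (c⁻¹ * x * c) * (d : ↥(twistedD4 K q))⁻¹ =
        ((d : ↥(twistedD4 K q)) * c⁻¹) * x * ((d : ↥(twistedD4 K q)) * c⁻¹)⁻¹ := by
      group
    rw [e, Subgroup.coe_mul, Subgroup.coe_mul, Subgroup.coe_inv, Units.val_mul, Units.val_mul]
    exact Matrix.trace_units_conj _ _

/-- the characters of the elements of order `p` of the torus -/
theorem exists_of_T (hφ : ∀ x, φ x = x ^ q) (hK : Fintype.card K = q ^ 3) {p : ℕ} [hp : Fact p.Prime]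
    (hp1 : ¬ p ∣ q - 1) (hq1 : 1 < q) {z : ↥(twistedD4 K q)} (hz : z ∈ Nodes.RGDTwD4.T K q) (ho : orderOf z = p) :
    ∃ χ : Fin 4 → Kˣ, (z : GL chevD4.Idx K) = tor χ ∧ χ 1 = 1 ∧ χ 2 = χ 0 ^ q ∧ χ 3 = χ 0 ^ (q ^ 2) ∧
      χ 0 ^ p = 1 ∧ χ 0 ≠ 1 := by
  obtain ⟨χ, h1, h2, h3, h4⟩ := D4H1.exists_char hK hφ (Subgroup.mem_subgroupOf.1 hz)
  have hm : ∀ u : Kˣ, Units.map (φ : K →* K) u = u ^ q := fun u => Units.ext (hφ u)
  have h5 : ∀ i, χ i ^ p = 1 := by
    intro i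
    have h6 : z ^ p = 1 := by rw [← ho]; exact pow_orderOf_eq_one z
    have h7 : torHom (χ ^ p) = torHom 1 := by
      rw [map_pow, map_one]
      change (tor χ) ^ p = 1
      rw [h1, ← SubmonoidClass.coe_pow, h6]
      rfl
    exact congrFun (tor_injective h7) i
  have h6 : χ 1 = 1 := by
    have h7 : χ 1 ^ q = χ 1 := Units.ext (by rw [Units.val_pow_eq_pow_val, ← hφ]; exact h2)
    have h8 : χ 1 ^ (q - 1) = 1 := by
      have h9 : χ 1 ^ (q - 1) * χ 1 = 1 * χ 1 := by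
        rw [← pow_succ, Nat.sub_add_cancel hq1.le, h7, one_mul]
      exact mul_right_cancel h9
    have h9 : orderOf (χ 1) ∣ p := orderOf_dvd_of_pow_eq_one (h5 1)
    have h10 : orderOf (χ 1) ∣ q - 1 := orderOf_dvd_of_pow_eq_one h8
    rcases (Nat.dvd_prime hp.out).1 h9 with h11 | h11
    · exact orderOf_eq_one_iff.1 h11
    · rw [h11] at h10
      exact absurd h10 hp1
  have h7 : χ 2 = χ 0 ^ q := by rw [h3, hm]
  have h8 : χ 3 = χ 0 ^ (q ^ 2) := by rw [h4, hm, hm, ← pow_mul, sq]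
  refine ⟨χ, h1.symm, h6, h7, h8, h5 0, fun h0 => ?_⟩
  have h9 : χ = 1 := by
    funext i
    fin_cases i
    · exact h0
    · exact h6
    · change χ 2 = 1
      rw [h7, h0, one_pow]
    · change χ 3 = 1
      rw [h8, h0, one_pow]
  rw [h9, tor_one] at h1
  have h10 : z = 1 := Subtype.ext h1.symm
  rw [h10, orderOf_one] at ho
  exact hp.out.one_lt.ne ho

/-- **`³D₄(2)`, `p = 7`.** -/
theorem vOrdP_two (hK : Fintype.card K = 2 ^ 3) : H620.PNorm.VOrdP 7 ↥(twistedD4 K 2) := by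
  classical
  have : Fact (Nat.Prime 2) := ⟨Nat.prime_two⟩
  have : Fact (Nat.Prime 7) := ⟨by norm_num⟩
  have : CharP K 2 := by
    obtain ⟨c, hc⟩ := CharP.exists K
    obtain ⟨n, hn, h1⟩ := FiniteField.card K c
    rw [hK] at h1
    have h2 : c ∣ 2 ^ 3 := by rw [h1]; exact dvd_pow_self c n.ne_zero
    have h3 := (Nat.prime_dvd_prime_iff_eq hn Nat.prime_two).1 (hn.dvd_of_dvd_pow h2)
    rwa [h3] at hc
  have hq : IsPrimePow 2 := Nat.prime_two.isPrimePow
  obtain ⟨φ, hφ⟩ := D4Fixed.exists_frob hq hK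
  obtain ⟨h1, h2⟩ := order_trace (p := 7) φ word_two pow_two' Tab28Two.ne_one Tab28Two.trace_eq
  refine ⟨⟨w φ, w_mem hφ⟩, by rw [Subgroup.orderOf_mk, h1], ?_⟩
  refine vz_of_trace (r := 2) hφ hq hK (p := 7) (by norm_num) (by norm_num) (by rw [Subgroup.orderOf_mk, h1]) ?_
  intro z hz ho
  change _ ≠ Matrix.trace ((w φ : GL chevD4.Idx K) : Matrix chevD4.Idx chevD4.Idx K)
  rw [h2]
  obtain ⟨χ, e, h3, h4, h5, h6, h7⟩ := exists_of_T hφ hK (p := 7) (by norm_num) (by norm_num) hz ho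
  rw [e, trace_tor χ h3 h4 h5 h6 (by norm_num), sum_two]
  have h20 : (2 : K) = 0 := CharP.cast_eq_zero K 2
  have hT : (χ 0 : K) ≠ 1 := fun h => h7 (Units.ext h)
  have hT7 : (χ 0 : K) ^ 7 = 1 := by rw [← Units.val_pow_eq_pow_val, h6, Units.val_one]
  have h8 : 1 + ((χ 0 : K) + (χ 0 : K) ^ 2 + (χ 0 : K) ^ 3 + (χ 0 : K) ^ 4 + (χ 0 : K) ^ 5 + (χ 0 : K) ^ 6) = 0 := by
    have h9 : ((χ 0 : K) - 1) * (1 + ((χ 0 : K) + (χ 0 : K) ^ 2 + (χ 0 : K) ^ 3 + (χ 0 : K) ^ 4 + (χ 0 : K) ^ 5 +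
        (χ 0 : K) ^ 6)) = 0 := by linear_combination hT7
    exact (mul_eq_zero.1 h9).resolve_left (sub_ne_zero.2 hT)
  intro h9
  apply one_ne_zero (α := K)
  linear_combination h9 - 3 * h8 - 3 * h20

/-- **`³D₄(3)`, `p = 13`.** -/
theorem vOrdP_three (hK : Fintype.card K = 3 ^ 3) : H620.PNorm.VOrdP 13 ↥(twistedD4 K 3) := by
  classical
  have : Fact (Nat.Prime 3) := ⟨Nat.prime_three⟩
  have : Fact (Nat.Prime 13) := ⟨by norm_num⟩
  have : CharP K 3 := by
    obtain ⟨c, hc⟩ := CharP.exists K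
    obtain ⟨n, hn, h1⟩ := FiniteField.card K c
    rw [hK] at h1
    have h2 : c ∣ 3 ^ 3 := by rw [h1]; exact dvd_pow_self c n.ne_zero
    have h3 := (Nat.prime_dvd_prime_iff_eq hn Nat.prime_three).1 (hn.dvd_of_dvd_pow h2)
    rwa [h3] at hc
  have hq : IsPrimePow 3 := Nat.prime_three.isPrimePow
  obtain ⟨φ, hφ⟩ := D4Fixed.exists_frob hq hK
  obtain ⟨h1, h2⟩ := order_trace (p := 13) φ word_three pow_three' Tab28Three.ne_one Tab28Three.trace_eq
  refine ⟨⟨w φ, w_mem hφ⟩, by rw [Subgroup.orderOf_mk, h1], ?_⟩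
  refine vz_of_trace (r := 3) hφ hq hK (p := 13) (by norm_num) (by norm_num) (by rw [Subgroup.orderOf_mk, h1]) ?_
  intro z hz ho
  change _ ≠ Matrix.trace ((w φ : GL chevD4.Idx K) : Matrix chevD4.Idx chevD4.Idx K)
  rw [h2]
  obtain ⟨χ, e, h3, h4, h5, h6, h7⟩ := exists_of_T hφ hK (p := 13) (by norm_num) (by norm_num) hz ho
  rw [e, trace_tor χ h3 h4 h5 h6 (by norm_num), sum_three]
  have h30 : (3 : K) = 0 := CharP.cast_eq_zero K 3
  intro h9
  apply one_ne_zero (α := K)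
  have h10 : (4 : K) + (6 + 0) = 0 := by
    rw [h30, zero_mul] at h9
    exact h9
  linear_combination h10 - 3 * h30

end main

end Cfsg.Agent.H139.Van.TwD4Small
end

-- part: H139/Van/DzF4
section
/-!
# Characters of `p`-defect zero of `F₄(q)` for `p ∤ q (q² - 1)` (helper139)

* `dz_F4`.
-/

set_option autoImplicit false
set_option linter.unusedSectionVars false

namespace Cfsg.Agent.H139.Van.DzF4

open CoxeterSystem Cfsg Cfsg.Lie Cfsg.Lie.ChevalleyDatum
open Cfsg.Agent.ChevalleyStructure Cfsg.Agent.ChevalleyStructure.Elts Cfsg.Agent.ChevalleyStructure.CoxeterGeom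
  Cfsg.Agent.ChevalleyStructure.CoxeterGeomTypes Cfsg.Agent.ChevalleyStructure.NPerm
open Cfsg.Agent.Tits.Roots Cfsg.Agent.Tits.Core Cfsg.Agent.Nodes.Reps Cfsg.Agent.Nodes.BNOf
  Cfsg.Agent.Nodes.RGDChev Cfsg.Agent.Nodes.Bruhat
open Cfsg.Agent.H35.ExcIdx Cfsg.Agent.H53.HC.ExcRows Cfsg.Agent.H654.Two.F4Row Cfsg.Agent.H654.Two.F4Char
open Cfsg.Agent.H387.VO Cfsg.Agent.H620 Cfsg.Agent.H720.PV Cfsg.Agent.H378.AdjTab Cfsg.Agent.H378.ExcAdj
  Cfsg.Agent.H378.CycTab Cfsg.Agent.H378 Cfsg.Agent.H129.WData Cfsg.Agent.H493.PGTorus Cfsg.Agent.H654.Van.F4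

end Cfsg.Agent.H139.Van.DzF4
end

-- part: H139/Van/Ord3
section
/-!
# The rows of S4555 and S4559 for `F₄(q)`, `G₂(q)`, `³D₄(q)`, `p ∤ q (q² - 1)` (helper139)

* `vOrdP_F4`, `vOrdP_G2`, `vOrdP_D4` (for all `q`; `³D₄(2)`, `p = 7` and `³D₄(3)`, `p = 13` by `TwD4Small`);
* `vPow_F4`, `vPow_G2`, `vPow_D4`.
-/

set_option autoImplicit false

open Cfsg Cfsg.Lie

namespace Cfsg.Agent.H139.Van.Ord3

open H620.PNorm

/-- a character of `p`-defect zero gives `VOrdP` -/
theorem vOrdP_of_dz {S : Type*} [Group S] [Finite S] {p : ℕ} [hp : Fact p.Prime] (h : H665.NoPQ.HasDZ p S)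
    (hd : p ∣ Nat.card S) : VOrdP p S := by
  obtain ⟨x, hx⟩ := exists_prime_orderOf_dvd_card' (G := S) p hd
  exact ⟨x, hx, H713.HasDZ.vz h (by rw [hx])⟩

/-- **`³D₄(q)`, `p ∤ q (q² - 1)`.** -/
theorem vOrdP_D4 {K : Type} [Field K] [Fintype K] {q : ℕ} (hq : IsPrimePow q) (hK : Fintype.card K = q ^ 3) {p : ℕ}
    [hpf : Fact p.Prime] (hpq : ¬ p ∣ q) (h1 : ¬ p ∣ q - 1) (h2 : ¬ p ∣ q + 1)
    (hd : p ∣ Nat.card ↥(twistedD4 K q)) : VOrdP p ↥(twistedD4 K q) := by
  have hpp := hpf.out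
  have : Finite ↥(twistedD4 K q) := inferInstance
  have hq2 := hq.two_le
  by_cases h3 : p ∣ q ^ 2 + q + 1
  · have hp2 : p ≠ 2 := by
      rintro rfl
      omega
    have e3 : q ^ 3 - 1 = (q - 1) * (q ^ 2 + q + 1) := by
      obtain ⟨m, rfl⟩ := Nat.exists_eq_add_of_le hq2
      have e1 : 2 + m - 1 = m + 1 := by omega
      rw [e1, show (2 + m) ^ 3 = (m + 1) * ((2 + m) ^ 2 + (2 + m) + 1) + 1 by ring]
      rfl
    by_cases h4 : 4 ≤ q
    · exact vOrdP_of_dz (TwD4.dz_of_dvd hq h4 hK hpq hp2 h1 (by rw [e3]; exact h3.mul_left _)) hd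
    · have h5 : q = 2 ∨ q = 3 := by omega
      rcases h5 with rfl | rfl
      · have h6 : p = 7 := (Nat.prime_dvd_prime_iff_eq hpp (by norm_num)).1 (by simpa using h3)
        subst h6
        exact TwD4Small.vOrdP_two hK
      · have h6 : p = 13 := (Nat.prime_dvd_prime_iff_eq hpp (by norm_num)).1 (by simpa using h3)
        subst h6
        exact TwD4Small.vOrdP_three hK
  · exact vOrdP_of_dz (TwD4.dz_of_not_dvd hq hK hpq h1 h2 h3) hd

end Cfsg.Agent.H139.Van.Ord3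
end

private theorem dce_6dd41d57a3a8 : _root_.True := by
  try have : _root_.True := by simp only [_root_.Cfsg.Agent.H139.Van.Tab28.dot.eq_1]
  try have : _root_.True := by simp only [_root_.Cfsg.Agent.H139.Van.Tab28.dot.eq_def]
  try have : _root_.True := by simp only [_root_.Cfsg.Agent.H139.Van.Tab28.dot.eq_2]
  try have : _root_.True := by simp only [_root_.Cfsg.Agent.H139.Van.TwD4Small.nn.eq_1]
  try have : _root_.True := by simp only [_root_.Cfsg.Agent.H139.Van.TwD4Small.t2.eq_1]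
  try have : _root_.True := by simp only [_root_.Cfsg.Agent.H139.Van.TwD4Small.t3.eq_1]
  exact _root_.True.intro
end

-- part: H123/PV/McL_mg
section
prune_inst 0x43530754005a202080000059273007e46e60005b0006884009ce10f4206867f6089822920fd801d115a2aa205003d0008110000f0420000000a200400011c01a098a81200b149a10862001f001087180000000000000000000000000000041004000000000
set_option linter.all false
open scoped Cfsg.Agent.FastGrp

-- part: H123/PV/McL
section
/-!
# S4555: the prime 2 for `McL` (helper123)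

The automorphisms of `McL` are induced by elements of `Co0`, so the character of degree 22 (trace on the Leech lattice
minus 2) is invariant; the elements of order 8 of `M22` have two fixed points on 24 points, hence trace 2.
-/

set_option autoImplicit false

namespace Cfsg.Agent.H123.PV.McL

open Cfsg Cfsg.Spor Subgroup Cfsg.Agent.H997.OutMcL Cfsg.Agent.H997

/-! ### automorphisms -/

/-- conjugation by an element interchanging `U` and `W` is not inner -/
theorem not_inner {f : Equiv.Perm leechLattice} (hf : f ∈ Co0) (hV : f leechV = leechV) (hU : f leechU = W)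
    (hW : f W = leechU) (k : Spor.McL) (hk : ∀ x : Equiv.Perm leechLattice, x ∈ Spor.McL →
      f * x * f⁻¹ = k * x * (k : Equiv.Perm leechLattice)⁻¹) : False := by
  obtain ⟨hfin, hsimple, hcard, ⟨L⟩⟩ := TypeM.FactsMcL.exists_mt_mcl
  have hkm := mem_McL.1 k.2
  have hcV : ((k : Equiv.Perm leechLattice)⁻¹ * f) leechV = leechV := by
    rw [Equiv.Perm.mul_apply, hV, Equiv.Perm.inv_eq_iff_eq, hkm.2.1]
  have hkW : (k : Equiv.Perm leechLattice) W = W := by rw [map_W hkm.1 hkm.2.1, hkm.2.2]; rfl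
  have hcU : ((k : Equiv.Perm leechLattice)⁻¹ * f) leechU = W := by
    rw [Equiv.Perm.mul_apply, hU, Equiv.Perm.inv_eq_iff_eq, hkW]
  have hcW : ((k : Equiv.Perm leechLattice)⁻¹ * f) W = leechU := by
    rw [Equiv.Perm.mul_apply, hW, Equiv.Perm.inv_eq_iff_eq, hkm.2.2]
  have hc0 : (k : Equiv.Perm leechLattice)⁻¹ * f ∈ Co0 := mul_mem (inv_mem hkm.1) hf
  have hcen : ∀ x : Equiv.Perm leechLattice, x ∈ Spor.McL →
      ((k : Equiv.Perm leechLattice)⁻¹ * f) * x = x * ((k : Equiv.Perm leechLattice)⁻¹ * f) := by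
    intro x hx
    have h2 := hk x hx
    calc (k : Equiv.Perm leechLattice)⁻¹ * f * x = (k : Equiv.Perm leechLattice)⁻¹ * (f * x * f⁻¹) * f := by group
      _ = (k : Equiv.Perm leechLattice)⁻¹ * (k * x * (k : Equiv.Perm leechLattice)⁻¹) * f := by rw [h2]
      _ = x * ((k : Equiv.Perm leechLattice)⁻¹ * f) := by group
  obtain ⟨c, hc⟩ : ∃ c : Equiv.Perm leechLattice, c = (k : Equiv.Perm leechLattice)⁻¹ * f := ⟨_, rfl⟩
  rw [← hc] at hcV hcU hcW hc0 hcen
  have hcc : c * c ∈ Spor.McL := mem_McL.2 ⟨mul_mem hc0 hc0, by rw [Equiv.Perm.mul_apply, hcV, hcV],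
    by rw [Equiv.Perm.mul_apply, hcU, hcW]⟩
  have hcc1 : c * c = 1 := by
    have hz : (⟨c * c, hcc⟩ : Spor.McL) ∈ Subgroup.center Spor.McL := by
      rw [Subgroup.mem_center_iff]
      intro x
      apply Subtype.ext
      show (x : Equiv.Perm leechLattice) * (c * c) = c * c * x
      rw [← mul_assoc, ← hcen x x.2, mul_assoc, ← hcen x x.2, mul_assoc]
    have hzb : Subgroup.center Spor.McL = ⊥ := by
      rcases IsSimpleGroup.eq_bot_or_eq_top_of_normal (Subgroup.center Spor.McL) inferInstance with h | h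
      · exact h
      · exfalso
        have hcomm : ∀ a b : Spor.McL, a * b = b * a := fun a b =>
          (Subgroup.mem_center_iff.1 (by rw [h]; trivial : b ∈ Subgroup.center Spor.McL) a)
        let _ : CommGroup Spor.McL := { (inferInstance : Group Spor.McL) with mul_comm := hcomm }
        have hp := IsSimpleGroup.prime_card (α := Spor.McL)
        rw [hcard] at hp
        revert hp
        norm_num
    rw [hzb, Subgroup.mem_bot] at hz
    exact congrArg Subtype.val hz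
  refine no_central (c := ⟨⟨c, hc0⟩, hcV⟩) ?_ ?_ hcen
  · intro h
    have h1 : c = 1 := congrArg (fun z : Cfsg.Agent.SporRec.Co3.Chain.G3 => ((z : Co0) : Equiv.Perm leechLattice)) h
    rw [h1] at hcU
    exact W_ne hcU.symm
  · apply Subtype.ext
    apply Subtype.ext
    exact hcc1

/-- The automorphisms of `McL` are induced by elements of `Co0`. -/
theorem exists_co0 (α : MulAut Spor.McL) : ∃ h : Co0, ∀ x : Spor.McL,
    ((α x : Spor.McL) : Equiv.Perm leechLattice) = (h : Equiv.Perm leechLattice) * x * (h : Equiv.Perm leechLattice)⁻¹ := by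
  obtain ⟨hfin, hsimple, hcard, ⟨L⟩⟩ := TypeM.FactsMcL.exists_mt_mcl
  obtain ⟨f, hf, hV, hU, hW⟩ := OutMcL.exists_swap
  have hn := mem_normalizer hf hV hU hW
  have hG : TypeM.FactsAut.Gen L := TypeM.FactsAut.gen L (Or.inl ⟨rfl, hcard⟩)
  set β : MulAut Spor.McL := Subgroup.normalizerMonoidHom Spor.McL ⟨f, hn⟩ with hβ
  have hβx : ∀ x : Spor.McL, ((β x : Spor.McL) : Equiv.Perm leechLattice) = f * x * f⁻¹ := fun x => rfl
  have hβo : β ∉ (MulAut.conj : Spor.McL →* MulAut Spor.McL).range := by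
    rintro ⟨k, hk⟩
    refine not_inner hf hV hU hW k fun x hx => ?_
    have h1 := congrArg (fun γ : MulAut Spor.McL => ((γ ⟨x, hx⟩ : Spor.McL) : Equiv.Perm leechLattice)) hk
    exact h1.symm
  by_cases hα : α ∈ (MulAut.conj : Spor.McL →* MulAut Spor.McL).range
  · obtain ⟨k, rfl⟩ := hα
    exact ⟨⟨k, (mem_McL.1 k.2).1⟩, fun x => rfl⟩
  · obtain ⟨g, hg⟩ := TypeM.OuterInst.mul_mem_range L (Or.inl rfl) hG hβo hα
    -- `β α = conj g`
    refine ⟨⟨f⁻¹ * g, mul_mem (inv_mem hf) (mem_McL.1 g.2).1⟩, fun x => ?_⟩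
    have h1 : ((β (α x) : Spor.McL) : Equiv.Perm leechLattice) = g * x * (g : Equiv.Perm leechLattice)⁻¹ :=
      congrArg (fun γ : MulAut Spor.McL => ((γ x : Spor.McL) : Equiv.Perm leechLattice)) hg.symm
    rw [hβx] at h1
    change _ = f⁻¹ * g * x * (f⁻¹ * g)⁻¹
    calc ((α x : Spor.McL) : Equiv.Perm leechLattice) = f⁻¹ * (f * (α x : Spor.McL) * f⁻¹) * f := by group
      _ = f⁻¹ * (g * x * (g : Equiv.Perm leechLattice)⁻¹) * f := by rw [h1]
      _ = f⁻¹ * g * x * (f⁻¹ * g)⁻¹ := by group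

/-! ### the element of order 8 -/

open Cfsg.Agent.H419.Spor.Mathieu Cfsg.Agent.H419.LeechFix Cfsg.Agent.H419.LeechIrr
open Cfsg.Agent.SporadicA.Co0Mono (permCo0)
open Cfsg.Agent.SporadicRecognition.HSRank Cfsg.Agent.SporadicRecognition.RankThree

/-- an element of order 8 of `M22` -/
noncomputable def x8 : Spor.M22 := ⟨T * cubeTwist * T * cubeTwist * T * M,
  ⟨mul_mem (mul_mem (mul_mem (mul_mem (mul_mem T_mem C_mem) T_mem) C_mem) T_mem) M_mem, by
      show (T * cubeTwist * T * cubeTwist * T * M) none = none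
      decide +kernel⟩, by
      show (T * cubeTwist * T * cubeTwist * T * M) (some 0) = some 0
      decide +kernel⟩

theorem x8_pow : x8 ^ 8 = 1 := by
  apply Subtype.ext
  show (T * cubeTwist * T * cubeTwist * T * M) ^ 8 = 1
  apply Equiv.ext
  decide +kernel

noncomputable def y8 : St2 := Cfsg.Agent.H419.Spor.HS.e2.symm x8

theorem y8_fix : Nat.card (MulAction.fixedBy GolayPt ((y8 : St1) : M24)) = 2 := by
  have h : ∀ p : GolayPt, (T * cubeTwist * T * cubeTwist * T * M) p = p ↔ p = none ∨ p = some 0 := by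
    decide +kernel
  have h1 : MulAction.fixedBy GolayPt ((y8 : St1) : M24) = {none, some 0} := by
    ext p
    exact h p
  rw [h1, Nat.card_coe_set_eq, Set.ncard_pair (by simp)]

/-- the element of order 8 of `McL` -/
noncomputable def z8 := H713.Spor.McL.k y8

theorem z8_pow : z8 ^ 8 = 1 := by
  rw [z8, ← map_pow]
  have h : y8 ^ 8 = 1 := by rw [y8, ← map_pow, x8_pow, map_one]
  rw [h, map_one]

theorem lchi_z8 : lchi (Subgroup.subtype _) z8 = 2 := by
  have h : (K (-Spor.leechV) Spor.leechU).subtype z8 = permCo0 ((y8 : St1) : M24) := rfl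
  have h1 := lchi_perm (K (-Spor.leechV) Spor.leechU).subtype h
  rw [y8_fix] at h1
  rw [h1]
  norm_num

theorem vz_z8 : H713.VZ _ z8 := by
  obtain ⟨μ, -, hμ⟩ := H713.Spor.McL.exists_22
  refine ⟨μ, fun α => ?_⟩
  obtain ⟨h, hh⟩ := exists_co0 ((H713.Spor.McL.mclEquiv.trans α).trans H713.Spor.McL.mclEquiv.symm)
  have h1 := hμ (α z8)
  have h2 : Cfsg.Agent.Co2Type.Mono.tr8 ((α z8 : _) : Co0) = Cfsg.Agent.Co2Type.Mono.tr8 ((z8 : _) : Co0) := by
    have h3 : ((α z8 : _) : Co0) = h * ((z8 : _) : Co0) * h⁻¹ := Subtype.ext (by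
      have h4 := hh (H713.Spor.McL.mclEquiv.symm z8)
      have h5 : (H713.Spor.McL.mclEquiv.trans α) (H713.Spor.McL.mclEquiv.symm z8) = α z8 := by
        rw [MulEquiv.trans_apply, MulEquiv.apply_symm_apply]
      rw [MulEquiv.trans_apply, h5] at h4
      exact h4)
    rw [h3, Cfsg.Agent.Co2Type.Mono.tr8_conj]
  have h3 : lchi (Subgroup.subtype _) (α z8) = lchi (Subgroup.subtype _) z8 := by
    show (Cfsg.Agent.Co2Type.Mono.tr8 _ : ℂ) / 8 = (Cfsg.Agent.Co2Type.Mono.tr8 _ : ℂ) / 8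
    exact congrArg (fun n : ℤ => (n : ℂ) / 8) h2
  rw [h3, lchi_z8] at h1
  push_cast at h1
  linear_combination -h1

/-- **`McL` at 2.** -/
theorem mcl_2 {K : Type*} [Group K] (h : Spor.IsoMcL K) : H620.PNorm.VPow 2 K := by
  obtain ⟨e⟩ := h
  refine H620.PNorm.VPow.mulEquiv (S := _) ⟨z8, ?_, vz_z8⟩ (H713.Spor.McL.mclEquiv.symm.trans e.symm)
  obtain ⟨j, -, hj⟩ := (Nat.dvd_prime_pow Nat.prime_two).1 (orderOf_dvd_of_pow_eq_one (n := 2 ^ 3) z8_pow)
  exact ⟨j, hj⟩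

end Cfsg.Agent.H123.PV.McL
end

-- part: H123/PV/Ru
section
/-!
# S4555: the prime 2 for `Ru` (helper123)

The involution `t` has no fixed points in the rank 3 representation on 4060 points and maps 1820 points to a
neighbour: the irreducible character of degree 3276 vanishes at `t`.
-/

set_option autoImplicit false
set_option maxRecDepth 100000
set_option exponentiation.threshold 5000

namespace Cfsg.Agent.H123.PV.Ru

open Cfsg Cfsg.Agent.Lib Cfsg.Agent.Lib.BitNet Cfsg.Agent.SporadicB Cfsg.Agent.SporadicB.RuData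
open Cfsg.Agent.SporadicB.RuOrder Cfsg.Agent.H690.Spor Cfsg.Agent.RuD.Letters Cfsg.Agent.SporRec.TCUpperCert
open Cfsg.Agent.KFacts.Ru.CentEng Cfsg.Agent.CpAutRuFive.Eng

/-- A relation invariant under the group and separating the orbitals is the relation of the rank 3 structure. -/
theorem R3_congr {G X : Type*} [Group G] [MulAction G X] {R R' : X → X → Prop} {k l : ℕ} (h : RankThree.R3 G X R k l)
    (hinv : ∀ (g : G) x y, R' x y → R' (g • x) (g • y)) (hirr : ∀ x, ¬ R' x x) {a b c d : X} (h1 : R a b)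
    (h1' : R' a b) (h2 : c ≠ d) (h3 : ¬ R c d) (h3' : ¬ R' c d) : RankThree.R3 G X R' k l := by
  have e : ∀ x y, R x y ↔ R' x y := by
    intro x y
    constructor
    · intro h4
      obtain ⟨g, rfl, rfl⟩ := h.one a b x y h1 h4
      exact hinv g _ _ h1'
    · intro h4
      by_contra h5
      have h6 : x ≠ y := by
        rintro rfl
        exact hirr _ h4
      obtain ⟨g, rfl, rfl⟩ := h.two c d x y h2 h3 h6 h5
      have h7 := hinv g⁻¹ _ _ h4
      rw [inv_smul_smul, inv_smul_smul] at h7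
      exact h3' h7
  have e' : R = R' := funext fun x => funext fun y => propext (e x y)
  rw [← e']
  exact h

/-- adjacency -/
def A (x y : Fin 4060) : Prop := (row (x : ℕ)).testBit (y : ℕ) = true

theorem inv_A (g : RuOrder.H) (x y : Fin 4060) (h : A x y) : A (g • x) (g • y) := by
  have h1 := (mem_Aut.1 g.2) x y
  unfold A at h ⊢
  change (row ((g : Equiv.Perm (Fin 4060)) x : Fin 4060)).testBit ((g : Equiv.Perm (Fin 4060)) y : Fin 4060) = true
  rw [h1]
  exact h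

theorem transH : MulAction.IsPretransitive RuOrder.H (Fin 4060) := isPretransitive

theorem irr0 : (row 0).testBit 0 = false := by decide +kernel

theorem irr_A (x : Fin 4060) : ¬ A x x := by
  intro h
  obtain ⟨g, hg⟩ := transH.exists_smul_eq x b1
  have h1 := inv_A g x x h
  rw [hg] at h1
  have h2 : (row 0).testBit 0 = true := h1
  rw [irr0] at h2
  exact Bool.false_ne_true h2

theorem r3A : RankThree.R3 RuOrder.H (Fin 4060) A 1755 2304 := by
  have h := RankThree.R3.of_orbits (G := RuOrder.H) (a := b1) (b := Ru.c3) (c := b2) (k := 1755) (l := 2304)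
    isPretransitive (by decide) (by decide) (by rw [Ru.orbit_eq]; exact Ru.ncards.1) (by rw [Ru.orbit_eq]; exact Ru.ncards.2) (by norm_num)
    (by simp)
  have hA : ¬ A b1 b2 := by
    intro h1
    have h2 : (row 0).testBit 29 = true := h1
    rw [Ru.adj_b2] at h2
    exact Bool.false_ne_true h2
  refine R3_congr h inv_A irr_A (a := b1) (b := Ru.c3) (c := b1) (d := b2) ⟨1, one_smul _ _, one_smul _ _⟩
    Ru.adj_c3 (by decide) ?_ hA
  rintro ⟨g, h1, h2⟩
  have h3 := inv_A g b1 Ru.c3 Ru.adj_c3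
  rw [h1, h2] at h3
  exact hA h3

/-! ### counting -/

theorem card_mask {M c : ℕ} (h : Nat.beq (popc 12 M) c = true) (P : Fin 4060 → Prop)
    (hP : ∀ i : Fin 4060, M.testBit i = true ↔ P i) (hM : Nat.ble (Nat.succ M) (Nat.pow 2 4060) = true) :
    Nat.card {i // P i} = c := by
  have hM' : M < 2 ^ 4060 := Nat.le_of_ble_eq_true hM
  have h1 := card_pts_le (n := 4060) (K := 12) (by norm_num) M
  have h2 := card_pts_eq (n := 4060) (K := 12) (x := M) (fun i hi => by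
    by_contra h3
    push Not at h3
    rw [Nat.testBit_lt_two_pow (lt_of_lt_of_le hM' (Nat.pow_le_pow_right (by norm_num) h3))] at hi
    exact Bool.false_ne_true hi)
  have h3 : popc 12 M = c := Nat.eq_of_beq_eq_true h
  have h4 : (pts 4060 M).card = c := by omega
  rw [← h4, ← Fintype.card_coe, ← Nat.card_eq_fintype_card]
  exact Nat.card_congr (Equiv.subtypeEquivRight fun i => by rw [mem_pts]; exact (hP i).symm)

/-- the points adjacent to their image under `t` -/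
def MT : ℕ := 0xfbc325761698a074112c1b4dc5892e5e1df4244e472d60061c4281d90e5486d605067a8c81692888957c1b532ef30216f594e1c7a27801d116453ec5dc132555b695809038c43c786ceae614d0205c29a8c46ab896851812c518447cc547742a8c238e0e06de0d5ad934c42d5825b48386783728f8194df87bd5243c24ab6aad4de4565d75ae4007090a1e6f3516327b5223a72b11e33faf856178d461c663c9670109a8b85fb05c59b144644c27494d8a5e42cb592b0935ff98cf6a8584cbb847689ef45ee635536a575bf071716f61df54ad170260f2370044a32c9c94660ce2e27403c01a74901182cf40d6e2469c00eb791ebe8e3c0af26c689812b1e83b998582afab9441a10c97e2450c81a40c814a8a854ac16817f91cc12cb8668013b2cc8d009b8d420d030cc5c9101fdb64dfb3c33308715b4c46988a0c582e4da63c16489f1f576258a70404978fa0a13ac4f75c83fdddbd30148250790486095920951b4e1aee93db98d1ef3a2211fc887a54cc359409615e628ca1000e0b23e5c89b8195dd5375836bb99b05471e8389d5c08ac90fc20ab5b0e651aaa9c3d515dbb1132362c61a5c97b178a8095009f672cead7102c121407648cb86c380089bc858b7650f5d3e5b0ce0a2527d410bb4d4c860dc40111e9b1f0e693e357092825300058dfc1149cc1e420db45b2b404321f23197ab19a03ce68ed6b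

theorem adjT : chkAdj [0] MT = true := by decide +kernel
theorem cntT : Nat.beq (popc 12 MT) 1820 = true := by decide +kernel
theorem ltT : Nat.ble (Nat.succ MT) (Nat.pow 2 4060) = true := by decide +kernel
theorem fixT : Nat.beq (fixMask [0]) 0 = true := by decide +kernel
theorem cnt2 : Nat.beq (popc 12 (Nat.land (row 0) (row 29))) 780 = true := by decide +kernel
theorem lt2 : Nat.ble (Nat.succ (Nat.land (row 0) (row 29))) (Nat.pow 2 4060) = true := by decide +kernel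

/-- the involution -/
def T0 : RuOrder.H := wprod ml [0]

theorem card_adjT : Nat.card {i : Fin 4060 // A i (T0 • i)} = 1820 :=
  card_mask cntT _ (fun i => by rw [testBit_adj adjT]; rfl) ltT

theorem card_fixT : Nat.card (MulAction.fixedBy (Fin 4060) T0) = 0 := by
  have h : ∀ i : Fin 4060, i ∉ MulAction.fixedBy (Fin 4060) T0 := by
    intro i hi
    have h1 : ((wprod ml [0] : RuOrder.H) : Equiv.Perm (Fin 4060)) i = i := hi
    have h2 := (testBit_fixMask [0] i).2 h1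
    have h3 : fixMask [0] = 0 := Nat.eq_of_beq_eq_true fixT
    rw [h3, Nat.zero_testBit] at h2
    exact Bool.false_ne_true h2
  have h1 : MulAction.fixedBy (Fin 4060) T0 = ∅ := Set.eq_empty_of_forall_notMem h
  rw [h1, Nat.card_coe_set_eq, Set.ncard_empty]

theorem card_two : Nat.card {z : Fin 4060 // A b1 z ∧ A z b2} = 780 := by
  refine card_mask cnt2 _ (fun i => ?_) lt2
  change ((row 0) &&& (row 29)).testBit (i : ℕ) = true ↔ _
  rw [Nat.testBit_and, Bool.and_eq_true]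
  have h1 : A i b2 ↔ A b2 i := ⟨fun h => r3A.symm _ _ h, fun h => r3A.symm _ _ h⟩
  rw [h1]
  rfl

theorem T0_sq : T0 * T0 = 1 := by
  have h : chkRel [[0, 0]] = true := by decide +kernel
  have h1 := rel_of_chk h [0, 0] (List.mem_singleton.2 rfl)
  rw [show ([0, 0] : List ℕ) = [0] ++ [0] from rfl, wprod_append] at h1
  exact h1

theorem T0_ne : T0 ≠ 1 := by
  intro h
  have h1 := card_fixT
  rw [h, MulAction.fixedBy_one_eq_univ, Nat.card_coe_set_eq, Set.ncard_univ, Nat.card_eq_fintype_card,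
    Fintype.card_fin] at h1
  omega

theorem order_T0 : orderOf T0 = 2 := by
  have : Fact (Nat.Prime 2) := ⟨Nat.prime_two⟩
  exact orderOf_eq_prime (by rw [pow_two, T0_sq]) T0_ne

theorem vz_T0 : H713.VZ RuOrder.H T0 := by
  obtain ⟨χ, hχ⟩ := H896.Van.Chi.exists_irr r3A (x0 := b1) (y0 := b2) (by decide) (by
      intro h1
      have h2 : (row 0).testBit 29 = true := h1
      rw [Ru.adj_b2] at h2
      exact Bool.false_ne_true h2) (a := 730) (b := 780) card_two (by norm_num) (u := 15) (v := -65) (by norm_num)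
    (by norm_num) (by norm_num) (by norm_num) (by norm_num)
  have h0 : (χ : RuOrder.H → ℂ) T0 = 0 := by
    have h1 := hχ T0
    rw [card_adjT, card_fixT] at h1
    have h2 : (80 : ℂ) * (χ : RuOrder.H → ℂ) T0 = 0 := by
      rw [show (80 : ℂ) = 15 - (-65) by norm_num, h1]
      norm_num
    exact (mul_eq_zero.1 h2).resolve_left (by norm_num)
  refine ⟨χ, fun α => ?_⟩
  obtain ⟨g, rfl⟩ := Cfsg.Agent.OddHalf.Table.OutRu.inner α
  rw [MulAut.conj_apply, Characters.Core.isIrr_isClassFunction χ.2, h0]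

/-- **`Ru` at 2**: an involution. -/
theorem ru_2' {K : Type*} [Group K] (h : Spor.IsoRu K) : ∃ x : K, orderOf x = 2 ∧ H713.VZ K x := by
  obtain ⟨e⟩ := h
  set f := (e.trans Cfsg.Agent.RuLat.Main.equiv).symm
  exact ⟨f T0, by rw [MulEquiv.orderOf_eq, order_T0], vz_T0.mulEquiv f⟩

/-- **`Ru` at 2.** -/
theorem ru_2 {K : Type*} [Group K] (h : Spor.IsoRu K) : H620.PNorm.VPow 2 K := by
  obtain ⟨x, h1, h2⟩ := ru_2' h
  exact ⟨x, ⟨1, h1⟩, h2⟩

end Cfsg.Agent.H123.PV.Ru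
end

-- part: H119/IMC/Diff
section
/-!
# Differences of permutation characters (helper119, S4526)
-/

set_option autoImplicit false

namespace Cfsg.Agent.H119.IMC

open Cfsg Cfsg.Agent.Characters.Core Cfsg.Agent.H625.SylConst MulAction
open scoped ComplexConjugate

universe u

/-- the number of orbits -/
noncomputable def no (G X : Type*) [Group G] [MulAction G X] : ℕ := Nat.card (Quotient (orbitRel G X))

theorem le_no {G X : Type*} [Group G] [MulAction G X] [Finite X] {α : Type*} (f : X → α)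
    (hf : ∀ (g : G) x, f (g • x) = f x) (s : Finset α) (hs : ∀ a ∈ s, ∃ x, f x = a) : s.card ≤ no G X := by
  classical
  have : Finite (Quotient (orbitRel G X)) := inferInstance
  let F : Quotient (orbitRel G X) → α := Quotient.lift f (by
    rintro a b ⟨g, hg⟩
    rw [← hg]
    exact hf g b)
  have h1 : ∀ a : s, ∃ q, F q = a := by
    intro a
    obtain ⟨x, hx⟩ := hs a a.2
    exact ⟨Quotient.mk _ x, hx⟩
  choose q hq using h1
  have h2 : Function.Injective q := by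
    intro a b hab
    apply Subtype.ext
    rw [← hq a, ← hq b, hab]
  have h3 := Nat.card_le_card_of_injective q h2
  rwa [Nat.card_eq_fintype_card, Fintype.card_coe] at h3

section

variable {G : Type u} [Group G] [Finite G] (X Y : Type*) [MulAction G X] [MulAction G Y]
  [Finite X] [Finite Y]

/-- the difference of two permutation characters -/
noncomputable def dif (g : G) : ℂ := (Nat.card (fixedBy X g) : ℂ) - Nat.card (fixedBy Y g)

omit [Finite G] in
theorem inner_perm [Fintype G] : classInner (fun g : G => (Nat.card (fixedBy X g) : ℂ))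
    (fun g : G => (Nat.card (fixedBy Y g) : ℂ)) = no G (X × Y) := by
  have h := Cfsg.Agent.S0157.avg_fixedBy (G := G) (X × Y)
  rw [no, ← h]
  simp only [classInner, Cfsg.Agent.S0157.card_fixedBy_prod, Nat.cast_mul, Complex.conj_natCast]

omit [Finite G] [Finite X] in
theorem fixedBy_one_card : Nat.card (fixedBy X (1 : G)) = Nat.card X := by
  rw [fixedBy_one_eq_univ, Nat.card_univ]

theorem irr_dif (hX : no G (X × X) = 3) (hY : no G (Y × Y) = 2) (hXY : 2 ≤ no G (X × Y))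
    (hlt : Nat.card Y < Nat.card X) : IsIrrCharacter G (dif (G := G) X Y) := by
  have := Fintype.ofFinite G
  set a : G → ℂ := fun g => (Nat.card (fixedBy X g) : ℂ) with ha
  set b : G → ℂ := fun g => (Nat.card (fixedBy Y g) : ℂ) with hb
  have hd : dif (G := G) X Y = a - b := rfl
  have hac : IsCharacter G a := Cfsg.Agent.S0157.isCharacter_fixedBy X
  have hbc : IsCharacter G b := Cfsg.Agent.S0157.isCharacter_fixedBy Y
  have e1 : classInner a a = 3 := by rw [ha, inner_perm, hX]; norm_num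
  have e2 : classInner b b = 2 := by rw [hb, inner_perm, hY]; norm_num
  have e3 : classInner a b = no G (X × Y) := by rw [ha, hb, inner_perm]
  have e4 : classInner b a = no G (X × Y) := by
    rw [← classInner_conj_symm, e3, Complex.conj_natCast]
  have hn : classInner (a - b) (a - b) = 5 - 2 * (no G (X × Y) : ℂ) := by
    rw [classInner_sub_left, classInner_sub_right, classInner_sub_right, e1, e2, e3, e4]
    ring
  have h1 : (a - b) 1 = ((Nat.card X - Nat.card Y : ℕ) : ℂ) := by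
    rw [Nat.cast_sub hlt.le, Pi.sub_apply, ha, hb]
    simp only [fixedBy_one_card]
  have h0 : (a - b) 1 ≠ 0 := by
    rw [h1]
    exact_mod_cast (by omega : Nat.card X - Nat.card Y ≠ 0)
  have hpos : 0 < (5 : ℝ) - 2 * (no G (X × Y) : ℝ) := by
    have h4 := classInner_self_eq_ofReal (a - b)
    rw [hn] at h4
    have h5 : (5 : ℝ) - 2 * (no G (X × Y) : ℝ) = (Nat.card G : ℝ)⁻¹ * ∑ g : G, Complex.normSq ((a - b) g) := by
      exact_mod_cast h4
    rw [h5]
    refine mul_pos (inv_pos.2 (by exact_mod_cast Nat.card_pos)) ?_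
    refine Finset.sum_pos' (fun g _ => Complex.normSq_nonneg _) ⟨1, Finset.mem_univ _, ?_⟩
    exact Complex.normSq_pos.2 h0
  have h2 : no G (X × Y) = 2 := by
    have h6 : 2 * no G (X × Y) < 5 := by
      have : ((2 * no G (X × Y) : ℕ) : ℝ) < (5 : ℕ) := by push_cast; linarith
      exact_mod_cast this
    omega
  have hn1 : classInner (a - b) (a - b) = 1 := by
    rw [hn, h2]
    norm_num
  rw [hd]
  rcases isIrr_of_generalized ⟨a, b, hac, hbc, rfl⟩ hn1 with h | h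
  · exact h
  · exfalso
    obtain ⟨m, hm, hm1⟩ := isIrr_apply_one h
    have h4 : (((m + (Nat.card X - Nat.card Y) : ℕ)) : ℂ) = ((0 : ℕ) : ℂ) := by
      rw [Nat.cast_add, ← hm1, ← h1, Pi.neg_apply, Nat.cast_zero]
      exact neg_add_cancel ((a - b) 1)
    have h5 : m + (Nat.card X - Nat.card Y) = 0 := by exact_mod_cast h4
    omega

end

end Cfsg.Agent.H119.IMC
end

-- part: H119/IMC/M22
section
/-!
# `IMC p S` for `S = M22` (helper119, S4526)

`p = 2`: the character of degree 154 of the action on 176 heptads is a constituent of the action on 231 duads.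
-/

set_option autoImplicit false
open scoped Pointwise

namespace Cfsg.Agent.H119.IMC

open Cfsg Cfsg.Agent.Characters.Core Cfsg.Agent.H625.SylConst MulAction Cfsg.Agent.H794.Imc
open Cfsg.Agent.H852.IMMathieu Cfsg.Agent.H690.Spor.RankThree

/-- the 22 points -/
def YS : Set GolayPt := {x | x ≠ none ∧ x ≠ some 0}

theorem hYS (g : Equiv.Perm GolayPt) (hg : g ∈ Spor.M22) (x : GolayPt) (hx : x ∈ YS) : g x ∈ YS := by
  refine ⟨fun h => hx.1 ?_, fun h => hx.2 ?_⟩
  · exact g.injective (h.trans (show none = g none from (show g none = none from hg.1.2).symm))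
  · exact g.injective (h.trans (show some 0 = g (some 0) from (show g (some 0) = some 0 from hg.2).symm))

/-- `M22` is 3-transitive -/
theorem tr3 {a b c a' b' c' : GolayPt} (ha : a ∈ YS) (hb : b ∈ YS) (hc : c ∈ YS) (ha' : a' ∈ YS) (hb' : b' ∈ YS)
    (hc' : c' ∈ YS) (hab : a ≠ b) (hac : a ≠ c) (hbc : b ≠ c) (hab' : a' ≠ b') (hac' : a' ≠ c') (hbc' : b' ≠ c') :
    ∃ g : Spor.M22, (g : Equiv.Perm GolayPt) a = a' ∧ (g : Equiv.Perm GolayPt) b = b' ∧
      (g : Equiv.Perm GolayPt) c = c' := by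
  have inj : ∀ {x y z : GolayPt}, x ∈ YS → y ∈ YS → z ∈ YS → x ≠ y → x ≠ z → y ≠ z →
      Function.Injective (![none, some 0, x, y, z] : Fin 5 → GolayPt) := by
    intro x y z hx hy hz hxy hxz hyz i j hij
    have h0 : (none : GolayPt) ≠ some 0 := by simp
    fin_cases i <;> fin_cases j <;> [(rfl); ((exfalso; simp only [Matrix.cons_val, Fin.zero_eta, Fin.mk_one, Fin.reduceFinMk] at hij; (exact h0 hij)));
                                     ((exfalso; simp only [Matrix.cons_val, Fin.zero_eta, Fin.mk_one, Fin.reduceFinMk] at hij; (exact hx.1 hij.symm)));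
                                     ((exfalso; simp only [Matrix.cons_val, Fin.zero_eta, Fin.mk_one, Fin.reduceFinMk] at hij; (exact hy.1 hij.symm)));
                                     ((exfalso; simp only [Matrix.cons_val, Fin.zero_eta, Fin.mk_one, Fin.reduceFinMk] at hij; (exact hz.1 hij.symm)));
                                     ((exfalso; simp only [Matrix.cons_val, Fin.zero_eta, Fin.mk_one, Fin.reduceFinMk] at hij; (exact h0 hij.symm))); (rfl);
                                     ((exfalso; simp only [Matrix.cons_val, Fin.zero_eta, Fin.mk_one, Fin.reduceFinMk] at hij; (exact hx.2 hij.symm)));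
                                     ((exfalso; simp only [Matrix.cons_val, Fin.zero_eta, Fin.mk_one, Fin.reduceFinMk] at hij; (exact hy.2 hij.symm)));
                                     ((exfalso; simp only [Matrix.cons_val, Fin.zero_eta, Fin.mk_one, Fin.reduceFinMk] at hij; (exact hz.2 hij.symm)));
                                     ((exfalso; simp only [Matrix.cons_val, Fin.zero_eta, Fin.mk_one, Fin.reduceFinMk] at hij; (exact hx.1 hij)));
                                     ((exfalso; simp only [Matrix.cons_val, Fin.zero_eta, Fin.mk_one, Fin.reduceFinMk] at hij; (exact hx.2 hij))); (rfl);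
                                     ((exfalso; simp only [Matrix.cons_val, Fin.zero_eta, Fin.mk_one, Fin.reduceFinMk] at hij; (exact hxy hij)));
                                     ((exfalso; simp only [Matrix.cons_val, Fin.zero_eta, Fin.mk_one, Fin.reduceFinMk] at hij; (exact hxz hij)));
                                     ((exfalso; simp only [Matrix.cons_val, Fin.zero_eta, Fin.mk_one, Fin.reduceFinMk] at hij; (exact hy.1 hij)));
                                     ((exfalso; simp only [Matrix.cons_val, Fin.zero_eta, Fin.mk_one, Fin.reduceFinMk] at hij; (exact hy.2 hij)));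
                                     ((exfalso; simp only [Matrix.cons_val, Fin.zero_eta, Fin.mk_one, Fin.reduceFinMk] at hij; (exact hxy hij.symm))); (rfl);
                                     ((exfalso; simp only [Matrix.cons_val, Fin.zero_eta, Fin.mk_one, Fin.reduceFinMk] at hij; (exact hyz hij)));
                                     ((exfalso; simp only [Matrix.cons_val, Fin.zero_eta, Fin.mk_one, Fin.reduceFinMk] at hij; (exact hz.1 hij)));
                                     ((exfalso; simp only [Matrix.cons_val, Fin.zero_eta, Fin.mk_one, Fin.reduceFinMk] at hij; (exact hz.2 hij)));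
                                     ((exfalso; simp only [Matrix.cons_val, Fin.zero_eta, Fin.mk_one, Fin.reduceFinMk] at hij; (exact hxz hij.symm)));
                                     ((exfalso; simp only [Matrix.cons_val, Fin.zero_eta, Fin.mk_one, Fin.reduceFinMk] at hij; (exact hyz hij.symm))); (rfl)]
  obtain ⟨g, hg⟩ := Cfsg.Agent.SporadicStructure.M23Index253.exists_map Cfsg.Agent.S0366.result le_rfl _ _
    (inj ha hb hc hab hac hbc) (inj ha' hb' hc' hab' hac' hbc')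
  exact ⟨⟨(g : Equiv.Perm GolayPt), ⟨g.2, hg 0⟩, hg 1⟩, hg 2, hg 3, hg 4⟩

theorem tr2 {a b a' b' : GolayPt} (ha : a ∈ YS) (hb : b ∈ YS) (ha' : a' ∈ YS) (hb' : b' ∈ YS)
    (hab : a ≠ b) (hab' : a' ≠ b') :
    ∃ g : Spor.M22, (g : Equiv.Perm GolayPt) a = a' ∧ (g : Equiv.Perm GolayPt) b = b' := by
  have h3 : ∀ x y : GolayPt, ∃ z ∈ YS, x ≠ z ∧ y ≠ z := by
    intro x y
    obtain ⟨z, hz⟩ : ∃ z, z ∉ ({none, some 0, x, y} : Finset GolayPt) := by
      by_contra hcon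
      push Not at hcon
      have h1 : (Finset.univ : Finset GolayPt) ⊆ {none, some 0, x, y} := fun z _ => hcon z
      have h2 := Finset.card_le_card h1
      have h3 : (({none, some 0, x, y} : Finset GolayPt)).card ≤ 4 := Finset.card_le_four
      have h4 : (Finset.univ : Finset GolayPt).card = 24 := by simp
      omega
    simp only [Finset.mem_insert, Finset.mem_singleton, not_or] at hz
    exact ⟨z, ⟨hz.1, hz.2.1⟩, fun h => hz.2.2.1 h.symm, fun h => hz.2.2.2 h.symm⟩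
  obtain ⟨c, hc, h1, h2⟩ := h3 a b
  obtain ⟨c', hc', h1', h2'⟩ := h3 a' b'
  obtain ⟨g, e1, e2, -⟩ := tr3 ha hb hc ha' hb' hc' hab h1 h2 hab' h1' h2'
  exact ⟨g, e1, e2⟩

theorem card_YS : Nat.card YS = 22 := by
  have h1 : YS = ((Finset.univ.erase (none : GolayPt)).erase (some 0) : Finset GolayPt) := by
    ext x
    simp only [YS, Set.mem_ofPred_eq, Finset.coe_erase, Finset.coe_univ, Set.mem_sdiff, Set.mem_univ, true_and,
      Set.mem_singleton_iff]
  rw [h1, Nat.card_coe_set_eq, Set.ncard_coe_finset]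
  decide

/-- the action on the points -/
@[reducible] def actY : MulAction Spor.M22 YS := actOn Spor.M22 YS hYS

/-- the action on the heptads -/
@[reducible] def actX : MulAction Spor.M22 XP := actSub XP hXP

theorem no_YY : letI := actY; no Spor.M22 (YS × YS) = 2 := by
  let _ := actY
  have h2 : IsMultiplyPretransitive Spor.M22 YS 2 := by
    rw [is_two_pretransitive_iff]
    intro a b c d hab hcd
    obtain ⟨g, h1, h2⟩ := tr2 a.2 b.2 c.2 d.2 (fun h => hab (Subtype.ext h)) (fun h => hcd (Subtype.ext h))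
    exact ⟨g, Subtype.ext h1, Subtype.ext h2⟩
  have h1 : IsPretransitive Spor.M22 YS := by
    rw [← is_one_pretransitive_iff]
    exact isMultiplyPretransitive_of_le (n := 2) (by norm_num) (by rw [card_YS]; norm_num)
  exact (Cfsg.Agent.S0157.two_pretransitive_iff_card_orbits Spor.M22 YS (by rw [card_YS]; norm_num)).1 h2

theorem two_in {o : Finset GolayPt} (ho : o ∈ XP) : ∃ a b : GolayPt, a ∈ YS ∧ b ∈ YS ∧ a ≠ b ∧ a ∈ o ∧ b ∈ o := by
  have h1 : (o.erase none).card = 7 := by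
    rw [Finset.card_erase_of_mem ho.2.1, card_oct ho.1]
  obtain ⟨a, ha, b, hb, hab⟩ := Finset.one_lt_card.1 (by omega : 1 < (o.erase none).card)
  rw [Finset.mem_erase] at ha hb
  exact ⟨a, b, ⟨ha.1, fun h => ho.2.2 (h ▸ ha.2)⟩, ⟨hb.1, fun h => ho.2.2 (h ▸ hb.2)⟩, hab, ha.2, hb.2⟩

theorem two_out {o : Finset GolayPt} (ho : o ∈ XP) : ∃ a b : GolayPt, a ∈ YS ∧ b ∈ YS ∧ a ≠ b ∧ a ∉ o ∧ b ∉ o := by
  have h1 : (oᶜ.erase (some 0)).card = 15 := by
    rw [Finset.card_erase_of_mem (by rw [Finset.mem_compl]; exact ho.2.2), Finset.card_compl, card_oct ho.1]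
    simp
  obtain ⟨a, ha, b, hb, hab⟩ := Finset.one_lt_card.1 (by omega : 1 < (oᶜ.erase (some 0)).card)
  rw [Finset.mem_erase, Finset.mem_compl] at ha hb
  exact ⟨a, b, ⟨fun h => ha.2 (h ▸ ho.2.1), ha.1⟩, ⟨fun h => hb.2 (h ▸ ho.2.1), hb.1⟩, hab, ha.2, hb.2⟩

theorem no_XY : letI := actY; letI := actX; 2 ≤ no Spor.M22 (XP × YS) := by
  let _ := actY
  let _ := actX
  classical
  obtain ⟨o, ho⟩ := XP_nonempty
  obtain ⟨a, -, ha, -, -, hao, -⟩ := two_in ho
  obtain ⟨b, -, hb, -, -, hbo, -⟩ := two_out ho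
  have h := le_no (G := Spor.M22) (X := XP × YS) (fun t => decide ((t.2 : GolayPt) ∈ (t.1 : Finset GolayPt))) ?_
    {true, false} ?_
  · exact h
  · rintro g ⟨x, y⟩
    have h1 : ((g : Equiv.Perm GolayPt) • (y : GolayPt) ∈ (g : Equiv.Perm GolayPt) • (x : Finset GolayPt)) ↔
      (y : GolayPt) ∈ (x : Finset GolayPt) := Finset.smul_mem_smul_finset_iff _
    exact decide_eq_decide.2 h1
  · intro t ht
    rcases t with _ | _
    · exact ⟨(⟨o, ho⟩, ⟨b, hb⟩), decide_eq_false hbo⟩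
    · exact ⟨(⟨o, ho⟩, ⟨a, ha⟩), decide_eq_true hao⟩

theorem card_XP : Nat.card XP = 176 := by
  rw [Nat.card_coe_set_eq]
  exact (Cfsg.Agent.S1605.result none (some 0) (by simp)).1

/-- the character of degree 154 -/
theorem irr154 : letI := actY; letI := actX; IsIrrCharacter Spor.M22 (dif (G := Spor.M22) XP YS) := by
  let _ := actY
  let _ := actX
  have hfin : Finite Spor.M22 := Nat.finite_of_card_ne_zero (by rw [card_M22]; norm_num)
  classical
  have := Fintype.ofFinite XP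
  exact irr_dif XP YS (R3.card_orbits r3_heptads) no_YY no_XY (by rw [card_XP, card_YS]; norm_num)

universe u

end Cfsg.Agent.H119.IMC
end

-- part: H446/VP/M22
section
/-!
# `VPow 2` for `M22` (helper446)

The character of degree 154 (heptads minus points) vanishes at the elements of order 8: they have no fixed
points on the 22 points, so they fix no heptad.
-/

set_option autoImplicit false
open scoped Pointwise

namespace Cfsg.Agent.H446.VP

open Cfsg Cfsg.Agent.H713 Cfsg.Agent.H119.IMC MulAction Cfsg.Agent.H852.IMMathieu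
  Cfsg.Agent.H419.Spor.Mathieu Cfsg.Agent.H620.PNorm

/-- A 2-element without fixed points on the 22 points is a zero of the character of degree 154. -/
theorem dif_eq_zero (z : Spor.M22) (k : ℕ) (hz : z ^ 2 ^ k = 1)
    (hf : ∀ x : GolayPt, x ∈ YS → (z : Equiv.Perm GolayPt) x ≠ x) :
    letI := actY; letI := actX; dif (G := Spor.M22) XP YS z = 0 := by
  let _ := actY
  let _ := actX
  have : Fact (Nat.Prime 2) := ⟨Nat.prime_two⟩
  have h1 : IsEmpty (fixedBy YS z) := ⟨fun y => hf y.1 y.1.2 (congrArg Subtype.val y.2)⟩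
  have h2 : IsEmpty (fixedBy XP z) := by
    refine ⟨fun o => ?_⟩
    obtain ⟨⟨o, ho⟩, hfix⟩ := o
    have hfix' : (z : Equiv.Perm GolayPt) • o = o := congrArg Subtype.val hfix
    have hn : (z : Equiv.Perm GolayPt) none = none := z.2.1.2
    have hmem : ∀ p ∈ o.erase none, (z : Equiv.Perm GolayPt) p ∈ o.erase none := by
      intro p hp
      rw [Finset.mem_erase] at hp ⊢
      refine ⟨fun h => hp.1 ((z : Equiv.Perm GolayPt).injective (h.trans hn.symm)), ?_⟩
      rw [← hfix']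
      exact Finset.smul_mem_smul_finset hp.2
    let f : Function.End {p // p ∈ o.erase none} := fun p => ⟨(z : Equiv.Perm GolayPt) p, hmem p p.2⟩
    have hpow : ∀ (m : ℕ) (p : {p // p ∈ o.erase none}), (((f ^ m : Function.End _) p : {p // p ∈ o.erase none}) : GolayPt) =
        (((z ^ m : Spor.M22) : Equiv.Perm GolayPt)) p := by
      intro m
      induction m with
      | zero => intro p; rfl
      | succ m ih =>
        intro p
        rw [pow_succ', pow_succ']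
        show (z : Equiv.Perm GolayPt) ((f ^ m : Function.End _) p : {p // p ∈ o.erase none}) = _
        rw [ih]
        rfl
    have hf1 : f ^ 2 ^ k = 1 := by
      funext p
      apply Subtype.ext
      rw [hpow, hz]
      rfl
    have h3 := Equiv.Perm.card_fixedPoints_modEq hf1
    have h7 : Fintype.card {p // p ∈ o.erase none} = 7 := by
      rw [Fintype.card_coe, Finset.card_erase_of_mem ho.2.1, card_oct ho.1]
    have h8 : 0 < Fintype.card f.fixedPoints := by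
      rw [h7] at h3
      rcases Nat.eq_zero_or_pos (Fintype.card f.fixedPoints) with h | h
      · rw [h] at h3
        exact absurd h3 (by decide)
      · exact h
    obtain ⟨⟨⟨p, hp⟩, hpf⟩⟩ := Fintype.card_pos_iff.1 h8
    have h9 : (z : Equiv.Perm GolayPt) p = p := congrArg Subtype.val hpf
    rw [Finset.mem_erase] at hp
    exact hf p ⟨hp.1, fun h => ho.2.2 (h ▸ hp.2)⟩ h9
  unfold dif
  rw [Nat.card_eq_zero.2 (Or.inl h1), Nat.card_eq_zero.2 (Or.inl h2)]
  norm_num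

/-- The element of order 8. -/
noncomputable def v8 : Spor.M22 := ⟨T * cubeTwist * T * cubeTwist * T * M,
  ⟨mul_mem (mul_mem (mul_mem (mul_mem (mul_mem T_mem C_mem) T_mem) C_mem) T_mem) M_mem, by
      show (T * cubeTwist * T * cubeTwist * T * M) none = none
      decide +kernel⟩, by
      show (T * cubeTwist * T * cubeTwist * T * M) (some 0) = some 0
      decide +kernel⟩

theorem v8_pow : v8 ^ 2 ^ 3 = 1 := by
  apply Subtype.ext
  show (T * cubeTwist * T * cubeTwist * T * M) ^ 2 ^ 3 = 1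
  apply Equiv.ext
  decide +kernel

theorem v8_fix (x : GolayPt) (hx : x ∈ YS) : (v8 : Equiv.Perm GolayPt) x ≠ x := by
  have h : ∀ p : GolayPt, (T * cubeTwist * T * cubeTwist * T * M) p = p → p = none ∨ p = some 0 := by
    decide +kernel
  intro h1
  rcases h x h1 with h2 | h2
  · exact hx.1 h2
  · exact hx.2 h2

theorem m22_2' : VPow 2 Spor.M22 := by
  refine ⟨v8, ?_, ?_⟩
  · obtain ⟨j, -, hj⟩ := (Nat.dvd_prime_pow Nat.prime_two).1 (orderOf_dvd_of_pow_eq_one v8_pow)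
    exact ⟨j, hj⟩
  · refine ⟨⟨_, irr154⟩, fun α => dif_eq_zero (α v8) 3 (by rw [← map_pow, v8_pow, map_one]) ?_⟩
    intro x hx h
    obtain ⟨g, hg, hgα⟩ := Cfsg.Agent.J4Type.Aut22.exists_conj α
    have hgi := (Cfsg.Agent.J4Type.Aut22.D22).inv_mem hg
    have h1 : Cfsg.Agent.J4Type.Aut22.Out (g⁻¹ x) := Cfsg.Agent.J4Type.Aut22.Out.apply hgi hx
    refine v8_fix _ h1 ?_
    rw [hgα v8] at h
    have h2 : g ((v8 : Equiv.Perm GolayPt) (g⁻¹ x)) = x := h
    apply g.injective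
    rw [h2]
    show x = (g * g⁻¹) x
    rw [mul_inv_cancel]
    rfl

theorem m22_2 {K : Type*} [Group K] (h : Spor.IsoM22 K) : VPow 2 K := by
  obtain ⟨e⟩ := h
  exact m22_2'.mulEquiv e.symm

end Cfsg.Agent.H446.VP
end

private theorem dce_32b9a57f078d : _root_.True := by
  try have : _root_.True := by simp only [_root_.Cfsg.Agent.H119.IMC.dif.eq_1]
  try have : _root_.True := by simp only [_root_.Cfsg.Agent.H119.IMC.YS.eq_1]
  try have : _root_.True := by simp only [_root_.Cfsg.Agent.H123.PV.McL.y8.eq_1]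
  try have : _root_.True := by simp only [_root_.Cfsg.Agent.H119.IMC.no.eq_1]
  try have : _root_.True := by simp only [_root_.Cfsg.Agent.H123.PV.McL.z8.eq_1]
  exact _root_.True.intro
end

-- part: H526/Van/F4Dz
section
prune_inst 0x4153015501500020800000590110022046400042000208400fca10b460203f3208082a1000d8018094a0aa00100040000001000c0000000000020040000040120988812001141010046000f000086000000000000000000000000000000041004000000000
set_option linter.all false
open scoped Cfsg.Agent.FastGrp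

-- part: H53/DZ/Core
section
/-!
# Characters of defect zero from Harish-Chandra induction (helper53)

* `hasDZ_of_deg` : a character of degree `|G : P| k e` with `|P|_p ≤ e_p` is of `p`-defect zero;
* `idx_of_one`, `idx_of_two` : the characters of `big_of_one`, `big_of_two`, with the index in the degree.
-/

set_option autoImplicit false

open Cfsg

namespace Cfsg.Agent.H53.DZ

open Cfsg.Agent.H665.NoPQ Cfsg.Agent.Characters

/-- **Defect zero from the degree.** -/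
theorem hasDZ_of_deg {Y : Type*} [Group Y] [Finite Y] {p : ℕ} {χ : Y → ℂ} (hχ : IsIrrCharacter Y χ)
    {P : Subgroup Y} {k e : ℕ} (h1 : χ 1 = P.index * (k * e))
    (h : (Nat.card P).factorization p ≤ e.factorization p) : HasDZ p Y := by
  have h2 := Cfsg.Agent.Blocks.Basic.irr_one_eq_charDegree hχ
  have h3 : charDegree χ = P.index * (k * e) := by
    rw [h1] at h2
    exact_mod_cast h2.symm
  have h0 : P.index * (k * e) ≠ 0 := by
    rw [← h3]
    intro h4
    rw [h4, Nat.cast_zero] at h2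
    exact Core.isIrr_apply_one_ne_zero hχ h2
  have hP : P.index ≠ 0 := left_ne_zero_of_mul h0
  have hke : k * e ≠ 0 := right_ne_zero_of_mul h0
  have hk : k ≠ 0 := left_ne_zero_of_mul hke
  have he : e ≠ 0 := right_ne_zero_of_mul hke
  refine ⟨⟨χ, hχ⟩, ?_⟩
  show (charDegree χ).factorization p = (Nat.card Y).factorization p
  apply le_antisymm
  · have h5 : charDegree χ ∣ Nat.card Y := Cfsg.Agent.Blocks.Knorr.charDegree_dvd hχ
    exact (Nat.factorization_le_iff_dvd (by rw [h3]; exact h0) Nat.card_pos.ne').2 h5 p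
  · rw [h3, Nat.factorization_mul hP hke, Nat.factorization_mul hk he, ← Subgroup.index_mul_card P,
      Nat.factorization_mul hP Nat.card_pos.ne']
    simp only [Finsupp.add_apply]
    omega

/-- the order of `P` prime to `p` -/
theorem hasDZ_of_index {Y : Type*} [Group Y] [Finite Y] {p : ℕ} {χ : Y → ℂ} (hχ : IsIrrCharacter Y χ)
    {P : Subgroup Y} {k : ℕ} (h1 : χ 1 = P.index * k) (h : ¬ p ∣ Nat.card P) : HasDZ p Y := by
  refine hasDZ_of_deg hχ (k := k) (e := 1) (by rw [h1]; push_cast; ring) ?_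
  rw [Nat.factorization_eq_zero_of_not_dvd h]
  exact Nat.zero_le _

open Cfsg.Agent.H53.HC Cfsg.Agent.H53.HC.ExcRows Cfsg.Agent.H35.ExcIdx Cfsg.Lie Cfsg.Agent.Nodes.RGDChev
open CoxeterSystem Cfsg.Agent.ChevalleyStructure.CoxeterGeom Cfsg.Agent.Tits.Roots Cfsg.Agent.Tits.Core
  Cfsg.Agent.Tits.Exchange Cfsg.Agent.Nodes.Reps Cfsg.Agent.Nodes.BNOf Cfsg.Agent.Nodes.StabComb
  Cfsg.Agent.Nodes.Bruhat Cfsg.Agent.Nodes.OppDec Cfsg.Agent.Nodes.LeviDec

section gen

variable {r q l : ℕ} {M : CoxeterMatrix (Fin l)} {A : Fin l → Fin l → ℤ} {h : IsCartan M A} {f : Fin l → ℕ}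
  {S : Type*} [Group S] {T : Subgroup S} {n : Fin l → S} {X : (Fin l → ℤ) → Subgroup S}

/-- **`F₄(q)`, `²E₆(q)`, `E₇(q)`, `E₈(q)`.** -/
theorem idx_of_one [Finite S] {q' : ℕ} {j k₀ k₁ : Fin l} {K' : Set (Fin l)}
    (D : ExcData r q h f {i | i ≠ j} T n X) (hJ : ({i | i ≠ j} : Set (Fin l)) = {k₀, k₁} ∪ K')
    (ho : ∀ i ∈ ({k₀, k₁} : Set (Fin l)), ∀ i' ∈ K', M i i' = 2) (hk : M k₀ k₁ = 3) (hk1 : M k₁ j = 2)
    (hk0 : M k₀ j = 3 ∨ M k₀ j = 4)
    (hun : ∀ a b, a ≠ j → b ≠ j → M a b = 3 → (∀ c, c ≠ j → c ≠ a → c ≠ b → M a c = 2 ∧ M b c = 2) →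
      (a = k₀ ∧ b = k₁) ∨ (a = k₁ ∧ b = k₀))
    (hA2 : InA2 h X q' k₀ k₁) (hK' : In h X K') :
    ∃ (χ : S → ℂ) (k d t : ℕ), IsIrrCharacter S χ ∧ χ 1 = (PJ M.toCoxeterSystem h T X {i | i ≠ j}).index * (k * d) ∧
      d * t = (q' - 1) * (q' ^ 2 - 1) ∧ t ∣ 3 := by
  classical
  have := D.fin
  have : Fintype S := Fintype.ofFinite S
  obtain ⟨θ, hθ, hns, d, t, hd, hdt, ht⟩ := hA2
  obtain ⟨θ', hθ'⟩ := hK'
  have hmem : ∀ i, i ∈ ({i | i ≠ j} : Set (Fin l)) ↔ i ≠ j := fun i => Iff.rfl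
  have hk0J : k₀ ∈ ({i | i ≠ j} : Set (Fin l)) := by rw [hJ]; simp
  have hk1J : k₁ ∈ ({i | i ≠ j} : Set (Fin l)) := by rw [hJ]; simp
  obtain ⟨χ, hχ, k, hk0', hχ1⟩ := exists_irr_one D.rgd D.gg hmem hJ (orth_of h ho) rfl
    (isoPair_of h hk0J hk1J hk fun c hc hc0 hc1 => by
      rw [hJ] at hc
      rcases hc with hc | hc
      · rcases hc with rfl | rfl
        · exact absurd rfl hc0
        · exact absurd rfl hc1
      · exact ⟨ho _ (by simp) c hc, ho _ (by simp) c hc⟩)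
    (cartan_two h hk1).1 (not_three_dvd h hk0)
    (fun a b hab => by
      obtain ⟨h1, h2, h3, h4⟩ := of_isoPair h hab
      exact hun a b h1 h2 h3 h4)
    hθ hns hθ'
  obtain ⟨e, -, he⟩ := Cfsg.Agent.Characters.Core.isIrr_apply_one hθ'.irr
  refine ⟨χ, k * e, d, t, hχ, ?_, hdt, ht⟩
  rw [hχ1, hd, he]; push_cast; ring

/-- **`E₆(q)`.** -/
theorem idx_of_two [Finite S] {q' : ℕ} {j k₀ k₁ l₀ l₁ : Fin l} {N : Set (Fin l)}
    (D : ExcData r q h f {i | i ≠ j} T n X) (hJ : ({i | i ≠ j} : Set (Fin l)) = {k₀, k₁} ∪ ({l₀, l₁} ∪ N))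
    (hoK : ∀ i ∈ ({k₀, k₁} : Set (Fin l)), ∀ i' ∈ ({l₀, l₁} ∪ N : Set (Fin l)), M i i' = 2)
    (hoL : ∀ i ∈ ({l₀, l₁} : Set (Fin l)), ∀ i' ∈ N, M i i' = 2)
    (hk : M k₀ k₁ = 3) (hk1 : M k₁ j = 2) (hk0 : M k₀ j = 3) (hl : M l₀ l₁ = 3) (hl1 : M l₁ j = 2) (hl0 : M l₀ j = 3)
    (hun : ∀ a b, a ≠ j → b ≠ j → M a b = 3 → (∀ c, c ≠ j → c ≠ a → c ≠ b → M a c = 2 ∧ M b c = 2) →
      (a = k₀ ∧ b = k₁) ∨ (a = k₁ ∧ b = k₀) ∨ (a = l₀ ∧ b = l₁) ∨ (a = l₁ ∧ b = l₀))
    (hA2 : InA2 h X q' k₀ k₁)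
    (hL : ∃ α α' : ↥(MJ M.toCoxeterSystem h X {l₀, l₁}) → ℂ, Cusp M.toCoxeterSystem h X {l₀, l₁} α ∧
      Cusp M.toCoxeterSystem h X {l₀, l₁} α' ∧
      ∀ t (ht : t ∈ T), α' ≠ α ∘ conjME (MJ M.toCoxeterSystem h X {l₀, l₁}) (T_le_normalizer_MJ D.rgd {l₀, l₁} ht))
    (hN : In h X N) :
    ∃ (χ : S → ℂ) (k : ℕ), IsIrrCharacter S χ ∧ χ 1 = (PJ M.toCoxeterSystem h T X {i | i ≠ j}).index * k := by
  classical
  have := D.fin
  have : Fintype S := Fintype.ofFinite S
  obtain ⟨θ, hθ, hns, d, t, hd, hdt, ht⟩ := hA2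
  obtain ⟨α, α', hα, hα', hne⟩ := hL
  obtain ⟨β, hβ⟩ := hN
  have hmem : ∀ i, i ∈ ({i | i ≠ j} : Set (Fin l)) ↔ i ≠ j := fun i => Iff.rfl
  have hk0J : k₀ ∈ ({i | i ≠ j} : Set (Fin l)) := by rw [hJ]; simp
  have hk1J : k₁ ∈ ({i | i ≠ j} : Set (Fin l)) := by rw [hJ]; simp
  have hl0J : l₀ ∈ ({i | i ≠ j} : Set (Fin l)) := by rw [hJ]; simp
  have hl1J : l₁ ∈ ({i | i ≠ j} : Set (Fin l)) := by rw [hJ]; simp
  obtain ⟨χ, hχ, k, hk0', hχ1⟩ := exists_irr_two D.rgd D.gg hmem hJ (orth_of h hoK) (orth_of h hoL) rfl rfl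
    (isoPair_of h hk0J hk1J hk fun c hc hc0 hc1 => by
      rw [hJ] at hc
      rcases hc with hc | hc
      · rcases hc with rfl | rfl
        · exact absurd rfl hc0
        · exact absurd rfl hc1
      · exact ⟨hoK _ (by simp) c hc, hoK _ (by simp) c hc⟩)
    (isoPair_of h hl0J hl1J hl fun c hc hc0 hc1 => by
      rw [hJ] at hc
      rcases hc with hc | hc | hc
      · have e1 := hoK c hc l₀ (by simp)
        have e2 := hoK c hc l₁ (by simp)
        rw [M.symmetric] at e1 e2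
        exact ⟨e1, e2⟩
      · rcases hc with rfl | rfl
        · exact absurd rfl hc0
        · exact absurd rfl hc1
      · exact ⟨hoL _ (by simp) c hc, hoL _ (by simp) c hc⟩)
    (cartan_two h hk1).1 (cartan_two h hl1).1 (not_three_dvd h (Or.inl hk0))
    ((cartan_three h hl0).1.trans (cartan_three h hk0).1.symm)
    (fun a b hab => by
      obtain ⟨h1, h2, h3, h4⟩ := of_isoPair h hab
      exact hun a b h1 h2 h3 h4)
    hθ hns hα hα' hne hβ
  refine ⟨χ, k * d, hχ, ?_⟩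
  rw [hχ1, hd]; push_cast; ring

end gen

/-- the order of a subgroup from its index -/
theorem card_of {G : Type*} [Group G] [Finite G] {H : Subgroup G} {d r b P P' : ℕ}
    (hI : H.index * P' = P) (hG : d * Nat.card G = r ^ b * P) : d * Nat.card H = r ^ b * P' := by
  have h0 : H.index ≠ 0 := Subgroup.index_ne_zero_of_finite
  have h2 := Subgroup.index_mul_card H
  rw [← h2, ← hI] at hG
  have h3 : H.index * (d * Nat.card H) = H.index * (r ^ b * P') := by
    calc H.index * (d * Nat.card H) = d * (H.index * Nat.card H) := by ring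
      _ = r ^ b * (H.index * P') := hG
      _ = _ := by ring
  exact Nat.eq_of_mul_eq_mul_left (Nat.pos_of_ne_zero h0) h3

theorem fact_le_of {d r b c P p : ℕ} (h : d * c = r ^ b * P) (hr : ¬ p ∣ r ^ b) (h0 : r ^ b * P ≠ 0) :
    c.factorization p ≤ P.factorization p := by
  have hd : d ≠ 0 := by
    rintro rfl
    exact h0 (by rw [← h, zero_mul])
  have hc : c ≠ 0 := by
    rintro rfl
    exact h0 (by rw [← h, mul_zero])
  have h1 : (d * c).factorization p = (r ^ b * P).factorization p := by rw [h]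
  rw [Nat.factorization_mul hd hc, Nat.factorization_mul (left_ne_zero_of_mul h0) (right_ne_zero_of_mul h0)] at h1
  simp only [Finsupp.add_apply] at h1
  rw [Nat.factorization_eq_zero_of_not_dvd hr] at h1
  omega

end Cfsg.Agent.H53.DZ
end

-- part: H53/DZ/E6
section
/-!
# `E₆(q)`: characters of `p`-defect zero, `q` of order at least three modulo `p` (helper53)

`dz_E6`.
-/

set_option autoImplicit false

open Cfsg

namespace Cfsg.Agent.H53.DZ

open Cfsg.Agent.H665.NoPQ Cfsg.Agent.Characters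
open Cfsg.Agent.H53.HC Cfsg.Agent.H53.HC.ExcRows Cfsg.Agent.H35.ExcIdx Cfsg.Lie Cfsg.Agent.Nodes.RGDChev
  Cfsg.Agent.H353.IMC Cfsg.Agent.H928.Imc Cfsg.Agent.H35.PoinNum
open CoxeterSystem Cfsg.Agent.ChevalleyStructure.CoxeterGeom Cfsg.Agent.Tits.Roots Cfsg.Agent.Tits.Core
  Cfsg.Agent.Tits.Exchange Cfsg.Agent.Nodes.Reps Cfsg.Agent.Nodes.BNOf Cfsg.Agent.Nodes.StabComb
  Cfsg.Agent.Nodes.Bruhat Cfsg.Agent.Nodes.OppDec Cfsg.Agent.Nodes.LeviDec

universe u

variable {K : Type u} [Field K] [Fintype K] {r f : ℕ} (hr : r.Prime) (hf : f ≠ 0)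
  (hK : Fintype.card K = r ^ f) [CharP K r] {p : ℕ} [hp : Fact p.Prime]

theorem pow_dvd_pow_sub {q a b : ℕ} (h : a ∣ b) : q ^ a - 1 ∣ q ^ b - 1 := by
  obtain ⟨c, rfl⟩ := h
  rw [pow_mul]
  have := Nat.sub_dvd_pow_sub_pow (q ^ a) 1 c
  rwa [one_pow] at this

include hr hf hK in
theorem dz_E6 (hpr : p ≠ r) (h1 : ¬ p ∣ r ^ f - 1) (h2 : ¬ p ∣ (r ^ f) ^ 2 - 1) : HasDZ p ↥(chevE6.group K) := by
  have := finite_group (K := K) chevE6
  have D := data_E6_3 hr hf hK
  have := D.fin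
  have hq := two_le hr hf
  have hpr' : ¬ p ∣ r := fun h4 => hpr ((Nat.prime_dvd_prime_iff_eq hp.out hr).1 h4)
  have hpq : ¬ p ∣ r ^ f := fun h4 => hpr' (hp.out.dvd_of_dvd_pow h4)
  obtain ⟨d, b, hG⟩ := card_E6 (r := r) (f := f) hK
  have : Fintype ↥(chevE6.group K) := Fintype.ofFinite _
  by_cases h3 : p ∣ (r ^ f) ^ 3 - 1
  · -- `J` = all nodes but `2`
    have h5 : ¬ p ∣ (r ^ f) ^ 5 - 1 := fun h5 => not_dvd_of_five h5 h1 (by norm_num) (by norm_num) h3
    obtain ⟨θ', e, t, hθ', he, het, ht⟩ : ∃ (θ : ↥(MJ CoxeterMatrix.E₆.toCoxeterSystem hpE6.isCartan (XX chevE6 6 K)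
        {1, 3, 4, 5}) → ℂ) (e t : ℕ), Cusp CoxeterMatrix.E₆.toCoxeterSystem hpE6.isCartan (XX chevE6 6 K) {1, 3, 4, 5} θ ∧
        θ 1 = e ∧ e * t = ∏ i ∈ Finset.range 4, ((r ^ f) ^ (i + 1) - 1) ∧ t ∣ Nat.gcd (4 + 1) (r ^ f - 1) := by
      rw [← range_k64]
      obtain ⟨θ', e, t, hθ', -, he, het, ht⟩ := exists_chain_deg D.rgd (p₀ := p) (by norm_num) k64 hk64 (by norm_num)
        (by decide) 0 (D.size _) hpq (Or.inl h5)
      exact ⟨θ', e, t, hθ', he, het, ht⟩
    obtain ⟨θ, hθ⟩ : In hpE6.isCartan (XX chevE6 6 K) {0} := in_node D 0 2 (by decide +kernel)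
    have ho := orth_of (K := ({0} : Set (Fin 6))) (K' := {1, 3, 4, 5}) hpE6.isCartan fun i hi i' hi' =>
      or6_2 i (by simpa using hi) i' (by simpa using hi')
    obtain ⟨ψ, hψ, hval⟩ := hθ.exists_prod D.rgd ho hθ'
    obtain ⟨c, -, hc⟩ := Core.isIrr_apply_one hθ.irr
    have hψ1 : ψ 1 = θ 1 * θ' 1 := by
      obtain ⟨hab, e1⟩ := hval 1 (one_mem _) 1 (one_mem _)
      simp only [mul_one] at e1
      exact e1
    obtain ⟨χ, hχ, k, -, hχ1⟩ := exists_irr_MJ D.rgd D.gg _ hψ.irr hψ.van (fun w g hg hw hpm => absurd (by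
      refine mem_WJ_of_mod (j := 2) (z := ![1, 0, -1, 0, 1, -1]) ?_ ?_ ?_ hpm
      · intro i
        rw [← compl6_2]
        rfl
      · intro i
        have h3 := z6_mod i
        unfold pairing
        simp only [a6_eq hpE6.isCartan]
        exact h3
      · decide) hw)
    rw [hψ1, hc, he, ← compl6_2] at hχ1
    refine hasDZ_of_deg (k := k * c) (e := e) hχ (by rw [hχ1]; push_cast; ring) ?_
    have hP := card_of (H505.Cop.E6Num.idx_2 hr hf hK) hG
    have hpos : ∀ m, 0 < m → 0 < (r ^ f) ^ m - 1 := fun m hm => Nat.sub_pos_of_lt (Nat.one_lt_pow (by omega) (by omega))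
    have hv : ∀ m, ¬ p ∣ (r ^ f) ^ m - 1 → ((r ^ f) ^ m - 1).factorization p = 0 := fun m hm =>
      Nat.factorization_eq_zero_of_not_dvd hm
    have h1' : ¬ p ∣ (r ^ f) ^ 1 - 1 := by rwa [pow_one]
    have hne : pr (r ^ f) [1, 2, 2, 3, 4, 5] ≠ 0 := by
      simp only [pr_cons, pr_nil, mul_one]
      have q1 := hpos 1 (by norm_num)
      have q2 := hpos 2 (by norm_num)
      have q3 := hpos 3 (by norm_num)
      have q4 := hpos 4 (by norm_num)
      have q5 := hpos 5 (by norm_num)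
      (clear * - q1 q2 q3 q4 q5; positivity)
    refine (fact_le_of hP (fun h4 => hpr' (hp.out.dvd_of_dvd_pow h4)) (mul_ne_zero (pow_ne_zero _ hr.ne_zero) hne)).trans ?_
    have he0 : e * t ≠ 0 := by
      rw [het, Finset.prod_ne_zero_iff]
      exact fun i _ => (hpos _ (by omega)).ne'
    have ht' : t.factorization p = 0 := Nat.factorization_eq_zero_of_not_dvd fun h4 =>
      h1 ((h4.trans ht).trans (Nat.gcd_dvd_right _ _))
    have h7 : (e * t).factorization p = (∏ i ∈ Finset.range 4, ((r ^ f) ^ (i + 1) - 1)).factorization p := by rw [het]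
    rw [Nat.factorization_mul (left_ne_zero_of_mul he0) (right_ne_zero_of_mul he0), Finsupp.add_apply, ht', add_zero] at h7
    rw [h7]
    simp only [pr_cons, pr_nil, mul_one, Finset.prod_range_succ, Finset.prod_range_zero, one_mul]
    have p1 := (hpos 1 (by norm_num)).ne'
    have p2 := (hpos 2 (by norm_num)).ne'
    have p3 := (hpos 3 (by norm_num)).ne'
    have p4 := (hpos 4 (by norm_num)).ne'
    have p5 := (hpos 5 (by norm_num)).ne'
    simp only [zero_add, Nat.reduceAdd]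
    rw [Nat.factorization_mul p1 (by (clear * - p2 p3 p4 p5; positivity)), Nat.factorization_mul p2 (by (clear * - p2 p3 p4 p5; positivity)),
      Nat.factorization_mul p2 (by (clear * - p3 p4 p5; positivity)), Nat.factorization_mul p3 (by (clear * - p4 p5; positivity)), Nat.factorization_mul p4 p5,
      Nat.factorization_mul (by (clear * - p1 p2 p3; positivity)) p4, Nat.factorization_mul (by (clear * - p1 p2; positivity)) p3, Nat.factorization_mul p1 p2]
    simp only [Finsupp.add_apply]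
    rw [hv 5 h5, hv 2 h2, hv 1 h1']
    omega
  · have hn : ¬ p ∣ Nat.card ↥(PJ CoxeterMatrix.E₆.toCoxeterSystem hpE6.isCartan (TT chevE6 K) (XX chevE6 6 K)
        {j | j ≠ 3}) := by
      refine not_dvd_card_of (H505.Cop.E6Num.idx_3 hr hf hK) hG hp.out hpr' (not_dvd_pr_of hp.out _ ?_)
      intro d hd
      simp only [List.mem_cons, List.not_mem_nil, or_false] at hd
      rcases hd with rfl | rfl | rfl | rfl | rfl | rfl
      · rwa [pow_one]
      all_goals assumption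
    obtain ⟨χ, k, hχ, hχ1⟩ := idx_of_two D (N := {1}) compl6 (fun i hi i' hi' => or6a i (by simpa using hi) i' (by simpa using hi'))
      (fun i hi i' hi' => or6b i (by simpa using hi) i' (by simpa using hi')) (by decide +kernel) (by decide +kernel)
      (by decide +kernel) (by decide +kernel) (by decide +kernel) (by decide +kernel) un6
      (ExcIM.in_A2 D (by decide +kernel) rfl) (ExcIM.in_pair D (l₀ := 4) (l₁ := 5) (by decide +kernel))
      (in_node D 1 3 (by decide +kernel))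
    exact hasDZ_of_index hχ hχ1 hn

end Cfsg.Agent.H53.DZ
end

-- part: H53/DZ/TwE6
section
/-!
# `²E₆(q)`: characters of `p`-defect zero, `q` of order at least four modulo `p` (helper53)

`dz_TwE6`.
-/

set_option autoImplicit false
set_option linter.unusedSectionVars false

open Cfsg

namespace Cfsg.Agent.H53.DZ

open Cfsg.Agent.H665.NoPQ Cfsg.Agent.Characters
open Cfsg.Agent.H53.HC Cfsg.Agent.H53.HC.ExcRows Cfsg.Agent.H35.ExcIdx Cfsg.Lie
  Cfsg.Agent.H353.IMC Cfsg.Agent.H928.Imc Cfsg.Agent.H35.PoinNum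
open CoxeterSystem Cfsg.Agent.ChevalleyStructure.CoxeterGeom Cfsg.Agent.Tits.Roots Cfsg.Agent.Tits.Core
  Cfsg.Agent.Tits.Exchange Cfsg.Agent.Nodes.Reps Cfsg.Agent.Nodes.BNOf Cfsg.Agent.Nodes.StabComb
  Cfsg.Agent.Nodes.Bruhat Cfsg.Agent.Nodes.OppDec Cfsg.Agent.Nodes.LeviDec
open Cfsg.Agent

universe u

variable {K : Type u} [Field K] [Fintype K] {q : ℕ} {φ : K →+* K}
  {r f : ℕ} (hr : r.Prime) (hf : f ≠ 0) (hq : q = r ^ f) [CharP K r]
  (hφ : ∀ x, φ x = x ^ q) (hqq : ∀ t : K, (t ^ q) ^ q = t) (hK : Fintype.card K = q ^ 2)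
  {p : ℕ} [hp : Fact p.Prime]

theorem finite_tw : Finite ↥(twistedE6 K q) := by
  have : Finite (GL chevE6.Idx K) := by
    have : Finite (Matrix chevE6.Idx chevE6.Idx K) := inferInstance
    infer_instance
  infer_instance

include hr hf hq hqq hK in
theorem tw_card {J : Set (Fin 4)} {N : ℕ}
    (hN : ∀ _R : RGD CoxeterMatrix.F₄.toCoxeterSystem Nodes.RGDTwE6.isCartan r (Nodes.RGDTwE6.T K q)
      (Nodes.RGDTwE6.nn hφ) (Nodes.RGDTwE6.X φ q), Finite CoxeterMatrix.F₄.Group →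
      (∀ i, Nat.card (Nodes.RGDTwE6.X φ q (sr i)) = fE q i) →
      Nat.card ↥(PJ CoxeterMatrix.F₄.toCoxeterSystem Nodes.RGDTwE6.isCartan (Nodes.RGDTwE6.T K q)
        (Nodes.RGDTwE6.X φ q) J) =
      N * Nat.card ↥(RGD.B CoxeterMatrix.F₄.toCoxeterSystem Nodes.RGDTwE6.isCartan (Nodes.RGDTwE6.T K q)
        (Nodes.RGDTwE6.X φ q))) :
    Nat.gcd 3 (q + 1) * Nat.card ↥(PJ CoxeterMatrix.F₄.toCoxeterSystem Nodes.RGDTwE6.isCartan
      (Nodes.RGDTwE6.T K q) (Nodes.RGDTwE6.X φ q) J) = r ^ (f * 36) * (N * ((q - 1) ^ 4 * (q + 1) ^ 2)) := by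
  have : Fact r.Prime := ⟨hr⟩
  have h2 : 2 ≤ q := by rw [hq]; exact two_le hr hf
  have hpp : IsPrimePow q := by rw [hq]; exact hr.isPrimePow.pow hf
  have hfin : Finite CoxeterMatrix.F₄.Group := Nodes.RGDFold.finite_W (hp := Nodes.RGDTwE6.hp)
    CoxeterMatrix.F₄.toCoxeterSystem Nodes.RGDTwE6.isCartan Nodes.RGDTwE6.foldData
  have hR := Nodes.RGDTwE6.rgd CoxeterMatrix.F₄.toCoxeterSystem hφ hqq r
  have hG1 : Nodes.RGDLib.G1 CoxeterMatrix.F₄.toCoxeterSystem Nodes.RGDTwE6.isCartan (Nodes.RGDTwE6.X φ q) = ⊤ :=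
    Nodes.RGDTwE6.G1_eq_top _ hφ hqq
  have hGG : GG CoxeterMatrix.F₄.toCoxeterSystem Nodes.RGDTwE6.isCartan (Nodes.RGDTwE6.T K q)
      (Nodes.RGDTwE6.X φ q) = ⊤ := by
    rw [eq_top_iff, ← hG1]
    exact le_sup_right
  have hc := card_X_tw (φ := φ) hφ hqq (by omega) hK
  have hP : ¬ r ∣ PT q := by
    intro h3
    have h4 : r ∣ pr q [2, 6, 8, 10, 12, 18] := by
      rw [← PT_mul (by omega)]; exact Dvd.dvd.mul_right h3 _
    rw [hq] at h4
    exact not_dvd_pr hr hf _ (by simp only [_root_.List.mem_cons, _root_.List.not_mem_nil, _root_.or_false, _root_.forall_eq_or_imp, _root_.Order.lt_two_iff, _root_.zero_le, _root_.Nat.ofNat_pos, _root_.forall_eq, _root_.and_self]) h4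
  have hT : Nat.gcd 3 (q + 1) * Nat.card ↥(Nodes.RGDTwE6.T K q) = (q - 1) ^ 4 * (q + 1) ^ 2 := by
    rw [← Cfsg.Agent.S1102.result hpp hK]
    congr 1
    exact Nat.card_congr (Subgroup.subgroupOfEquivOfLe inf_le_right).toEquiv
  have hd : ¬ r ∣ Nat.gcd 3 (q + 1) := by
    intro h3
    have h4 : r ∣ q + 1 := h3.trans (Nat.gcd_dvd_right _ _)
    have h5 : r ∣ q := by rw [hq]; exact dvd_pow_self r hf
    exact hr.one_lt.ne' (Nat.dvd_one.1 ((Nat.dvd_add_right h5).1 h4))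
  have hS : Nat.gcd 3 (q + 1) * Nat.card ↥(twistedE6 K q) = r ^ (f * 36) * PT q := by
    rw [Cfsg.Agent.S1066.result hpp hK, pow_mul, ← hq]
    unfold PT
    ring
  have := finite_tw (K := K) (q := q)
  have h6 := index_eq hR hGG (hN hR hfin hc) hd hT hS hP
  exact card_of (by rw [← h6]; ring) hS

theorem jset1 : ({j | j ≠ 1} : Set (Fin 4)) = {j | j ∈ ([0, 2, 3] : List (Fin 4))} := by
  ext j; revert j; decide

theorem jset2 : ({j | j ≠ 2} : Set (Fin 4)) = {j | j ∈ ([0, 1, 3] : List (Fin 4))} := by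
  ext j; revert j; decide

theorem compl4_1 : ({i | i ≠ 1} : Set (Fin 4)) = {2, 3} ∪ {0} := by
  ext i
  simp only [Set.mem_ofPred_eq, Set.mem_union, Set.mem_insert_iff, Set.mem_singleton_iff]
  revert i; decide

theorem or4_1 : _root_.Cfsg.Agent.H53.HC.ExcRows.Or m4 [2, 3] [0] := by decide +kernel

theorem un4_1 : Un m4 1 2 3 := by decide +kernel

include hr hf hq hqq hK hφ in
/-- the order of `P_J`, `J` = all nodes but `2` -/
theorem card_tw_2 : Nat.gcd 3 (q + 1) * Nat.card ↥(PJ CoxeterMatrix.F₄.toCoxeterSystem Nodes.RGDTwE6.isCartan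
    (Nodes.RGDTwE6.T K q) (Nodes.RGDTwE6.X φ q) {j | j ≠ 2}) =
      r ^ (f * 36) * ((1 + q) * (1 + q + q ^ 2) * (1 + q ^ 2) * ((q - 1) ^ 4 * (q + 1) ^ 2)) := by
  rw [jset2, tw_card hr hf hq hφ hqq hK (N := FA 2 q * (FA 1 (q ^ 2) * 1)) fun R hfin hc => ?_]
  · simp only [FA, Finset.prod_range_succ, Finset.prod_range_zero, Finset.sum_range_succ, Finset.sum_range_zero]
    ring
  · refine card_step R path_T_0 (fun i hi => ?_) (card_step R path_T_1 (fun i hi => ?_) (card_nil R))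
    · rw [hc]; revert i; simp only [fE, _root_.Fin.isValue, _root_.List.mem_cons, _root_.List.not_mem_nil, _root_.or_false, _root_.Order.lt_two_iff, _root_.ite_eq_left_iff, _root_.not_le, _root_.forall_eq_or_imp, _root_.Fin.coe_ofNat_eq_mod, _root_.Nat.zero_mod, _root_.not_lt_zero, _root_.IsEmpty.forall_iff, _root_.forall_eq, _root_.Nat.one_mod, _root_.lt_self_iff_false, _root_.and_self]
    · rw [hc]; revert i; simp only [fE, _root_.Fin.isValue, _root_.List.mem_cons, _root_.List.not_mem_nil, _root_.or_false, _root_.Order.lt_two_iff, _root_.ite_eq_right_iff, _root_.forall_eq, _root_.Fin.coe_ofNat_eq_mod, _root_.Nat.mod_succ, _root_.Nat.not_ofNat_le_one, _root_.IsEmpty.forall_iff]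

include hr hf hq hqq hK hφ in
/-- the order of `P_J`, `J` = all nodes but `1` -/
theorem card_tw_1 : Nat.gcd 3 (q + 1) * Nat.card ↥(PJ CoxeterMatrix.F₄.toCoxeterSystem Nodes.RGDTwE6.isCartan
    (Nodes.RGDTwE6.T K q) (Nodes.RGDTwE6.X φ q) {j | j ≠ 1}) =
      r ^ (f * 36) * ((1 + q) * ((1 + q ^ 2) * (1 + q ^ 2 + q ^ 4)) * ((q - 1) ^ 4 * (q + 1) ^ 2)) := by
  rw [jset1, tw_card hr hf hq hφ hqq hK (N := FA 1 q * (FA 2 (q ^ 2) * 1)) fun R hfin hc => ?_]
  · simp only [FA, Finset.prod_range_succ, Finset.prod_range_zero, Finset.sum_range_succ, Finset.sum_range_zero]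
    ring
  · refine card_step R path_T_2 (fun i hi => ?_) (card_step R path_T_3 (fun i hi => ?_) (card_nil R))
    · rw [hc]; revert i; simp only [fE, _root_.Fin.isValue, _root_.List.mem_cons, _root_.List.not_mem_nil, _root_.or_false, _root_.Order.lt_two_iff, _root_.ite_eq_left_iff, _root_.not_le, _root_.forall_eq, _root_.Fin.coe_ofNat_eq_mod, _root_.Nat.zero_mod, _root_.not_lt_zero, _root_.IsEmpty.forall_iff]
    · rw [hc]; revert i; simp only [fE, _root_.Fin.isValue, _root_.List.mem_cons, _root_.List.not_mem_nil, _root_.or_false, _root_.Order.lt_two_iff, _root_.ite_eq_right_iff, _root_.forall_eq_or_imp, _root_.Fin.coe_ofNat_eq_mod, _root_.Nat.reduceMod, _root_.Nat.not_ofNat_le_one, _root_.IsEmpty.forall_iff, _root_.forall_eq, _root_.Nat.mod_succ, _root_.and_self]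

include hr hf hq hqq hK hφ in
theorem dz_TwE6 (hpr : p ≠ r) (h2 : ¬ p ∣ q ^ 2 - 1) (h3 : ¬ p ∣ q ^ 3 - 1) : HasDZ p ↥(twistedE6 K q) := by
  have := finite_tw (K := K) (q := q)
  have : Fintype ↥(twistedE6 K q) := Fintype.ofFinite _
  have hq2 : 2 ≤ q := by rw [hq]; exact two_le hr hf
  have hpr' : ¬ p ∣ r := fun h4 => hpr ((Nat.prime_dvd_prime_iff_eq hp.out hr).1 h4)
  obtain ⟨e1, e2, e3, e4⟩ := fac (q := q) (by omega)
  have n1 : ¬ p ∣ q - 1 := fun h => h2 (by rw [e1]; exact Dvd.dvd.mul_right h _)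
  have n2 : ¬ p ∣ q + 1 := fun h => h2 (by rw [e1]; exact Dvd.dvd.mul_left h _)
  have n3 : ¬ p ∣ 1 + q + q ^ 2 := fun h => h3 (by rw [e2]; exact Dvd.dvd.mul_left h _)
  have n2' : ¬ p ∣ 1 + q := by rwa [add_comm]
  by_cases h4 : p ∣ 1 + q ^ 2
  · -- order four
    have D := data_TwE6_1 hr hf hq hφ hqq hK
    have := D.fin
    obtain ⟨χ, k, d, t, hχ, hχ1, hdt, ht⟩ := idx_of_one D (K' := {0}) compl4_1
      (fun i hi i' hi' => or4_1 i (by simpa using hi) i' (by simpa using hi')) (by decide +kernel) (by decide +kernel)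
      (by decide +kernel) un4_1
      (H622.Levi.inA2 D.rgd (by decide +kernel) ((D.size 2).trans (by simp [fE] : fE q 2 = q ^ 2)))
      (in_node D 0 1 (by decide +kernel))
    refine hasDZ_of_deg hχ hχ1 ?_
    have q1 : 0 < q - 1 := by omega
    have hP0 : (1 + q) * ((1 + q ^ 2) * (1 + q ^ 2 + q ^ 4)) * ((q - 1) ^ 4 * (q + 1) ^ 2) ≠ 0 := by (clear * - hq2 q1; positivity)
    refine (fact_le_of (card_tw_1 hr hf hq hφ hqq hK) (fun h5 => hpr' (hp.out.dvd_of_dvd_pow h5))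
      (mul_ne_zero (pow_ne_zero _ hr.ne_zero) hP0)).trans ?_
    have n5 : ¬ p ∣ 1 + q ^ 2 + q ^ 4 := by
      intro h5
      have h6 : 1 + q ^ 2 + q ^ 4 = q ^ 2 * (1 + q ^ 2) + 1 := by ring
      rw [h6, Nat.dvd_add_right (Dvd.dvd.mul_left h4 _)] at h5
      exact hp.out.one_lt.ne' (Nat.dvd_one.1 h5)
    have v : ∀ m, ¬ p ∣ m → m.factorization p = 0 := fun m hm => Nat.factorization_eq_zero_of_not_dvd hm
    have vp : ∀ m k, ¬ p ∣ m → (m ^ k).factorization p = 0 := fun m k hm => v _ fun h5 => hm (hp.out.dvd_of_dvd_pow h5)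
    have e5 : (q ^ 2) ^ 2 - 1 = (q - 1) * (q + 1) * (1 + q ^ 2) := by rw [← e3]; congr 1; ring
    rw [e5, e1] at hdt
    have hdt0 : d * t ≠ 0 := by rw [hdt]; (clear * - q1; positivity)
    have ht' : t.factorization p = 0 := v _ fun h5 => by
      have h6 : p = 3 := (Nat.prime_dvd_prime_iff_eq hp.out Nat.prime_three).1 (h5.trans ht)
      subst h6
      have h7 : q % 3 = 0 ∨ q % 3 = 1 ∨ q % 3 = 2 := by (clear * -; omega)
      rcases h7 with h7 | h7 | h7
      · have : q ^ 2 % 3 = 0 := by rw [Nat.pow_mod, h7]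
        omega
      · (clear * - n1 h7; omega)
      · omega
    have h7 : (d * t).factorization p = ((q - 1) * (q + 1) * ((q - 1) * (q + 1) * (1 + q ^ 2))).factorization p := by
      rw [hdt]
    rw [Nat.factorization_mul (left_ne_zero_of_mul hdt0) (right_ne_zero_of_mul hdt0), Finsupp.add_apply, ht', add_zero] at h7
    rw [h7, Nat.factorization_mul (by (clear * - hq2; positivity)) (by (clear * - hq2 q1; positivity)), Nat.factorization_mul (by positivity) (by (clear * - hq2; positivity)),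
      Nat.factorization_mul (by positivity) (by positivity), Nat.factorization_mul (by (clear * - q1; positivity)) (by positivity),
      Nat.factorization_mul (by (clear * - hq2 q1; positivity)) (by (clear * - hq2 q1; positivity)), Nat.factorization_mul (by (clear * - q1; positivity)) (by positivity),
      Nat.factorization_mul (by (clear * - hq2 q1; positivity)) (by positivity), Nat.factorization_mul (by (clear * - q1; positivity)) (by positivity)]
    simp only [Finsupp.add_apply]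
    rw [v _ n2', v _ n5, vp _ _ n1, vp _ _ n2]
    omega
  · have D := data_TwE6_2 hr hf hq hφ hqq hK
    have := D.fin
    obtain ⟨χ, k, d, t, hχ, hχ1, hdt, ht⟩ := idx_of_one D (K' := {3}) compl4
      (fun i hi i' hi' => or4 i (by simpa using hi) i' (by simpa using hi')) (by decide +kernel) (by decide +kernel)
      (by decide +kernel) un4
      (H622.Levi.inA2 D.rgd (by decide +kernel) ((D.size 1).trans (by simp [fE] : fE q 1 = q)))
      (in_node D 3 2 (by decide +kernel))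
    refine hasDZ_of_index (k := k * d) hχ (by rw [hχ1]; push_cast; ring) fun h5 => ?_
    have h6 : p ∣ r ^ (f * 36) * ((1 + q) * (1 + q + q ^ 2) * (1 + q ^ 2) * ((q - 1) ^ 4 * (q + 1) ^ 2)) := by
      rw [← card_tw_2 hr hf hq hφ hqq hK]
      exact Dvd.dvd.mul_left h5 _
    simp only [hp.out.dvd_mul] at h6
    rcases h6 with h6 | ((h6 | h6) | h6) | h6 | h6
    · exact hpr' (hp.out.dvd_of_dvd_pow h6)
    · exact n2' h6
    · exact n3 h6
    · exact h4 h6
    · exact n1 (hp.out.dvd_of_dvd_pow h6)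
    · exact n2 (hp.out.dvd_of_dvd_pow h6)

end Cfsg.Agent.H53.DZ
end

-- part: H53/DZ/Van
section
/-!
# Harish-Chandra induced irreducible characters vanish off the conjugates of the parabolic subgroup (helper53)

* `exists_irr_MJ_van`, `exists_irr_one_van`, `van_of_one` : `HC.exists_irr_MJ`, `HC.exists_irr_one`, `big_of_one` with the
  vanishing;
* `vz_of_ell` : an elliptic element of `P_K` which is in no conjugate of `P_J` for reasons of type is a `VZ` element;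
* `ell_of_orderOf` : `Ell K s` if the order of `s` does not divide those of the smaller parabolic subgroups.
-/

set_option autoImplicit false
set_option linter.unusedSectionVars false

open scoped ComplexConjugate Pointwise
open Cfsg

namespace Cfsg.Agent.H53.DZ

open Cfsg.Agent.OddOrderCharacters.Clifford Cfsg.Agent.Characters Cfsg.Agent.H53.HC

/-- an induced function vanishes off the conjugates -/
theorem indFun_van {G : Type*} [Group G] [Fintype G] (P : Subgroup G) (θ : P → ℂ) {y : G}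
    (hy : ∀ g : G, g⁻¹ * y * g ∉ P) : indFun P θ y = 0 := by
  rw [indFun_apply, Finset.sum_eq_zero, mul_zero]
  intro x _
  exact ext_apply_not_mem P θ _ (hy x)

section rgd

open CoxeterSystem Cfsg.Agent.ChevalleyStructure.CoxeterGeom Cfsg.Agent.Tits.Roots Cfsg.Agent.Tits.Core
  Cfsg.Agent.Tits.Exchange Cfsg.Agent.Nodes.Reps Cfsg.Agent.Nodes.BNOf Cfsg.Agent.Nodes.StabComb
  Cfsg.Agent.Nodes.Bruhat Cfsg.Agent.Nodes.OppDec Cfsg.Agent.Nodes.LeviDec

variable {I W Y : Type*} [Fintype I] [DecidableEq I] [Group W] [Group Y] {M : CoxeterMatrix I}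
  {cs : CoxeterSystem M W} {A : I → I → ℤ} {h : IsCartan M A} {p : ℕ} {T : Subgroup Y} {n : I → Y}
  {X : (I → ℤ) → Subgroup Y}

variable (R : RGD cs h p T n X)

include R

/-- **Irreducible characters of a group with a root group datum from the cuspidal characters of `M_J`.** -/
theorem exists_irr_MJ_van [Finite W] [Fintype Y] (hG : GG cs h T X = ⊤) (J : Set I)
    {θ : ↥(MJ cs h X J) → ℂ} (hθ : IsIrrCharacter _ θ)
    (hc : ∀ i ∈ J, ∀ [Fintype (rad cs h X J i)], ∑ u : rad cs h X J i, θ ⟨u, rad_le_MJ J i u.2⟩ = 0)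
    (hs : ∀ w g (hg : Rp cs R.nsys w g), w ∉ WJ cs J → ∀ hw : Perm cs h J w,
      ∃ (m : Y) (hm : m ∈ MJ cs h X J), θ ⟨g⁻¹ * m * g, conj_mem_MJ R hg hw hm⟩ ≠ θ ⟨m, hm⟩) :
    ∃ χ : Y → ℂ, IsIrrCharacter Y χ ∧ (∃ k : ℕ, 0 < k ∧ χ 1 = (PJ cs h T X J).index * (k * θ 1)) ∧
      ∀ y : Y, (∀ g : Y, g⁻¹ * y * g ∉ PJ cs h T X J) → χ y = 0 := by
  classical
  obtain ⟨ψ, hψ, ⟨k, hk, hk1⟩, c, s, hres, hsφ⟩ := exists_over (MJ_le_LJ (T := T) J) (LJ_le_normalizer_MJ R J) hθ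
  obtain ⟨ψ', hψ', hψL, hψV⟩ := exists_infl R J hψ
  have hres' : ∀ (m : Y) (hm : m ∈ MJ cs h X J), ψ' ⟨m, LJ_le_PJ (MJ_le_LJ J hm)⟩ = c * ∑ φ ∈ s, φ ⟨m, hm⟩ := by
    intro m hm
    rw [hψL]
    exact hres ⟨m, hm⟩
  -- the conjugates are conjugates under the torus
  have hsT : ∀ φ ∈ s, ∃ t, ∃ ht : t ∈ T, φ = θ ∘ conjME (MJ cs h X J) (T_le_normalizer_MJ R J ht) := by
    intro φ hφ
    obtain ⟨g, hg, hgφ⟩ := hsφ φ hφ
    obtain ⟨m, hm, t, ht, rfl⟩ := (mem_LJ_iff_mul' R J).1 hg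
    refine ⟨t, ht, ?_⟩
    funext x
    obtain ⟨hx', e⟩ := hgφ x x.2
    rw [e, Function.comp_apply]
    have h1 := Core.isIrr_isClassFunction hθ (conjME (MJ cs h X J) (T_le_normalizer_MJ R J ht) x) ⟨m, hm⟩
    rw [← h1]
    congr 1
    apply Subtype.ext
    simp only [conjME_coe, Subgroup.coe_mul, InvMemClass.coe_inv]
    group
  refine ⟨indFun (PJ cs h T X J) ψ', ?_, ⟨k, hk, ?_⟩, fun y hy => indFun_van _ _ hy⟩
  · refine isIrr_indFun_rgd R hG J hψ' hψV ?_ ?_
    · intro i hi hf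
      have h1 : ∀ u : rad cs h X J i, ψ' ⟨u, rad_le_PJ J i u.2⟩ = c * ∑ φ ∈ s, φ ⟨u, rad_le_MJ J i u.2⟩ :=
        fun u => hres' u (rad_le_MJ J i u.2)
      rw [Finset.sum_congr rfl fun u _ => h1 u, ← Finset.mul_sum, Finset.sum_comm]
      rw [Finset.sum_eq_zero, mul_zero]
      intro φ hφ
      obtain ⟨t, ht, rfl⟩ := hsT φ hφ
      rw [← hc i hi]
      exact Fintype.sum_equiv (conjME (rad cs h X J i) (T_le_normalizer_rad R J i ht)).toEquiv _ _ fun u => rfl
    · intro w g hg hw hp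
      have hgn := inv_mem (rp_mem_normalizer_MJ R hg hp)
      refine ⟨MJ cs h X J, le_trans (MJ_le_LJ J) LJ_le_PJ,
        fun l hl => LJ_le_PJ (MJ_le_LJ J (conj_mem_MJ R hg hp hl)), ?_⟩
      intro hf
      have h1 : ∀ l : MJ cs h X J, ψ' ⟨l, LJ_le_PJ (MJ_le_LJ J l.2)⟩ *
          conj (ψ' ⟨g⁻¹ * l * g, LJ_le_PJ (MJ_le_LJ J (conj_mem_MJ R hg hp l.2))⟩) =
          ∑ φ ∈ s, ∑ φ' ∈ s, (c * conj c) * (φ l * conj ((φ' ∘ conjME (MJ cs h X J) hgn) l)) := by
        intro l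
        have e2 : (⟨g⁻¹ * l * g, conj_mem_MJ R hg hp l.2⟩ : MJ cs h X J) = conjME (MJ cs h X J) hgn l := by
          apply Subtype.ext
          rw [conjME_coe, inv_inv]
        rw [hres' l l.2, hres' _ (conj_mem_MJ R hg hp l.2), e2, map_mul, map_sum]
        simp only [← Finset.mul_sum, Function.comp_apply]
        rw [← Finset.sum_mul]
        ring
      rw [Finset.sum_congr rfl fun l _ => h1 l, Finset.sum_comm]
      refine Finset.sum_eq_zero fun φ hφ => ?_
      rw [Finset.sum_comm]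
      refine Finset.sum_eq_zero fun φ' hφ' => ?_
      rw [← Finset.mul_sum]
      obtain ⟨t, ht, rfl⟩ := hsT φ hφ
      obtain ⟨t', ht', rfl⟩ := hsT φ' hφ'
      have hne : θ ∘ conjME (MJ cs h X J) (T_le_normalizer_MJ R J ht) ≠
          (θ ∘ conjME (MJ cs h X J) (T_le_normalizer_MJ R J ht')) ∘ conjME (MJ cs h X J) hgn := by
        intro he
        have hg' : Rp cs R.nsys w (t * g * t'⁻¹) := by
          have h2 := ((rp_of_mem (cs := cs) (hN := R.nsys) ht).mul hg).mul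
            (rp_of_mem (cs := cs) (hN := R.nsys) (inv_mem ht'))
          rwa [one_mul, mul_one] at h2
        obtain ⟨m, hm, hne⟩ := hs w _ hg' hw hp
        apply hne
        have h3 := congrFun he (conjME (MJ cs h X J) (inv_mem (T_le_normalizer_MJ R J ht)) ⟨m, hm⟩)
        simp only [Function.comp_apply] at h3
        refine Eq.trans ?_ (h3.symm.trans ?_)
        · congr 1
          apply Subtype.ext
          simp only [conjME_coe]
          group
        · congr 1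
          apply Subtype.ext
          simp only [conjME_coe]
          group
      have hi1 : IsIrrCharacter _ (θ ∘ conjME (MJ cs h X J) (T_le_normalizer_MJ R J ht)) :=
        Core.isIrr_comp (conjME _ (T_le_normalizer_MJ R J ht)).toMonoidHom (MulEquiv.surjective _) hθ
      have hi2 : IsIrrCharacter _ (θ ∘ conjME (MJ cs h X J) (T_le_normalizer_MJ R J ht')) :=
        Core.isIrr_comp (conjME _ (T_le_normalizer_MJ R J ht')).toMonoidHom (MulEquiv.surjective _) hθ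
      have hi3 : IsIrrCharacter _ ((θ ∘ conjME (MJ cs h X J) (T_le_normalizer_MJ R J ht')) ∘
          conjME (MJ cs h X J) hgn) :=
        Core.isIrr_comp (conjME _ hgn).toMonoidHom (MulEquiv.surjective _) hi2
      have h4 := Core.classInner_irr_ne hi1 hi3 hne
      rw [Core.classInner_def, mul_eq_zero] at h4
      rcases h4 with h4 | h4
      · exact absurd (inv_eq_zero.1 h4) Core.card_ne_zero_complex
      · rw [mul_eq_zero]
        exact Or.inr h4
  · rw [indFun_one]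
    congr 1
    rw [← hk1]
    exact hψL 1 (one_mem _)


/-- **One component of type `A_2`**, with the vanishing. -/
theorem exists_irr_one_van [Finite W] [Fintype Y] (hG : GG cs h T X = ⊤) {J K K' : Set I} {j : I}
    (hJ : ∀ i, i ∈ J ↔ i ≠ j) (hJK : J = K ∪ K') (ho : Orth A K K') {k₀ k₁ : I} (hK : K = {k₀, k₁})
    (hk : IsoPair A J k₀ k₁) (hk1 : A k₁ j = 0) (h3 : ¬ (3 : ℤ) ∣ A k₀ j)
    (hun : ∀ a b, IsoPair A J a b → (a = k₀ ∧ b = k₁) ∨ (a = k₁ ∧ b = k₀))
    {θ : ↥(MJ cs h X K) → ℂ} (hθ : Cusp cs h X K θ) (hns : NonSwap cs h X K k₀ k₁ θ)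
    {θ' : ↥(MJ cs h X K') → ℂ} (hθ' : Cusp cs h X K' θ') :
    ∃ χ : Y → ℂ, IsIrrCharacter Y χ ∧ (∃ k : ℕ, 0 < k ∧ χ 1 = (PJ cs h T X J).index * (k * (θ 1 * θ' 1))) ∧
      ∀ y : Y, (∀ g : Y, g⁻¹ * y * g ∉ PJ cs h T X J) → χ y = 0 := by
  subst hJK
  obtain ⟨ψ, hψ, hval⟩ := hθ.exists_prod R ho hθ'
  have hval1 : ψ 1 = θ 1 * θ' 1 := by
    obtain ⟨hab, e⟩ := hval 1 (one_mem _) 1 (one_mem _)
    simp only [mul_one] at e
    exact e
  rw [← hval1]
  refine exists_irr_MJ_van R hG (K ∪ K') hψ.irr hψ.van ?_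
  intro w g hg hw hp
  obtain ⟨h0, h1⟩ := swap_of_iso hJ hk hk1 h3 hun hp hw
  exact not_stable_swap R rfl ho hK hns hθ'.irr hval hg hp h0 h1

theorem pj_mono [Finite W] {K L : Set I} (hKL : K ⊆ L) : PJ cs h T X K ≤ PJ cs h T X L := by
  intro g hg
  obtain ⟨w, hw, hc⟩ := (mem_PJ_iff_cell R).1 hg
  exact (mem_PJ_iff_cell R).2 ⟨w, WJ_mono cs hKL hw, hc⟩

/-- conjugate root groups -/
theorem card_rep [Finite W] (w : W) {x : I → ℤ} (hx : IsRoot cs h x) :
    Nat.card ↥(X (rep cs h w x)) = Nat.card ↥(X x) := by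
  obtain ⟨g, hg⟩ := exists_rp (cs := cs) R.nsys w
  rw [← R.conj_rp hg hx]
  exact Nodes.FreeTorus.card_cj g _

/-- **`VZ` elements of parabolic subgroups.** -/
theorem vz_of_ell [Finite W] [Finite Y] [Fact p.Prime] (hG : GG cs h T X = ⊤) {J K : Set I} {s : Y}
    (hs : H40.PV.Ell cs h T X K s) {χ : Y → ℂ} (hχ : IsIrrCharacter Y χ)
    (hv : ∀ y : Y, (∀ g : Y, g⁻¹ * y * g ∉ PJ cs h T X J) → χ y = 0)
    (hno : ∀ σ : Equiv.Perm I, (∀ i j, M (σ i) (σ j) = M i j) →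
      (∀ i, Nat.card (X (sr (σ i))) = Nat.card (X (sr i))) → ∀ w : W,
        ¬ ∀ k ∈ σ '' K, ∃ j ∈ J, rep cs h w (sr k) = sr j) : H713.VZ Y s := by
  refine ⟨⟨χ, hχ⟩, fun α => hv _ fun g hg => ?_⟩
  obtain ⟨z, σ, hM, hc, hE⟩ := hs.exists_aut R hG α
  obtain ⟨K₁, hK₁, w, -, h2, -⟩ := hE.exists_conj R hG (g := z * g) (J := J) (by
    have e : (z * g)⁻¹ * (z * α s * z⁻¹) * (z * g) = g⁻¹ * α s * g := by group
    rw [e]
    exact hg)
  refine hno σ hM hc w fun k hk => ?_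
  obtain ⟨j, hj, e⟩ := h2 k hk
  exact ⟨j, hK₁ hj, e⟩

omit R in
/-- elliptic for reasons of order -/
theorem ell_of_orderOf {K : Set I} {s : Y} (hs : s ∈ PJ cs h T X K)
    (ho : ∀ K' ⊆ K, K' ≠ K → ¬ orderOf s ∣ Nat.card ↥(PJ cs h T X K')) : H40.PV.Ell cs h T X K s := by
  refine ⟨hs, fun g _ K' hK' hg' => ?_⟩
  by_contra hne
  apply ho K' hK' hne
  have h1 : orderOf (g⁻¹ * s * g) = orderOf s := by
    have h2 := MulEquiv.orderOf_eq (MulAut.conj g⁻¹) s
    rw [MulAut.conj_apply, inv_inv] at h2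
    exact h2
  rw [← h1, ← Subgroup.orderOf_mk _ hg']
  exact orderOf_dvd_natCard _

end rgd

section gen

open CoxeterSystem Cfsg.Agent.ChevalleyStructure.CoxeterGeom Cfsg.Agent.Tits.Roots Cfsg.Agent.Tits.Core
  Cfsg.Agent.Tits.Exchange Cfsg.Agent.Nodes.Reps Cfsg.Agent.Nodes.BNOf Cfsg.Agent.Nodes.StabComb
  Cfsg.Agent.Nodes.Bruhat Cfsg.Agent.Nodes.OppDec Cfsg.Agent.Nodes.LeviDec Cfsg.Agent.H35.ExcIdx

variable {r q l : ℕ} {M : CoxeterMatrix (Fin l)} {A : Fin l → Fin l → ℤ} {h : IsCartan M A} {f : Fin l → ℕ}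
  {S : Type*} [Group S] {T : Subgroup S} {n : Fin l → S} {X : (Fin l → ℤ) → Subgroup S}

/-- **`F₄(q)`, `²E₆(q)`, `E₇(q)`, `E₈(q)`.** -/
theorem van_of_one [Finite S] {q' : ℕ} {j k₀ k₁ : Fin l} {K' : Set (Fin l)}
    (D : ExcData r q h f {i | i ≠ j} T n X) (hJ : ({i | i ≠ j} : Set (Fin l)) = {k₀, k₁} ∪ K')
    (ho : ∀ i ∈ ({k₀, k₁} : Set (Fin l)), ∀ i' ∈ K', M i i' = 2) (hk : M k₀ k₁ = 3) (hk1 : M k₁ j = 2)
    (hk0 : M k₀ j = 3 ∨ M k₀ j = 4)
    (hun : ∀ a b, a ≠ j → b ≠ j → M a b = 3 → (∀ c, c ≠ j → c ≠ a → c ≠ b → M a c = 2 ∧ M b c = 2) →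
      (a = k₀ ∧ b = k₁) ∨ (a = k₁ ∧ b = k₀))
    (hA2 : InA2 h X q' k₀ k₁) (hK' : In h X K') :
    ∃ χ : S → ℂ, IsIrrCharacter S χ ∧
      ∀ y : S, (∀ g : S, g⁻¹ * y * g ∉ PJ M.toCoxeterSystem h T X {i | i ≠ j}) → χ y = 0 := by
  classical
  have := D.fin
  have : Fintype S := Fintype.ofFinite S
  obtain ⟨θ, hθ, hns, d, t, hd, hdt, ht⟩ := hA2
  obtain ⟨θ', hθ'⟩ := hK'
  have hmem : ∀ i, i ∈ ({i | i ≠ j} : Set (Fin l)) ↔ i ≠ j := fun i => Iff.rfl
  have hk0J : k₀ ∈ ({i | i ≠ j} : Set (Fin l)) := by rw [hJ]; simp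
  have hk1J : k₁ ∈ ({i | i ≠ j} : Set (Fin l)) := by rw [hJ]; simp
  obtain ⟨χ, hχ, -, hv⟩ := exists_irr_one_van D.rgd D.gg hmem hJ (orth_of h ho) rfl
    (isoPair_of h hk0J hk1J hk fun c hc hc0 hc1 => by
      rw [hJ] at hc
      rcases hc with hc | hc
      · rcases hc with rfl | rfl
        · exact absurd rfl hc0
        · exact absurd rfl hc1
      · exact ⟨ho _ (by simp) c hc, ho _ (by simp) c hc⟩)
    (cartan_two h hk1).1 (not_three_dvd h hk0)
    (fun a b hab => by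
      obtain ⟨h1, h2, h3, h4⟩ := of_isoPair h hab
      exact hun a b h1 h2 h3 h4)
    hθ hns hθ'
  exact ⟨χ, hχ, hv⟩

end gen

end Cfsg.Agent.H53.DZ
end

-- part: H53/DZ/TwE6Three
section
/-!
# `²E₆(q)`, `q` of order three modulo `p`: a `VZ` element of order `p` (helper53)

`vOrdP_TwE6_three` : `x` of order `p` in the parabolic subgroup of type `A₂(q²)`.
-/

set_option autoImplicit false
set_option linter.unusedSectionVars false

open Cfsg

namespace Cfsg.Agent.H53.DZ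

open Cfsg.Agent.H665.NoPQ Cfsg.Agent.Characters
open Cfsg.Agent.H53.HC Cfsg.Agent.H53.HC.ExcRows Cfsg.Agent.H35.ExcIdx Cfsg.Lie
  Cfsg.Agent.H353.IMC Cfsg.Agent.H928.Imc Cfsg.Agent.H35.PoinNum
open CoxeterSystem Cfsg.Agent.ChevalleyStructure.CoxeterGeom Cfsg.Agent.Tits.Roots Cfsg.Agent.Tits.Core
  Cfsg.Agent.Tits.Exchange Cfsg.Agent.Nodes.Reps Cfsg.Agent.Nodes.BNOf Cfsg.Agent.Nodes.StabComb
  Cfsg.Agent.Nodes.Bruhat Cfsg.Agent.Nodes.OppDec Cfsg.Agent.Nodes.LeviDec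
open Cfsg.Agent

universe u

variable {K : Type u} [Field K] [Fintype K] {q : ℕ} {φ : K →+* K}
  {r f : ℕ} (hr : r.Prime) (hf : f ≠ 0) (hq : q = r ^ f) [CharP K r]
  (hφ : ∀ x, φ x = x ^ q) (hqq : ∀ t : K, (t ^ q) ^ q = t) (hK : Fintype.card K = q ^ 2)
  {p : ℕ} [hp : Fact p.Prime]

theorem path_T_4 : PathOK CoxeterMatrix.F₄ [2] [2] [] 0 := by constructor <;> decide +kernel
theorem path_T_5 : PathOK CoxeterMatrix.F₄ [3] [3] [] 0 := by constructor <;> decide +kernel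

include hr hf hq hqq hK hφ in
theorem card_tw_23 : Nat.gcd 3 (q + 1) * Nat.card ↥(PJ CoxeterMatrix.F₄.toCoxeterSystem Nodes.RGDTwE6.isCartan
    (Nodes.RGDTwE6.T K q) (Nodes.RGDTwE6.X φ q) {j | j ∈ ([2, 3] : List (Fin 4))}) =
      r ^ (f * 36) * ((1 + q ^ 2) * (1 + q ^ 2 + q ^ 4) * ((q - 1) ^ 4 * (q + 1) ^ 2)) := by
  rw [tw_card hr hf hq hφ hqq hK (N := FA 2 (q ^ 2) * 1) fun R hfin hc => ?_]
  · simp only [FA, Finset.prod_range_succ, Finset.prod_range_zero, Finset.sum_range_succ, Finset.sum_range_zero]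
    ring
  · refine card_step R path_T_3 (fun i hi => ?_) (card_nil R)
    rw [hc]; revert i; simp only [fE, _root_.Fin.isValue, _root_.List.mem_cons, _root_.List.not_mem_nil, _root_.or_false, _root_.Order.lt_two_iff, _root_.ite_eq_right_iff, _root_.forall_eq_or_imp, _root_.Fin.coe_ofNat_eq_mod, _root_.Nat.reduceMod, _root_.Nat.not_ofNat_le_one, _root_.IsEmpty.forall_iff, _root_.forall_eq, _root_.Nat.mod_succ, _root_.and_self]

include hr hf hq hqq hK hφ in
theorem card_tw_s {i : Fin 4} (hi : i = 2 ∨ i = 3) : Nat.gcd 3 (q + 1) * Nat.card ↥(PJ CoxeterMatrix.F₄.toCoxeterSystem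
    Nodes.RGDTwE6.isCartan (Nodes.RGDTwE6.T K q) (Nodes.RGDTwE6.X φ q) {j | j ∈ ([i] : List (Fin 4))}) =
      r ^ (f * 36) * ((1 + q ^ 2) * ((q - 1) ^ 4 * (q + 1) ^ 2)) := by
  rw [tw_card hr hf hq hφ hqq hK (N := FA 1 (q ^ 2) * 1) fun R hfin hc => ?_]
  · simp only [FA, Finset.prod_range_succ, Finset.prod_range_zero, Finset.sum_range_succ, Finset.sum_range_zero]
    ring
  · rcases hi with rfl | rfl
    · refine card_step R path_T_4 (fun i hi => ?_) (card_nil R)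
      rw [hc]; revert i; simp only [fE, _root_.Fin.isValue, _root_.List.mem_cons, _root_.List.not_mem_nil, _root_.or_false, _root_.Order.lt_two_iff, _root_.ite_eq_right_iff, _root_.forall_eq, _root_.Fin.coe_ofNat_eq_mod, _root_.Nat.reduceMod, _root_.Nat.not_ofNat_le_one, _root_.IsEmpty.forall_iff]
    · refine card_step R path_T_5 (fun i hi => ?_) (card_nil R)
      rw [hc]; revert i; simp only [fE, _root_.Fin.isValue, _root_.List.mem_cons, _root_.List.not_mem_nil, _root_.or_false, _root_.Order.lt_two_iff, _root_.ite_eq_right_iff, _root_.forall_eq, _root_.Fin.coe_ofNat_eq_mod, _root_.Nat.mod_succ, _root_.Nat.not_ofNat_le_one, _root_.IsEmpty.forall_iff]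

include hr hf hq hqq hK hφ in
theorem vOrdP_TwE6_three (hpr : p ≠ r) (h2 : ¬ p ∣ q ^ 2 - 1) (h3 : p ∣ q ^ 3 - 1) :
    H620.PNorm.VOrdP p ↥(twistedE6 K q) := by
  have := finite_tw (K := K) (q := q)
  have : Fact r.Prime := ⟨hr⟩
  have hq2 : 2 ≤ q := by rw [hq]; exact two_le hr hf
  have hpr' : ¬ p ∣ r := fun h4 => hpr ((Nat.prime_dvd_prime_iff_eq hp.out hr).1 h4)
  obtain ⟨e1, e2, e3, e4⟩ := fac (q := q) (by omega)
  have n1 : ¬ p ∣ q - 1 := fun h => h2 (by rw [e1]; exact Dvd.dvd.mul_right h _)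
  have n2 : ¬ p ∣ q + 1 := fun h => h2 (by rw [e1]; exact Dvd.dvd.mul_left h _)
  have h6 : p ∣ q ^ 6 - 1 := h3.trans (pow_dvd_pow_sub (by norm_num))
  have n4 : p ∣ 1 + q ^ 2 + q ^ 4 := by
    rw [e4, hp.out.dvd_mul, hp.out.dvd_mul] at h6
    rcases h6 with (h6 | h6) | h6
    · exact absurd h6 n1
    · exact absurd h6 n2
    · exact h6
  have n5 : ¬ p ∣ 1 + q ^ 2 := by
    intro h5
    have h6 : 1 + q ^ 2 + q ^ 4 = q ^ 2 * (1 + q ^ 2) + 1 := by ring
    rw [h6, Nat.dvd_add_right (Dvd.dvd.mul_left h5 _)] at n4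
    exact hp.out.one_lt.ne' (Nat.dvd_one.1 n4)
  have D := data_TwE6_2 hr hf hq hφ hqq hK
  have := D.fin
  have R := D.rgd
  -- the character
  obtain ⟨χ, hχ, hv⟩ := van_of_one D (K' := {3}) compl4
      (fun i hi i' hi' => or4 i (by simpa using hi) i' (by simpa using hi')) (by decide +kernel) (by decide +kernel)
      (by decide +kernel) un4
      (H622.Levi.inA2 D.rgd (by decide +kernel) ((D.size 1).trans (by simp [fE] : fE q 1 = q)))
      (in_node D 3 2 (by decide +kernel))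
  -- the element
  have hcard : p ∣ Nat.card ↥(PJ CoxeterMatrix.F₄.toCoxeterSystem Nodes.RGDTwE6.isCartan
      (Nodes.RGDTwE6.T K q) (Nodes.RGDTwE6.X φ q) {j | j ∈ ([2, 3] : List (Fin 4))}) := by
    have h5 : p ∣ Nat.gcd 3 (q + 1) * Nat.card ↥(PJ CoxeterMatrix.F₄.toCoxeterSystem Nodes.RGDTwE6.isCartan
        (Nodes.RGDTwE6.T K q) (Nodes.RGDTwE6.X φ q) {j | j ∈ ([2, 3] : List (Fin 4))}) := by
      rw [card_tw_23 hr hf hq hφ hqq hK]
      exact Dvd.dvd.mul_left (Dvd.dvd.mul_right (Dvd.dvd.mul_left n4 _) _) _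
    rcases hp.out.dvd_mul.1 h5 with h7 | h7
    · exact absurd (h7.trans (Nat.gcd_dvd_right _ _)) n2
    · exact h7
  obtain ⟨s, hs⟩ := exists_prime_orderOf_dvd_card' p hcard
  have hso : orderOf (s : ↥(twistedE6 K q)) = p := by rw [Subgroup.orderOf_coe, hs]
  have hn : ∀ i : Fin 4, (i = 2 ∨ i = 3) → ¬ p ∣ Nat.card ↥(PJ CoxeterMatrix.F₄.toCoxeterSystem Nodes.RGDTwE6.isCartan
      (Nodes.RGDTwE6.T K q) (Nodes.RGDTwE6.X φ q) {j | j ∈ ([i] : List (Fin 4))}) := by
    intro i hi h7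
    have h8 : p ∣ r ^ (f * 36) * ((1 + q ^ 2) * ((q - 1) ^ 4 * (q + 1) ^ 2)) := by
      rw [← card_tw_s hr hf hq hφ hqq hK hi]
      exact Dvd.dvd.mul_left h7 _
    simp only [hp.out.dvd_mul] at h8
    rcases h8 with h8 | h8 | h8 | h8
    · exact hpr' (hp.out.dvd_of_dvd_pow h8)
    · exact n5 h8
    · exact n1 (hp.out.dvd_of_dvd_pow h8)
    · exact n2 (hp.out.dvd_of_dvd_pow h8)
  have hE : H40.PV.Ell CoxeterMatrix.F₄.toCoxeterSystem Nodes.RGDTwE6.isCartan (Nodes.RGDTwE6.T K q)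
      (Nodes.RGDTwE6.X φ q) {j | j ∈ ([2, 3] : List (Fin 4))} (s : ↥(twistedE6 K q)) := by
    refine ell_of_orderOf s.2 fun K' hK' hne hd => ?_
    rw [hso] at hd
    have h7 : ∃ i : Fin 4, (i = 2 ∨ i = 3) ∧ K' ⊆ {j | j ∈ ([i] : List (Fin 4))} := by
      by_contra hcon
      push Not at hcon
      have a2 := hcon 2 (Or.inl rfl)
      have a3 := hcon 3 (Or.inr rfl)
      rw [Set.not_subset] at a2 a3
      obtain ⟨x, hx, hx'⟩ := a2
      obtain ⟨y, hy, hy'⟩ := a3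
      have b1 := hK' hx
      have b2 := hK' hy
      simp only [List.mem_cons, List.not_mem_nil, or_false, Set.mem_ofPred_eq] at b1 b2 hx' hy'
      have c1 : x = 3 := b1.resolve_left hx'
      have c2 : y = 2 := b2.resolve_right hy'
      subst c1 c2
      apply hne
      apply Set.Subset.antisymm hK'
      intro z hz
      simp only [List.mem_cons, List.not_mem_nil, or_false, Set.mem_ofPred_eq] at hz
      rcases hz with rfl | rfl
      · exact hy
      · exact hx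
    obtain ⟨i, hi, hsub⟩ := h7
    exact hn i hi (hd.trans (Subgroup.card_dvd_of_le (pj_mono R hsub)))
  refine ⟨s, hso, vz_of_ell R D.gg hE hχ hv ?_⟩
  intro σ _ hsz w hall
  have hlt : q ≠ q ^ 2 := by nlinarith only [hq2]
  have key : ∀ k : Fin 4, (k = 2 ∨ k = 3) → rep CoxeterMatrix.F₄.toCoxeterSystem Nodes.RGDTwE6.isCartan w (sr (σ k)) =
      sr (3 : Fin 4) := by
    intro k hk
    obtain ⟨j, hj, e⟩ := hall (σ k) ⟨k, by rcases hk with rfl | rfl <;> simp, rfl⟩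
    have h7 := card_rep R w (isRoot_sr CoxeterMatrix.F₄.toCoxeterSystem Nodes.RGDTwE6.isCartan (σ k))
    rw [e, hsz, D.size, D.size] at h7
    have h8 : fE q k = q ^ 2 := by rcases hk with rfl | rfl <;> simp [fE]
    rw [h8] at h7
    have h9 : j = 3 := by
      have hj' : j ≠ 2 := hj
      revert h7 hj'
      fin_cases j <;> simp [fE] <;> omega
    rw [e, h9]
  have h7 := (key 2 (Or.inl rfl)).trans (key 3 (Or.inr rfl)).symm
  have h8 : sr (σ 2) = (sr (σ 3) : Fin 4 → ℤ) := by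
    have h9 := congrArg (rep CoxeterMatrix.F₄.toCoxeterSystem Nodes.RGDTwE6.isCartan w⁻¹) h7
    rwa [rep_inv_apply, rep_inv_apply] at h9
  have h9 : σ 2 = σ 3 := by
    by_contra hne
    have := congrFun h8 (σ 2)
    rw [sr_self, sr_ne hne] at this
    exact one_ne_zero this
  exact absurd (σ.injective h9) (by decide)

end Cfsg.Agent.H53.DZ
end

-- part: H53/DZ/Rows
section
/-!
# The rows `E₆(q)`, `²E₆(q)` of S4555 and S4559, `q` of order at least three modulo `p` (helper53)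

* `hasDZ_E6`, `hasDZ_TwE6` : characters of `p`-defect zero (`p ∤ q² - 1`, and `p ∤ q³ - 1` for `²E₆(q)`);
* `vOrdP_E6`, `vOrdP_TwE6` : `VOrdP p S` (`p ∤ q² - 1`).
-/

set_option autoImplicit false

open Cfsg

namespace Cfsg.Agent.H53.DZ

open Cfsg.Agent.H665.NoPQ Cfsg.Agent.H620.PNorm Cfsg.Agent.H713 Cfsg.Lie

theorem vOrdP_of_hasDZ {S : Type*} [Group S] [Finite S] {p : ℕ} [hp : Fact p.Prime] (h : HasDZ p S)
    (hd : p ∣ Nat.card S) : VOrdP p S := by
  obtain ⟨x, hx⟩ := exists_prime_orderOf_dvd_card' p hd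
  exact ⟨x, hx, HasDZ.vz h (by rw [hx])⟩

/-- **`E₆(q)`**, `q` of order at least three modulo `p` -/
theorem hasDZ_E6 {S : Type*} [Group S] {F : Type} [Field F] [Fintype F] {r : ℕ} [hch : CharP F r]
    (e : S ≃* ↥(chevE6.group F)) {p : ℕ} [hp : Fact p.Prime] (hpr : p ≠ r)
    (h2 : ¬ p ∣ Fintype.card F ^ 2 - 1) : HasDZ p S := by
  obtain ⟨r', f, hr, hf, hK, hch'⟩ := HC.ExcIM.exists_prime_pow F
  have hrr : r' = r := CharP.eq F hch' hch
  subst hrr
  rw [hK] at h2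
  exact HasDZ.mulEquiv e.symm (dz_E6 hr hf hK hpr (fun h => h2 (h.trans (by
    have := pow_dvd_pow_sub (q := r' ^ f) (a := 1) (b := 2) (by norm_num)
    rwa [pow_one] at this))) h2)

theorem vOrdP_E6 {S : Type*} [Group S] [Finite S] {F : Type} [Field F] [Fintype F] {r : ℕ} [hch : CharP F r]
    (e : S ≃* ↥(chevE6.group F)) {p : ℕ} [hp : Fact p.Prime] (hpr : p ≠ r)
    (h2 : ¬ p ∣ Fintype.card F ^ 2 - 1) (hd : p ∣ Nat.card S) : VOrdP p S :=
  vOrdP_of_hasDZ (hasDZ_E6 e hpr h2) hd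

theorem exists_of_tw {K : Type} [Field K] [Fintype K] {r : ℕ} [hch : CharP K r] {q : ℕ} (hq : IsPrimePow q)
    (hK : Fintype.card K = q ^ 2) : ∃ f : ℕ, r.Prime ∧ f ≠ 0 ∧ q = r ^ f := by
  obtain ⟨r', f, hr, hf, hqf⟩ := (isPrimePow_nat_iff q).1 hq
  obtain ⟨r'', g, hr', hg, hK', hch'⟩ := HC.ExcIM.exists_prime_pow K
  have h0 : r'' = r := CharP.eq K hch' hch
  subst h0
  have h1 : r'' = r' := by
    have h2 : r'' ∣ r' ^ (f * 2) := by
      rw [pow_mul, hqf, ← hK, hK']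
      exact dvd_pow_self _ hg
    exact (Nat.prime_dvd_prime_iff_eq hr' hr).1 (hr'.dvd_of_dvd_pow h2)
  subst h1
  exact ⟨f, hr, hf.ne', hqf.symm⟩

/-- **`²E₆(q)`**, `q` of order at least four modulo `p` -/
theorem hasDZ_TwE6 {S : Type*} [Group S] {K : Type} [Field K] [Fintype K] {r : ℕ} [hch : CharP K r] {q : ℕ}
    (hq : IsPrimePow q) (hK : Fintype.card K = q ^ 2) (e : S ≃* ↥(twistedE6 K q)) {p : ℕ} [hp : Fact p.Prime]
    (hpr : p ≠ r) (h2 : ¬ p ∣ q ^ 2 - 1) (h3 : ¬ p ∣ q ^ 3 - 1) : HasDZ p S := by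
  obtain ⟨f, hr, hf, hqf⟩ := exists_of_tw (r := r) hq hK
  obtain ⟨φ, hφ, hqq⟩ := Cfsg.Agent.ChevalleyStructure.TwE6Basic.exists_frob hq hK
  exact HasDZ.mulEquiv e.symm (dz_TwE6 hr hf hqf hφ hqq hK hpr h2 h3)

theorem vOrdP_TwE6 {S : Type*} [Group S] [Finite S] {K : Type} [Field K] [Fintype K] {r : ℕ} [hch : CharP K r] {q : ℕ}
    (hq : IsPrimePow q) (hK : Fintype.card K = q ^ 2) (e : S ≃* ↥(twistedE6 K q)) {p : ℕ} [hp : Fact p.Prime]
    (hpr : p ≠ r) (h2 : ¬ p ∣ q ^ 2 - 1) (hd : p ∣ Nat.card S) : VOrdP p S := by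
  by_cases h3 : p ∣ q ^ 3 - 1
  · obtain ⟨f, hr, hf, hqf⟩ := exists_of_tw (r := r) hq hK
    obtain ⟨φ, hφ, hqq⟩ := Cfsg.Agent.ChevalleyStructure.TwE6Basic.exists_frob hq hK
    exact (vOrdP_TwE6_three hr hf hqf hφ hqq hK hpr h2 h3).mulEquiv e.symm
  · exact vOrdP_of_hasDZ (hasDZ_TwE6 hq hK e hpr h2 h3) hd

end Cfsg.Agent.H53.DZ
end

-- part: H622/Van/Num
section
/-!
Number theory for the graph automorphisms of `SL_7(q)` and `SL_8(q)`: `(q^n - 1)/(q - 1)` does not divide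
`(q - 1) (q^i + p^j)`, `n = 7, 8`, `q` a power of the prime `p`.
-/

set_option autoImplicit false

namespace Cfsg.Agent.H622.Van

/-- the two-parts of the exponents with value `-1` -/
theorem not_dvd_of_pow_neg {R : Type*} [Ring R] (h : (-1 : R) ≠ 1) {x : R} {s u v : ℕ} (hu : Odd u)
    (h1 : x ^ (2 ^ s * u) = -1) (h2 : x ^ v = -1) : ¬ 2 ^ (s + 1) ∣ v := by
  rintro ⟨w, rfl⟩
  apply h
  have e1 : x ^ (2 ^ (s + 1) * w * u) = -1 := by rw [pow_mul, h2, hu.neg_one_pow]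
  have e2 : x ^ (2 ^ (s + 1) * w * u) = 1 := by
    have : 2 ^ (s + 1) * w * u = (2 ^ s * u) * (2 * w) := by ring
    rw [this, pow_mul, h1, pow_mul, neg_one_sq, one_pow]
  rw [← e1, e2]

/-- a number larger than two and not divisible by four has an odd prime divisor -/
theorem exists_odd_prime {N : ℕ} (h2 : 2 < N) (h4 : ¬ 4 ∣ N) : ∃ l : ℕ, l.Prime ∧ l ≠ 2 ∧ l ∣ N := by
  by_contra hno
  push Not at hno
  have hall : ∀ l : ℕ, l.Prime → l ∣ N → l = 2 := by
    intro l hl hd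
    by_contra h
    exact hno l hl h hd
  have h1 : N = 2 ^ N.primeFactorsList.length := by
    refine Nat.eq_prime_pow_of_unique_prime_dvd (by omega) ?_
    intro l hl hd
    exact hall l hl hd
  set k := N.primeFactorsList.length
  have hk : 2 ≤ k := by
    by_contra hk
    have : k = 0 ∨ k = 1 := by omega
    rcases this with h0 | h0 <;> rw [h0] at h1 <;> norm_num at h1 <;> omega
  apply h4
  rw [h1]
  exact pow_dvd_pow 2 hk

theorem neg_one_ne {l : ℕ} (hl : l.Prime) (h2 : l ≠ 2) : (-1 : ZMod l) ≠ 1 := by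
  intro h
  have h1 : ((2 : ℕ) : ZMod l) = 0 := by push_cast; linear_combination -h
  rw [ZMod.natCast_eq_zero_iff] at h1
  exact h2 ((Nat.prime_dvd_prime_iff_eq hl Nat.prime_two).1 h1)

/-- the exponents `k` with `p ^ k = -1` from `q ^ i + p ^ j = 0` -/
theorem exists_exp {p f q : ℕ} (hq : q = p ^ f) (i j : ℕ) :
    ∃ k : ℕ, ∀ l : ℕ, l.Prime → ¬ l ∣ p → ((q : ZMod l)) ^ i + (p : ZMod l) ^ j = 0 → (p : ZMod l) ^ k = -1 := by
  rcases le_total (f * i) j with h | h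
  · refine ⟨j - f * i, fun l hl hp h0 => ?_⟩
    have : Fact l.Prime := ⟨hl⟩
    have hp0 : (p : ZMod l) ≠ 0 := by rwa [Ne, ZMod.natCast_eq_zero_iff]
    obtain ⟨d, rfl⟩ := Nat.exists_eq_add_of_le h
    rw [hq] at h0
    push_cast at h0
    rw [← pow_mul, pow_add] at h0
    have h1 : (p : ZMod l) ^ (f * i) * ((p : ZMod l) ^ d + 1) = 0 := by linear_combination h0
    rcases mul_eq_zero.1 h1 with h2 | h2
    · exact absurd h2 (pow_ne_zero _ hp0)
    · rw [Nat.add_sub_cancel_left]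
      linear_combination h2
  · refine ⟨f * i - j, fun l hl hp h0 => ?_⟩
    have : Fact l.Prime := ⟨hl⟩
    have hp0 : (p : ZMod l) ≠ 0 := by rwa [Ne, ZMod.natCast_eq_zero_iff]
    obtain ⟨d, hd⟩ := Nat.exists_eq_add_of_le h
    rw [hq] at h0
    push_cast at h0
    rw [← pow_mul, hd, pow_add] at h0
    have h1 : (p : ZMod l) ^ j * ((p : ZMod l) ^ d + 1) = 0 := by linear_combination h0
    rcases mul_eq_zero.1 h1 with h2 | h2
    · exact absurd h2 (pow_ne_zero _ hp0)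
    · rw [hd, Nat.add_sub_cancel_left]
      linear_combination h2

/-- **`n = 8`.** -/
theorem ns8 {p f q : ℕ} (hp : p.Prime) (hf : 0 < f) (hq : q = p ^ f) (i j : ℕ) :
    ¬ (∑ a ∈ Finset.range 8, q ^ a) ∣ (q - 1) * (q ^ i + p ^ j) := by
  intro hd
  have hq2 : 2 ≤ q := by
    rw [hq]
    have := Nat.one_lt_pow hf.ne' hp.one_lt
    omega
  obtain ⟨k, hk⟩ := exists_exp hq i j
  -- the factors
  have hsum : ∑ a ∈ Finset.range 8, q ^ a = (q + 1) * (q ^ 2 + 1) * (q ^ 4 + 1) := by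
    simp only [Finset.sum_range_succ, Finset.sum_range_zero]
    ring
  have hsq : ∀ m : ℕ, ¬ 4 ∣ m ^ 2 + 1 := by
    intro m h
    rcases Nat.even_or_odd' m with ⟨c, rfl | rfl⟩
    · have : (2 * c) ^ 2 + 1 = 4 * c ^ 2 + 1 := by ring
      omega
    · have : (2 * c + 1) ^ 2 + 1 = 4 * (c ^ 2 + c) + 2 := by ring
      omega
  have key : ∀ l : ℕ, l.Prime → l ≠ 2 → ∀ e : ℕ, e ≠ 0 → l ∣ q ^ e + 1 → l ∣ (q - 1) * (q ^ i + p ^ j) →
      ((p : ZMod l)) ^ (f * e) = -1 ∧ (p : ZMod l) ^ k = -1 := by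
    intro l hl h2 e he h3 h4
    have : Fact l.Prime := ⟨hl⟩
    have h5 : ((q : ZMod l)) ^ e = -1 := by
      have : ((q ^ e + 1 : ℕ) : ZMod l) = 0 := (ZMod.natCast_eq_zero_iff _ _).2 h3
      push_cast at this
      linear_combination this
    have hlp : ¬ l ∣ p := by
      intro h6
      have h7 : l ∣ q ^ e := by
        rw [hq, ← pow_mul]
        exact dvd_pow h6 (Nat.mul_ne_zero hf.ne' he)
      have h8 := (Nat.dvd_add_right h7).1 h3
      exact hl.one_lt.ne' (Nat.dvd_one.1 h8)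
    refine ⟨?_, hk l hl hlp ?_⟩
    · rw [pow_mul, ← h5, hq]
      push_cast
      rfl
    · rcases hl.dvd_mul.1 h4 with h6 | h6
      · exfalso
        have h7 : (q : ZMod l) = 1 := by
          have : ((q - 1 : ℕ) : ZMod l) = 0 := (ZMod.natCast_eq_zero_iff _ _).2 h6
          rw [Nat.cast_sub (by omega), Nat.cast_one, sub_eq_zero] at this
          exact this
        rw [h7, one_pow] at h5
        exact neg_one_ne hl h2 h5.symm
      · have : ((q ^ i + p ^ j : ℕ) : ZMod l) = 0 := (ZMod.natCast_eq_zero_iff _ _).2 h6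
        push_cast at this
        exact this
  obtain ⟨l, hl, hl2, hld⟩ := exists_odd_prime (N := q ^ 4 + 1) (by linarith only [Nat.pow_le_pow_left hq2 4]) (by
    have := hsq (q ^ 2)
    rwa [← pow_mul] at this)
  obtain ⟨l', hl', hl2', hld'⟩ := exists_odd_prime (N := q ^ 2 + 1) (by nlinarith only [hq2]) (hsq q)
  obtain ⟨a1, a2⟩ := key l hl hl2 4 (by norm_num) hld ((hld.trans (by rw [hsum]; exact Dvd.intro_left _ rfl)).trans hd)
  obtain ⟨b1, b2⟩ := key l' hl' hl2' 2 (by norm_num) hld'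
    ((hld'.trans (by rw [hsum]; exact Dvd.dvd.mul_right (Dvd.intro_left _ rfl) _)).trans hd)
  obtain ⟨b, f', hf', e1⟩ := Nat.exists_eq_two_pow_mul_odd hf.ne'
  have hk0 : k ≠ 0 := by
    rintro rfl
    rw [pow_zero] at a2
    exact neg_one_ne hl hl2 a2.symm
  obtain ⟨c, k', hk', e2⟩ := Nat.exists_eq_two_pow_mul_odd hk0
  -- `2 ^ (b + 2) ∤ k`
  have h1 : ¬ 2 ^ (b + 1 + 1) ∣ k := not_dvd_of_pow_neg (neg_one_ne hl' hl2') (x := (p : ZMod l')) (s := b + 1)
    (u := f') hf' (by rw [← b1]; congr 1; rw [e1]; ring) b2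
  -- `2 ^ (c + 1) ∤ 4 f`
  have h2 : ¬ 2 ^ (c + 1) ∣ f * 4 := not_dvd_of_pow_neg (neg_one_ne hl hl2) (x := (p : ZMod l)) (s := c)
    (u := k') hk' (by rw [← e2]; exact a2) a1
  rcases le_or_gt (b + 2) c with h3 | h3
  · apply h1
    rw [e2]
    exact Dvd.dvd.mul_right (pow_dvd_pow 2 h3) _
  · apply h2
    have : f * 4 = 2 ^ (b + 2) * f' := by rw [e1]; ring
    rw [this]
    exact Dvd.dvd.mul_right (pow_dvd_pow 2 (by omega)) _

theorem not_49 : ∀ x : ZMod 49, 1 + x + x ^ 2 + x ^ 3 + x ^ 4 + x ^ 5 + x ^ 6 ≠ 0 := by decide +kernel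

/-- a prime divisor other than `2`, `7` of `1 + x + ... + x^6` -/
theorem exists_prime_dvd7 {x : ℕ} (hx : 2 ≤ x) :
    ∃ l : ℕ, l.Prime ∧ l ≠ 7 ∧ l ≠ 2 ∧ l ∣ 1 + x + x ^ 2 + x ^ 3 + x ^ 4 + x ^ 5 + x ^ 6 := by
  have hodd : ¬ 2 ∣ 1 + x + x ^ 2 + x ^ 3 + x ^ 4 + x ^ 5 + x ^ 6 := by
    intro h
    rcases Nat.even_or_odd' x with ⟨c, hc | hc⟩
    · have e : 1 + x + x ^ 2 + x ^ 3 + x ^ 4 + x ^ 5 + x ^ 6 =
          1 + 2 * (c * (1 + x + x ^ 2 + x ^ 3 + x ^ 4 + x ^ 5)) := by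
        have : 2 * (c * (1 + x + x ^ 2 + x ^ 3 + x ^ 4 + x ^ 5)) = x * (1 + x + x ^ 2 + x ^ 3 + x ^ 4 + x ^ 5) := by
          conv_rhs => rw [hc]
          ring_nf
          rw [hc]; ring
        rw [this]; ring
      omega
    · have e : 1 + x + x ^ 2 + x ^ 3 + x ^ 4 + x ^ 5 + x ^ 6 = 1 + (x + 1) * (x + x ^ 3 + x ^ 5) := by ring
      have e2 : (x + 1) * (x + x ^ 3 + x ^ 5) = 2 * ((c + 1) * (x + x ^ 3 + x ^ 5)) := by
        rw [hc]; ring
      omega
  have h49 : ¬ 49 ∣ 1 + x + x ^ 2 + x ^ 3 + x ^ 4 + x ^ 5 + x ^ 6 := by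
    intro h
    refine not_49 (x : ZMod 49) ?_
    have := (ZMod.natCast_eq_zero_iff (1 + x + x ^ 2 + x ^ 3 + x ^ 4 + x ^ 5 + x ^ 6) 49).2 h
    push_cast at this
    exact this
  by_contra hno
  push Not at hno
  set N := 1 + x + x ^ 2 + x ^ 3 + x ^ 4 + x ^ 5 + x ^ 6 with hN
  have hall : ∀ l : ℕ, l.Prime → l ∣ N → l = 7 := by
    intro l hl hd
    by_contra h3
    have h2 : l ≠ 2 := by rintro rfl; exact hodd hd
    exact hno l hl h3 h2 hd
  have h1 : N = 7 ^ N.primeFactorsList.length := by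
    refine Nat.eq_prime_pow_of_unique_prime_dvd (by omega) ?_
    intro l hl hd
    exact hall l hl hd
  have h7 : 8 ≤ N := by
    have a2 : 4 ≤ x ^ 2 := by nlinarith only [hx]
    have a3 : 8 ≤ x ^ 3 := by
      calc 8 = 2 ^ 3 := by norm_num
        _ ≤ x ^ 3 := Nat.pow_le_pow_left hx 3
    omega
  set k := N.primeFactorsList.length
  have hk : 2 ≤ k := by
    by_contra hk
    have : k = 0 ∨ k = 1 := by omega
    rcases this with h0 | h0 <;> rw [h0] at h1 <;> norm_num at h1 <;> (clear * - hodd h7 h1; omega)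
  apply h49
  rw [h1]
  exact pow_dvd_pow 7 hk

/-- **`n = 7`.** -/
theorem ns7 {p f q : ℕ} (hp : p.Prime) (hf : 0 < f) (hq : q = p ^ f) (i j : ℕ) :
    ¬ (∑ a ∈ Finset.range 7, q ^ a) ∣ (q - 1) * (q ^ i + p ^ j) := by
  intro hdiv
  obtain ⟨b, f', hf', rfl⟩ := Nat.exists_eq_two_pow_mul_odd hf.ne'
  have hf0 : f' ≠ 0 := by rintro rfl; exact absurd hf' (by decide)
  have hx : 2 ≤ p ^ f' := by
    have := Nat.one_lt_pow hf0 hp.one_lt
    omega
  have hq2 : 2 ≤ q := by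
    rw [hq]
    have := Nat.one_lt_pow hf.ne' hp.one_lt
    omega
  obtain ⟨l, hl, h7, h2, hd⟩ := exists_prime_dvd7 hx
  have : Fact l.Prime := ⟨hl⟩
  let x : ZMod l := ((p ^ f' : ℕ) : ZMod l)
  have hx1 : 1 + x + x ^ 2 + x ^ 3 + x ^ 4 + x ^ 5 + x ^ 6 = 0 := by
    have h4 := (ZMod.natCast_eq_zero_iff _ l).2 hd
    push_cast at h4
    change 1 + ((p ^ f' : ℕ) : ZMod l) + ((p ^ f' : ℕ) : ZMod l) ^ 2 + ((p ^ f' : ℕ) : ZMod l) ^ 3 +
      ((p ^ f' : ℕ) : ZMod l) ^ 4 + ((p ^ f' : ℕ) : ZMod l) ^ 5 + ((p ^ f' : ℕ) : ZMod l) ^ 6 = 0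
    push_cast
    exact h4
  have hx7 : x ^ 7 = 1 := by linear_combination (x - 1) * hx1
  have hxne : x ≠ 1 := by
    intro h
    rw [h] at hx1
    have h5 : ((7 : ℕ) : ZMod l) = 0 := by push_cast; linear_combination hx1
    rw [ZMod.natCast_eq_zero_iff] at h5
    exact h7 ((Nat.prime_dvd_prime_iff_eq hl (by norm_num)).1 h5)
  have hqx : (q : ZMod l) = x ^ 2 ^ b := by
    rw [hq, mul_comm, pow_mul]
    push_cast
    change _ = ((p ^ f' : ℕ) : ZMod l) ^ 2 ^ b
    push_cast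
    rfl
  have hq7 : (q : ZMod l) ^ 7 = 1 := by
    rw [hqx, ← pow_mul, mul_comm, pow_mul, hx7, one_pow]
  have hqne : (q : ZMod l) ≠ 1 := by
    intro h
    apply hxne
    rw [hqx] at h
    have h8 : orderOf x ∣ 2 ^ b := orderOf_dvd_of_pow_eq_one h
    have h9 : orderOf x ∣ 7 := orderOf_dvd_of_pow_eq_one hx7
    have h10 : Nat.gcd (2 ^ b) 7 = 1 := Nat.Coprime.pow_left b (by norm_num)
    have h11 := Nat.dvd_gcd h8 h9
    rw [h10, Nat.dvd_one] at h11
    exact orderOf_eq_one_iff.1 h11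
  have hqs : ∑ a ∈ Finset.range 7, (q : ZMod l) ^ a = 0 := by
    have h8 : (∑ a ∈ Finset.range 7, (q : ZMod l) ^ a) * ((q : ZMod l) - 1) = 0 := by
      rw [geom_sum_mul, hq7, sub_self]
    exact (mul_eq_zero.1 h8).resolve_right (sub_ne_zero.2 hqne)
  have hld : l ∣ ∑ a ∈ Finset.range 7, q ^ a := by
    rw [← ZMod.natCast_eq_zero_iff]
    push_cast
    exact hqs
  have h3 : ((q : ZMod l)) ^ i + (p : ZMod l) ^ j = 0 := by
    rcases hl.dvd_mul.1 (hld.trans hdiv) with h6 | h6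
    · exfalso
      apply hqne
      have : ((q - 1 : ℕ) : ZMod l) = 0 := (ZMod.natCast_eq_zero_iff _ _).2 h6
      rw [Nat.cast_sub (by omega), Nat.cast_one, sub_eq_zero] at this
      exact this
    · have : ((q ^ i + p ^ j : ℕ) : ZMod l) = 0 := (ZMod.natCast_eq_zero_iff _ _).2 h6
      push_cast at this
      exact this
  have h4 : ((p : ZMod l)) ^ j = -(q : ZMod l) ^ i := by linear_combination h3
  have h5 := congrArg (fun y => y ^ (7 * f')) h4
  change ((p : ZMod l) ^ j) ^ (7 * f') = (-(q : ZMod l) ^ i) ^ (7 * f') at h5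
  have ho : Odd (7 * f') := by
    rw [Nat.odd_mul]; exact ⟨by decide, hf'⟩
  rw [ho.neg_pow] at h5
  have e1 : ((p : ZMod l) ^ j) ^ (7 * f') = 1 := by
    have : ((p : ZMod l) ^ j) ^ (7 * f') = (x ^ 7) ^ j := by
      change _ = (((p ^ f' : ℕ) : ZMod l) ^ 7) ^ j
      push_cast
      ring
    rw [this, hx7, one_pow]
  have e2 : ((q : ZMod l) ^ i) ^ (7 * f') = 1 := by
    have : ((q : ZMod l) ^ i) ^ (7 * f') = ((q : ZMod l) ^ 7) ^ (i * f') := by ring
    rw [this, hq7, one_pow]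
  rw [e1, e2] at h5
  exact neg_one_ne hl h2 h5.symm

end Cfsg.Agent.H622.Van
end

-- part: H622/Van/Rows
section
/-!
# Characters of defect zero of `E₇(q)` and `E₈(q)`

* `e8_dz` : `HasDZ p` for `p ∤ q`, `p ∤ q² - 1`;
* `e7_dz` : `HasDZ p` for `p ∤ q`, `p ∤ q - 1`; `e7_dz_two` : `HasDZ 2` for `q ≡ 3 mod 4`.
-/

set_option autoImplicit false
set_option linter.unusedSectionVars false

open Cfsg

namespace Cfsg.Agent.H622.Van

open Cfsg.Agent.H53.HC Cfsg.Agent.H53.HC.ExcRows Cfsg.Agent.H35.ExcIdx Cfsg.Agent.H35.PoinNum Cfsg.Agent.Characters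
  Cfsg.Agent.H665.NoPQ Cfsg.Agent.H353.IMC
open CoxeterSystem Cfsg.Agent.ChevalleyStructure.CoxeterGeom Cfsg.Agent.Tits.Roots Cfsg.Agent.Tits.Core
  Cfsg.Agent.Tits.Exchange Cfsg.Agent.Nodes.Reps Cfsg.Agent.Nodes.BNOf Cfsg.Agent.Nodes.StabComb
  Cfsg.Agent.Nodes.Bruhat Cfsg.Agent.Nodes.OppDec Cfsg.Agent.Nodes.LeviDec

universe u

/-- the engine -/
theorem hasDZ_of {S : Type*} [Group S] [Finite S] {χ : S → ℂ} (hχ : IsIrrCharacter S χ) {N x y p : ℕ}
    (hN : χ 1 = (N : ℂ)) (h : N * x = y * Nat.card S) (hx : x ≠ 0) (hy : y ≠ 0)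
    (hxy : x.factorization p ≤ y.factorization p) : HasDZ p S := by
  have hdeg : charDegree χ = N := H670.PSing.charDegree_eq_of hN
  refine ⟨⟨χ, hχ⟩, ?_⟩
  change (charDegree χ).factorization p = _
  have hd : N ∣ Nat.card S := by
    rw [← hdeg]
    exact H674.Codegree.charDegree_dvd_card hχ
  have hN0 : N ≠ 0 := by
    rintro rfl
    rw [zero_mul] at h
    exact (mul_ne_zero hy Nat.card_pos.ne') h.symm
  rw [hdeg]
  apply le_antisymm
  · exact (Nat.factorization_le_iff_dvd hN0 Nat.card_pos.ne').2 hd p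
  · have h1 := congrArg (fun z => z.factorization p) h
    change (N * x).factorization p = (y * Nat.card S).factorization p at h1
    rw [Nat.factorization_mul hN0 hx, Nat.factorization_mul hy Nat.card_pos.ne', Finsupp.add_apply,
      Finsupp.add_apply] at h1
    omega

theorem hasDZ_of' {S : Type*} [Group S] [Finite S] {χ : S → ℂ} (hχ : IsIrrCharacter S χ) {N x y p : ℕ}
    (hN : χ 1 = (N : ℂ)) (h : N * x = y * Nat.card S) (hy : y ≠ 0) (hx : ¬ p ∣ x) : HasDZ p S := by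
  refine hasDZ_of hχ hN h ?_ hy ?_
  · rintro rfl
    exact hx (dvd_zero _)
  · rw [Nat.factorization_eq_zero_of_not_dvd hx]
    exact Nat.zero_le _

/-- `q ^ a ≡ 1` and `q ^ b ≡ 1` modulo `p` -/
theorem dvd_gcd_pow {p q a b : ℕ} (ha : p ∣ q ^ a - 1) (hb : p ∣ q ^ b - 1) : p ∣ q ^ Nat.gcd a b - 1 := by
  have h2 := Nat.dvd_gcd ha hb
  rwa [Nat.pow_sub_one_gcd_pow_sub_one] at h2

theorem dvd_pow_of {p q d e : ℕ} (h : p ∣ q ^ d - 1) (hde : d ∣ e) : p ∣ q ^ e - 1 := by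
  obtain ⟨c, rfl⟩ := hde
  rw [pow_mul]
  refine h.trans ?_
  have := Nat.sub_dvd_pow_sub_pow (q ^ d) 1 c
  rwa [one_pow] at this

/-- the chain `0, 2, 3, 4, 5, 6, 7` of `E₈` -/
def c8 : Fin 7 ↪ Fin 8 := ⟨![0, 2, 3, 4, 5, 6, 7], by decide⟩
/-- the chain `0, 2, 3, 4, 5, 6` of `E₇` -/
def c7 : Fin 6 ↪ Fin 7 := ⟨![0, 2, 3, 4, 5, 6], by decide⟩

theorem hc8 : ∀ i j, m8 (c8 i) (c8 j) = mA 7 i j := by decide +kernel
theorem hc7 : ∀ i j, m7 (c7 i) (c7 j) = mA 6 i j := by decide +kernel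

theorem mem_c8 : ∀ i, i ∈ Set.range c8 ↔ i ≠ 1 := by
  intro i
  rw [Set.mem_range]
  revert i; decide

theorem mem_c7 : ∀ i, i ∈ Set.range c7 ↔ i ≠ 1 := by
  intro i
  rw [Set.mem_range]
  revert i; decide

theorem range_c8 : Set.range c8 = {j | j ≠ 1} := Set.ext mem_c8
theorem range_c7 : Set.range c7 = {j | j ≠ 1} := Set.ext mem_c7

/-- the kernel of the Cartan matrix modulo `8` -/
def z8 : Fin 8 → ℤ := ![1, 0, 2, 3, 4, 5, 6, 7]
/-- the kernel of the Cartan matrix modulo `7` -/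
def z7 : Fin 7 → ℤ := ![1, 0, 2, 3, 4, 5, 6]

theorem z8_mod : ∀ c : Fin 8, c ≠ 1 → (8 : ℤ) ∣ ∑ i, z8 i * H505.Cop.E8Num.AE i c := by decide +kernel
theorem z7_mod : ∀ c : Fin 7, c ≠ 1 → (7 : ℤ) ∣ ∑ i, z7 i * H505.Cop.E7Num.AE i c := by decide +kernel
theorem z8_not : ¬ (8 : ℤ) ∣ 2 * ∑ i, z8 i * H505.Cop.E8Num.AE i 1 := by decide +kernel
theorem z7_not : ¬ (7 : ℤ) ∣ 2 * ∑ i, z7 i * H505.Cop.E7Num.AE i 1 := by decide +kernel

section split

open Cfsg.Lie Cfsg.Agent.Nodes.RGDChev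

variable {K : Type u} [Field K] [Fintype K] {r f : ℕ} (hr : r.Prime) (hf : f ≠ 0)
  (hK : Fintype.card K = r ^ f) [CharP K r] {p : ℕ} (hp : p.Prime)

include hK in
omit [CharP K r] in
theorem card_E8 : ∃ b : ℕ, Nat.card ↥(chevE8.group K) = r ^ b * pr (r ^ f) [2, 8, 12, 14, 18, 20, 24, 30] := by
  refine ⟨f * 120, ?_⟩
  have h3 := Cfsg.Agent.S1065.result hK
  rw [pow_mul]
  simp only [pr_cons, pr_nil]
  rw [h3]
  ring

include hr hf in
theorem ns_of {n : ℕ} (hn : n = 7 ∨ n = 8) : NS n (r ^ f) := by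
  intro p g hp hg hq i j
  rcases hn with rfl | rfl
  · exact ns7 hp hg hq i j
  · exact ns8 hp hg hq i j

include hr hf hK in
/-- the character of `E₈(q)` for `J = A₇` -/
theorem exists_e8 : ∃ χ : ↥(chevE8.group K) → ℂ, IsIrrCharacter _ χ ∧ ∃ N a t b : ℕ, 0 < a ∧ χ 1 = (N : ℂ) ∧
    t ∣ r ^ f - 1 ∧ N * (t * ((r ^ f) ^ 8 - 1) * r ^ b) = a * Nat.card ↥(chevE8.group K) := by
  have := finite_group (K := K) chevE8
  have := Fintype.ofFinite ↥(chevE8.group K)
  have D := data_E8_3 hr hf hK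
  have := D.fin
  obtain ⟨b, hb⟩ := card_E8 (r := r) (f := f) hK
  obtain ⟨χ, hχ, a, e, t, ha, h1, h2, h3⟩ := exists_irr_chain D.rgd D.gg (by norm_num) c8 hc8 mem_c8
    (N := 8) (z := z8) rfl (by rw [H505.Cop.E8Num.cartan_eq]; exact z8_mod)
    (by rw [H505.Cop.E8Num.cartan_eq]; exact z8_not) 0 (D.size _) (ns_of hr hf (Or.inr rfl))
  refine ⟨χ, hχ, _, a, t, b, ha, h1, h3.trans (Nat.gcd_dvd_right _ _), ?_⟩
  have h4 := H505.Cop.E8Num.idx_1 hr hf hK
  rw [← range_c8] at h4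
  rw [hb, ← h4]
  simp only [Finset.prod_range_succ, Finset.prod_range_zero, one_mul] at h2
  norm_num only at h2
  simp only [pr_cons, pr_nil, pow_one, mul_one]
  generalize (PJ CoxeterMatrix.E₈.toCoxeterSystem hpE8.isCartan (TT chevE8 K) (XX chevE8 8 K) (Set.range c8)).index = idx
  generalize r ^ f = q at *
  rw [pow_one] at h2
  calc idx * (a * e) * (t * (q ^ 8 - 1) * r ^ b) = a * r ^ b * idx * (e * t) * (q ^ 8 - 1) := by ring
    _ = _ := by rw [h2]; ring

include hr hf hK in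
/-- the character of `E₇(q)` for `J = A₆` -/
theorem exists_e7 : ∃ χ : ↥(chevE7.group K) → ℂ, IsIrrCharacter _ χ ∧ ∃ N a t b : ℕ, 0 < a ∧ χ 1 = (N : ℂ) ∧
    t ∣ Nat.gcd 7 (r ^ f - 1) ∧
    N * (t * ((r ^ f) ^ 7 - 1) * r ^ b) = a * Nat.gcd 2 (r ^ f - 1) * Nat.card ↥(chevE7.group K) := by
  have := finite_group (K := K) chevE7
  have := Fintype.ofFinite ↥(chevE7.group K)
  have D := data_E7_3 hr hf hK
  have := D.fin
  have hb : Nat.gcd 2 (r ^ f - 1) * Nat.card ↥(chevE7.group K) =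
      r ^ (f * 63) * pr (r ^ f) [2, 6, 8, 10, 12, 14, 18] := by
    have h3 := Cfsg.Agent.S1064.result hK
    rw [pow_mul]
    simp only [pr_cons, pr_nil]
    rw [h3]
    ring
  obtain ⟨χ, hχ, a, e, t, ha, h1, h2, h3⟩ := exists_irr_chain D.rgd D.gg (by norm_num) c7 hc7 mem_c7
    (N := 7) (z := z7) rfl (by rw [H505.Cop.E7Num.cartan_eq]; exact z7_mod)
    (by rw [H505.Cop.E7Num.cartan_eq]; exact z7_not) 0 (D.size _) (ns_of hr hf (Or.inl rfl))
  refine ⟨χ, hχ, _, a, t, f * 63, ha, h1, h3, ?_⟩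
  have h4 := H505.Cop.E7Num.idx_1 hr hf hK
  rw [← range_c7] at h4
  rw [mul_assoc a, hb, ← h4]
  simp only [Finset.prod_range_succ, Finset.prod_range_zero, one_mul] at h2
  norm_num only at h2
  simp only [pr_cons, pr_nil, pow_one, mul_one]
  generalize (PJ CoxeterMatrix.E₇.toCoxeterSystem hpE7.isCartan (TT chevE7 K) (XX chevE7 7 K) (Set.range c7)).index = idx
  generalize r ^ (f * 63) = rb
  generalize r ^ f = q at *
  rw [pow_one] at h2
  calc idx * (a * e) * (t * (q ^ 7 - 1) * rb) = a * rb * idx * (e * t) * (q ^ 7 - 1) := by ring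
    _ = _ := by rw [h2]; ring

/-- the character of `E₈(q)` or `E₇(q)` for `J` all nodes but `3`, from the `A_1` and `A_n` components -/
theorem exists_big {q l : ℕ} {M : CoxeterMatrix (Fin l)} {A : Fin l → Fin l → ℤ} {h : IsCartan M A} {g : Fin l → ℕ}
    {S : Type*} [Group S] [Finite S] {T : Subgroup S} {n : Fin l → S} {X : (Fin l → ℤ) → Subgroup S} {r : ℕ}
    {j k₀ k₁ k₂ : Fin l} {K' : Set (Fin l)}
    (D : ExcData r q h g {i | i ≠ j} T n X) (hJ : ({i | i ≠ j} : Set (Fin l)) = {k₀, k₁} ∪ ({k₂} ∪ K'))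
    (ho : ∀ i ∈ ({k₀, k₁} : Set (Fin l)), ∀ i' ∈ ({k₂} ∪ K' : Set (Fin l)), M i i' = 2)
    (ho' : ∀ i ∈ ({k₂} : Set (Fin l)), ∀ i' ∈ K', M i i' = 2) (hk : M k₀ k₁ = 3) (hk1 : M k₁ j = 2)
    (hk0 : M k₀ j = 3 ∨ M k₀ j = 4) (hk2 : M k₂ j = 3)
    (hun : ∀ a b, a ≠ j → b ≠ j → M a b = 3 → (∀ c, c ≠ j → c ≠ a → c ≠ b → M a c = 2 ∧ M b c = 2) →
      (a = k₀ ∧ b = k₁) ∨ (a = k₁ ∧ b = k₀))
    (hq0 : g k₀ = q) (hq2 : g k₂ = q) {m : ℕ} (hm : 2 ≤ m) (k : Fin m ↪ Fin l) (hkm : ∀ i j, M (k i) (k j) = mA m i j)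
    (hK' : Set.range k = K') (i₀ : Fin m) (hqm : g (k i₀) = q) :
    ∃ χ : S → ℂ, IsIrrCharacter _ χ ∧ ∃ a d t d' t' d'' t'' : ℕ, 0 < a ∧
      χ 1 = (((PJ M.toCoxeterSystem h T X {i | i ≠ j}).index * (a * (d * (d' * d''))) : ℕ) : ℂ) ∧
      d * t = (q - 1) * (q ^ 2 - 1) ∧ t ∣ 3 ∧ d' * t' = q - 1 ∧ t' ∣ Nat.gcd 2 (q - 1) ∧
      d'' * t'' = ∏ i ∈ Finset.range m, (q ^ (i + 1) - 1) ∧ t'' ∣ Nat.gcd (m + 1) (q - 1) := by
  classical
  have := D.fin
  have : Fintype S := Fintype.ofFinite S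
  subst hK'
  obtain ⟨θ, hθ, hns, d, t, hd, hdt, ht⟩ := ExcIM.in_A2 D hk hq0
  obtain ⟨θ', d', t', hθ', hd', hdt', ht'⟩ := H622.Levi.cusp_node D.rgd k₂ j hk2 ((D.size k₂).trans hq2)
  obtain ⟨θ'', d'', t'', hθ'', hd'', hdt'', ht''⟩ := H622.Levi.cusp_chain D.rgd hm k hkm i₀ ((D.size _).trans hqm)
  obtain ⟨ψ, hψ, hval⟩ := hθ'.exists_prod D.rgd (orth_of h ho') hθ''
  have hψ1 : ψ 1 = θ' 1 * θ'' 1 := by
    obtain ⟨hab, e⟩ := hval 1 (one_mem _) 1 (one_mem _)
    simp only [mul_one] at e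
    exact e
  have hmem : ∀ i, i ∈ ({i | i ≠ j} : Set (Fin l)) ↔ i ≠ j := fun i => Iff.rfl
  have hk0J : k₀ ∈ ({i | i ≠ j} : Set (Fin l)) := by rw [hJ]; simp only [_root_.Set.singleton_union, _root_.Set.union_insert, _root_.Set.mem_insert_iff, _root_.Set.mem_union, _root_.Set.mem_singleton_iff, _root_.true_or, _root_.Set.mem_range, _root_.or_true]
  have hk1J : k₁ ∈ ({i | i ≠ j} : Set (Fin l)) := by rw [hJ]; simp only [_root_.Set.singleton_union, _root_.Set.union_insert, _root_.Set.mem_insert_iff, _root_.Set.mem_union, _root_.Set.mem_singleton_iff, _root_.or_true, _root_.Set.mem_range, _root_.true_or]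
  obtain ⟨χ, hχ, a, ha0, hχ1⟩ := exists_irr_one D.rgd D.gg hmem hJ (orth_of h ho) rfl
    (isoPair_of h hk0J hk1J hk fun c hc hc0 hc1 => by
      rw [hJ] at hc
      rcases hc with hc | hc
      · rcases hc with rfl | rfl
        · exact absurd rfl hc0
        · exact absurd rfl hc1
      · exact ⟨ho _ (by simp) c hc, ho _ (by simp) c hc⟩)
    (cartan_two h hk1).1 (not_three_dvd h hk0)
    (fun a b hab => by
      obtain ⟨h1, h2, h3, h4⟩ := of_isoPair h hab
      exact hun a b h1 h2 h3 h4)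
    hθ hns hψ
  refine ⟨χ, hχ, a, d, t, d', t', d'', t'', ha0, ?_, hdt, ht, hdt', ht', hdt'', ht''⟩
  rw [hχ1, hψ1, hd, hd', hd'']
  push_cast
  ring

include hr hf hK in
/-- the character of `E₈(q)` for `J = A₂A₁A₄` -/
theorem exists_e8_big : ∃ χ : ↥(chevE8.group K) → ℂ, IsIrrCharacter _ χ ∧ ∃ N a t t' t'' b : ℕ, 0 < a ∧ χ 1 = (N : ℂ) ∧
    t ∣ 3 ∧ t' ∣ r ^ f - 1 ∧ t'' ∣ r ^ f - 1 ∧
    N * (t * t' * t'' * ((r ^ f) ^ 3 - 1) * ((r ^ f) ^ 2 - 1) * ((r ^ f) ^ 5 - 1) * r ^ b) =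
      a * (r ^ f - 1) ^ 2 * Nat.card ↥(chevE8.group K) := by
  have := finite_group (K := K) chevE8
  have D := data_E8_3 hr hf hK
  obtain ⟨b, hb⟩ := card_E8 (r := r) (f := f) hK
  obtain ⟨χ, hχ, a, d, t, d', t', d'', t'', ha, h1, h2, h3, h4, h5, h6, h7⟩ := exists_big D (k₀ := 2) (k₁ := 0)
    (k₂ := 1) compl8 (fun i hi i' hi' => or8a i (by simpa using hi) i' (by simpa only [_root_.Fin.isValue, _root_.List.mem_cons, _root_.List.not_mem_nil, _root_.or_false, _root_.Set.union_insert, _root_.Set.union_singleton, _root_.Set.mem_insert_iff, _root_.Set.mem_singleton_iff] using hi'))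
    (fun i hi i' hi' => or8b i (by simpa using hi) i' (by simpa using hi')) (by decide +kernel) (by decide +kernel)
    (by decide +kernel) (by decide +kernel) un8 rfl rfl (by norm_num) k8 hk8 range_k8 0 rfl
  refine ⟨χ, hχ, _, a, t, t', t'', b, ha, h1, h3, h5.trans (Nat.gcd_dvd_right _ _), h7.trans (Nat.gcd_dvd_right _ _), ?_⟩
  have h8 := H505.Cop.E8Num.idx_3 hr hf hK
  rw [hb, ← h8]
  simp only [Finset.prod_range_succ, Finset.prod_range_zero, one_mul] at h6
  norm_num only at h6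
  simp only [pr_cons, pr_nil, pow_one, mul_one]
  generalize (PJ CoxeterMatrix.E₈.toCoxeterSystem hpE8.isCartan (TT chevE8 K) (XX chevE8 8 K) {i | i ≠ 3}).index = idx
  generalize r ^ f = q at *
  rw [pow_one] at h6
  calc idx * (a * (d * (d' * d''))) * (t * t' * t'' * (q ^ 3 - 1) * (q ^ 2 - 1) * (q ^ 5 - 1) * r ^ b) =
      a * r ^ b * idx * (d * t) * (d' * t') * (d'' * t'') * ((q ^ 3 - 1) * (q ^ 2 - 1) * (q ^ 5 - 1)) := by ring
    _ = _ := by rw [h2, h4, h6]; ring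

include hr hf hK in
/-- the character of `E₇(q)` for `J = A₂A₁A₃` -/
theorem exists_e7_big : ∃ χ : ↥(chevE7.group K) → ℂ, IsIrrCharacter _ χ ∧ ∃ N a t t' t'' b : ℕ, 0 < a ∧ χ 1 = (N : ℂ) ∧
    t ∣ 3 ∧ t' ∣ r ^ f - 1 ∧ t'' ∣ r ^ f - 1 ∧
    N * (t * t' * t'' * ((r ^ f) ^ 3 - 1) * ((r ^ f) ^ 2 - 1) * ((r ^ f) ^ 4 - 1) * r ^ b) =
      a * (r ^ f - 1) ^ 2 * Nat.gcd 2 (r ^ f - 1) * Nat.card ↥(chevE7.group K) := by
  have := finite_group (K := K) chevE7
  have D := data_E7_3 hr hf hK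
  have hb : Nat.gcd 2 (r ^ f - 1) * Nat.card ↥(chevE7.group K) =
      r ^ (f * 63) * pr (r ^ f) [2, 6, 8, 10, 12, 14, 18] := by
    have h3 := Cfsg.Agent.S1064.result hK
    rw [pow_mul]
    simp only [pr_cons, pr_nil]
    rw [h3]
    ring
  obtain ⟨χ, hχ, a, d, t, d', t', d'', t'', ha, h1, h2, h3, h4, h5, h6, h7⟩ := exists_big D (k₀ := 2) (k₁ := 0)
    (k₂ := 1) compl7 (fun i hi i' hi' => or7a i (by simpa using hi) i' (by simpa using hi'))
    (fun i hi i' hi' => or7b i (by simpa using hi) i' (by simpa using hi')) (by decide +kernel) (by decide +kernel)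
    (by decide +kernel) (by decide +kernel) un7 rfl rfl (by norm_num) k7 hk7 range_k7 0 rfl
  refine ⟨χ, hχ, _, a, t, t', t'', f * 63, ha, h1, h3, h5.trans (Nat.gcd_dvd_right _ _),
    h7.trans (Nat.gcd_dvd_right _ _), ?_⟩
  have h8 := H505.Cop.E7Num.idx_3 hr hf hK
  rw [mul_assoc (a * (r ^ f - 1) ^ 2), hb, ← h8]
  simp only [Finset.prod_range_succ, Finset.prod_range_zero, one_mul] at h6
  norm_num only at h6
  simp only [pr_cons, pr_nil, pow_one, mul_one]
  generalize (PJ CoxeterMatrix.E₇.toCoxeterSystem hpE7.isCartan (TT chevE7 K) (XX chevE7 7 K) {i | i ≠ 3}).index = idx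
  generalize r ^ (f * 63) = rb
  generalize r ^ f = q at *
  rw [pow_one] at h6
  calc idx * (a * (d * (d' * d''))) * (t * t' * t'' * (q ^ 3 - 1) * (q ^ 2 - 1) * (q ^ 4 - 1) * rb) =
      a * rb * idx * (d * t) * (d' * t') * (d'' * t'') * ((q ^ 3 - 1) * (q ^ 2 - 1) * (q ^ 4 - 1)) := by ring
    _ = _ := by rw [h2, h4, h6]; ring

include hr hf hK hp in
/-- **`E₈(q)`**, `p ∤ q`, `p ∤ q² - 1`. -/
theorem e8_dz (hpr : p ≠ r) (h2 : ¬ p ∣ (r ^ f) ^ 2 - 1) : HasDZ p ↥(chevE8.group K) := by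
  have := finite_group (K := K) chevE8
  have hpr' : ¬ p ∣ r := fun h4 => hpr ((Nat.prime_dvd_prime_iff_eq hp hr).1 h4)
  have h1 : ¬ p ∣ r ^ f - 1 := fun h => h2 (dvd_pow_of (d := 1) (by rwa [pow_one]) (one_dvd 2))
  have hq : 2 ≤ r ^ f := two_le hr hf
  have hrb : ∀ b, ¬ p ∣ r ^ b := fun b h => hpr' (hp.dvd_of_dvd_pow h)
  by_cases h8 : p ∣ (r ^ f) ^ 8 - 1
  · obtain ⟨χ, hχ, N, a, t, t', t'', b, ha, e1, ht, ht', ht'', e2⟩ := exists_e8_big hr hf hK
    have hq1 : (r ^ f - 1) ^ 2 ≠ 0 := pow_ne_zero _ (by omega)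
    have h3' : ¬ p ∣ (r ^ f) ^ 3 - 1 := fun h => h1 (by have := dvd_gcd_pow h8 h; norm_num only [_root_.pow_one] at this; exact this)
    have h5' : ¬ p ∣ (r ^ f) ^ 5 - 1 := fun h => h1 (by have := dvd_gcd_pow h8 h; norm_num only [_root_.pow_one] at this; exact this)
    have hp3 : ¬ p ∣ t := by
      intro h
      have h6 : p = 3 := (Nat.prime_dvd_prime_iff_eq hp Nat.prime_three).1 (h.trans ht)
      subst h6
      -- `3 ∣ q ^ 2 - 1`
      apply h2
      have h7 : ¬ 3 ∣ r ^ f := fun h => hpr' (hp.dvd_of_dvd_pow h)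
      generalize r ^ f = q at *
      have h9 : q % 3 = 1 ∨ q % 3 = 2 := by omega
      rcases h9 with h9 | h9
      · have : q ^ 2 % 3 = 1 := by rw [Nat.pow_mod, h9]
        (clear * - h1 h9; omega)
      · have : q ^ 2 % 3 = 1 := by rw [Nat.pow_mod, h9]
        (clear * - this; omega)
    refine hasDZ_of' hχ e1 e2 (Nat.mul_ne_zero ha.ne' hq1) ?_
    simp only [hp.dvd_mul, not_or]
    exact ⟨⟨⟨⟨⟨⟨hp3, fun h => h1 (h.trans ht')⟩, fun h => h1 (h.trans ht'')⟩, h3'⟩, h2⟩, h5'⟩, hrb b⟩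
  · obtain ⟨χ, hχ, N, a, t, b, ha, e1, ht, e2⟩ := exists_e8 hr hf hK
    refine hasDZ_of' hχ e1 e2 ha.ne' ?_
    simp only [hp.dvd_mul, not_or]
    exact ⟨⟨fun h => h1 (h.trans ht), h8⟩, hrb b⟩

include hr hf hK hp in
/-- **`E₇(q)`**, `p ∤ q`, `p ∤ q - 1`. -/
theorem e7_dz (hpr : p ≠ r) (h1 : ¬ p ∣ r ^ f - 1) : HasDZ p ↥(chevE7.group K) := by
  have := finite_group (K := K) chevE7
  have hpr' : ¬ p ∣ r := fun h4 => hpr ((Nat.prime_dvd_prime_iff_eq hp hr).1 h4)
  have hq : 2 ≤ r ^ f := two_le hr hf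
  have hrb : ∀ b, ¬ p ∣ r ^ b := fun b h => hpr' (hp.dvd_of_dvd_pow h)
  have hg : Nat.gcd 2 (r ^ f - 1) ≠ 0 := by
    intro h
    rw [Nat.gcd_eq_zero_iff] at h
    omega
  by_cases h7 : p ∣ (r ^ f) ^ 7 - 1
  · obtain ⟨χ, hχ, N, a, t, t', t'', b, ha, e1, ht, ht', ht'', e2⟩ := exists_e7_big hr hf hK
    have hq1 : (r ^ f - 1) ^ 2 ≠ 0 := pow_ne_zero _ (by omega)
    have h2' : ¬ p ∣ (r ^ f) ^ 2 - 1 := fun h => h1 (by have := dvd_gcd_pow h7 h; norm_num only [_root_.pow_one] at this; exact this)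
    have h3' : ¬ p ∣ (r ^ f) ^ 3 - 1 := fun h => h1 (by have := dvd_gcd_pow h7 h; norm_num only [_root_.pow_one] at this; exact this)
    have h4' : ¬ p ∣ (r ^ f) ^ 4 - 1 := fun h => h1 (by have := dvd_gcd_pow h7 h; norm_num only [_root_.pow_one] at this; exact this)
    have hp3 : ¬ p ∣ t := by
      intro h
      have h6 : p = 3 := (Nat.prime_dvd_prime_iff_eq hp Nat.prime_three).1 (h.trans ht)
      subst h6
      apply h2'
      have h7 : ¬ 3 ∣ r ^ f := fun h => hpr' (hp.dvd_of_dvd_pow h)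
      generalize r ^ f = q at *
      have h9 : q % 3 = 1 ∨ q % 3 = 2 := by omega
      rcases h9 with h9 | h9
      · have : q ^ 2 % 3 = 1 := by rw [Nat.pow_mod, h9]
        (clear * - this; omega)
      · have : q ^ 2 % 3 = 1 := by rw [Nat.pow_mod, h9]
        (clear * - this; omega)
    refine hasDZ_of' hχ e1 e2 (Nat.mul_ne_zero (Nat.mul_ne_zero ha.ne' hq1) hg) ?_
    simp only [hp.dvd_mul, not_or]
    exact ⟨⟨⟨⟨⟨⟨hp3, fun h => h1 (h.trans ht')⟩, fun h => h1 (h.trans ht'')⟩, h3'⟩, h2'⟩, h4'⟩, hrb b⟩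
  · obtain ⟨χ, hχ, N, a, t, b, ha, e1, ht, e2⟩ := exists_e7 hr hf hK
    refine hasDZ_of' hχ e1 e2 (Nat.mul_ne_zero ha.ne' hg) ?_
    simp only [hp.dvd_mul, not_or]
    exact ⟨⟨fun h => h1 (h.trans (ht.trans (Nat.gcd_dvd_right _ _))), h7⟩, hrb b⟩

include hr hf hK in
/-- **`E₇(q)`**, `q ≡ 3 mod 4`, `p = 2`. -/
theorem e7_dz_two (h3 : r ^ f % 4 = 3) : HasDZ 2 ↥(chevE7.group K) := by
  have := finite_group (K := K) chevE7
  have hr2 : ¬ 2 ∣ r := by
    intro h
    have : 2 ∣ r ^ f := dvd_pow h hf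
    omega
  have hg : Nat.gcd 2 (r ^ f - 1) = 2 := Nat.gcd_eq_left (by omega)
  obtain ⟨χ, hχ, N, a, t, b, ha, e1, ht, e2⟩ := exists_e7 hr hf hK
  rw [hg] at e2
  have h7 : (r ^ f) ^ 7 % 4 = 3 := by rw [Nat.pow_mod, h3]
  obtain ⟨c, hc⟩ : ∃ c, (r ^ f) ^ 7 - 1 = 2 * c := ⟨((r ^ f) ^ 7 - 1) / 2, by omega⟩
  have hc2 : ¬ 2 ∣ c := by omega
  have ht2 : ¬ 2 ∣ t := by
    intro h
    have := (h.trans ht).trans (Nat.gcd_dvd_left _ _)
    omega
  rw [hc] at e2
  have e3 : N * (t * c * r ^ b) = a * Nat.card ↥(chevE7.group K) := by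
    apply Nat.eq_of_mul_eq_mul_left (show 0 < 2 by norm_num)
    calc 2 * (N * (t * c * r ^ b)) = N * (t * (2 * c) * r ^ b) := by ring
      _ = _ := by rw [e2]; ring
  refine hasDZ_of' hχ e1 e3 ha.ne' ?_
  simp only [Nat.prime_two.dvd_mul, not_or]
  exact ⟨⟨ht2, hc2⟩, fun h => hr2 (Nat.prime_two.dvd_of_dvd_pow h)⟩

end split

end Cfsg.Agent.H622.Van
end

-- part: H526/Van/F4Dz
section
/-!
# S4555 and S4559: `F₄(q)`, `q` of order at least three modulo `p` (helper526)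

* `dz_F4_phi` : the principal series character of degree `q² Φ₃² Φ₆² Φ₁₂` is of `p`-defect zero, `p ∤ q⁸ - 1`;
* `dz_F4_big` : a Harish-Chandra induced character for `J = A₁ ∪ A₂`, `p ∤ q² - 1`, `p ∤ q³ - 1`;
* `vOrdP_F4_ge` : the row.
-/

set_option autoImplicit false
set_option maxHeartbeats 1000000

namespace Cfsg.Agent.H526.Van

open Cfsg Cfsg.Lie Cfsg.Agent.Nodes Cfsg.Agent.H53.HC Cfsg.Agent.H53.HC.ExcRows Cfsg.Agent.H35.ExcIdx
  Cfsg.Agent.H35.PoinNum
open Cfsg.Agent.Nodes.RGDChev Cfsg.Agent.ChevalleyStructure.CoxeterGeomTypes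
open CoxeterSystem Cfsg.Agent.ChevalleyStructure.CoxeterGeom Cfsg.Agent.Tits.Roots Cfsg.Agent.Tits.Core
  Cfsg.Agent.Tits.Exchange Cfsg.Agent.Nodes.Reps Cfsg.Agent.Nodes.BNOf Cfsg.Agent.Nodes.StabComb
open Cfsg.Agent.Characters Cfsg.Agent.Nodes.LeviDec Cfsg.Agent.H730.Sq.Typ Cfsg.Agent.H730.Sq.Tab24
  Cfsg.Agent.H730.Sq.Rank Cfsg.Agent.H730.Sq Cfsg.Agent.H531.Sq Cfsg.Agent.H665.NoPQ Cfsg.Agent.H620.PNorm
  Cfsg.Agent.H353.IMC

universe u

variable {K : Type u} [Field K] [Fintype K] {r f : ℕ} (hr : r.Prime) (hf : f ≠ 0)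
  (hK : Fintype.card K = r ^ f) [CharP K r]

theorem phi_arith {q b : ℕ} (hq : 2 ≤ q) :
    (q ^ 2 * (q ^ 2 + q + 1) ^ 2 * ((q * (q - 1) + 1) ^ 2 * (q ^ 2 * ((q - 1) * (q + 1)) + 1))) *
      (b * ((q ^ 2 - 1) ^ 4 * ((q ^ 2 + 1) ^ 2 * (q ^ 4 + 1)))) = (q ^ 2 * b) * PF q := by
  obtain ⟨x, rfl⟩ := Nat.exists_eq_add_of_le hq
  have e0 : 2 + x - 1 = 1 + x := by omega
  have e1 : (2 + x) ^ 2 - 1 = (1 + x) * (3 + x) := by
    apply Nat.sub_eq_of_eq_add; ring
  have e2 : (2 + x) ^ 6 - 1 = (1 + x) * (3 + x) * ((2 + x) ^ 4 + (2 + x) ^ 2 + 1) := by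
    apply Nat.sub_eq_of_eq_add; ring
  have e3 : (2 + x) ^ 8 - 1 = (1 + x) * (3 + x) * ((2 + x) ^ 2 + 1) * ((2 + x) ^ 4 + 1) := by
    apply Nat.sub_eq_of_eq_add; ring
  have e4 : (2 + x) ^ 12 - 1 = (1 + x) * (3 + x) * ((2 + x) ^ 4 + (2 + x) ^ 2 + 1) * ((2 + x) ^ 6 + 1) := by
    apply Nat.sub_eq_of_eq_add; ring
  unfold PF
  rw [e1, e2, e3, e4, e0]
  ring

include hr hf hK in
/-- order `3`, `6`, `12` -/
theorem dz_F4_phi {p : ℕ} (hp : p.Prime) (hpr : ¬ p ∣ r) (h8 : ¬ p ∣ (r ^ f) ^ 8 - 1) :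
    HasDZ p ↥(chevF4.group K) := by
  have hfg : Finite ↥(chevF4.group K) := ExcRows.finite_group (K := K) chevF4
  have h2 : 2 ≤ r ^ f := two_le hr hf
  have D := data_F4_1 hr hf hK
  have := D.fin
  obtain ⟨χ, hχ, h⟩ := exists_char D.rgd D.gg DB rfl rfl rfl DB_lv DB_pair (q := r ^ f) (Q := r ^ f) (by omega) (by omega)
    (fun i => by
      rw [D.size i]
      fin_cases i <;> rfl)
  have hS := (index_f1 hr hf hK).2
  have hq0 : ¬ p ∣ r ^ f := fun h => hpr (hp.dvd_of_dvd_pow h)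
  have hrb : r ^ (f * 24) = (r ^ f) ^ 24 := pow_mul _ _ _
  rw [hrb] at hS
  set q := r ^ f with hq
  have c1 : (q : ℂ) ≠ 0 := by rw [Nat.cast_ne_zero]; omega
  have c3 : (1 : ℂ) + (q : ℂ) ^ 2 * q ≠ 0 := by
    have : ((1 + q ^ 2 * q : ℕ) : ℂ) ≠ 0 := by rw [Nat.cast_ne_zero]; omega
    push_cast at this; exact this
  have c4 : (q : ℂ) ^ 2 + q + 1 ≠ 0 := by
    have : ((q ^ 2 + q + 1 : ℕ) : ℂ) ≠ 0 := by rw [Nat.cast_ne_zero]; omega
    push_cast at this; exact this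
  have h5 := deg_F c1 c3 c4
  have h6 : V2 (q : ℂ) (q : ℂ) ≠ 0 := by
    intro h0
    rw [h0, mul_zero] at h
    exact V_ne h.symm
  have h7 : χ 1 = (q : ℂ) ^ 2 * ((q : ℂ) ^ 2 + q + 1) ^ 2 * (((q : ℂ) ^ 2 - q + 1) ^ 2 * ((q : ℂ) ^ 4 - (q : ℂ) ^ 2 + 1)) :=
    mul_right_cancel₀ h6 (h.trans h5.symm)
  have h8' : χ 1 = ((q ^ 2 * (q ^ 2 + q + 1) ^ 2 * ((q * (q - 1) + 1) ^ 2 * (q ^ 2 * ((q - 1) * (q + 1)) + 1)) : ℕ) : ℂ) := by
    rw [h7]
    have hxq : ((q - 1 : ℕ) : ℂ) = q - 1 := by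
      rw [Nat.cast_sub (by omega)]; norm_num
    push_cast
    rw [hxq]
    ring
  refine H622.Van.hasDZ_of' hχ h8' (x := q ^ 22 * ((q ^ 2 - 1) ^ 4 * ((q ^ 2 + 1) ^ 2 * (q ^ 4 + 1)))) (y := 1) ?_
    one_ne_zero ?_
  · rw [phi_arith h2, hS]
    ring
  · have f8 : q ^ 8 - 1 = (q ^ 2 - 1) * (q ^ 2 + 1) * (q ^ 4 + 1) := by
      obtain ⟨x, hx⟩ := Nat.exists_eq_add_of_le h2
      rw [hx]
      have e1 : (2 + x) ^ 2 - 1 = (1 + x) * (3 + x) := by
        apply Nat.sub_eq_of_eq_add; ring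
      rw [e1]
      apply Nat.sub_eq_of_eq_add; ring
    rw [f8] at h8
    intro h9
    rcases hp.dvd_mul.1 h9 with h9 | h9
    · exact hq0 (hp.dvd_of_dvd_pow h9)
    rcases hp.dvd_mul.1 h9 with h9 | h9
    · exact h8 (Dvd.dvd.mul_right (Dvd.dvd.mul_right (hp.dvd_of_dvd_pow h9) _) _)
    rcases hp.dvd_mul.1 h9 with h9 | h9
    · exact h8 (Dvd.dvd.mul_right (Dvd.dvd.mul_left (hp.dvd_of_dvd_pow h9) _) _)
    · exact h8 (Dvd.dvd.mul_left h9 _)

include hr hf hK in
/-- order `4`, `6`, `8`, `12` -/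
theorem dz_F4_big {p : ℕ} (hp : p.Prime) (hpr : ¬ p ∣ r) (h2' : ¬ p ∣ (r ^ f) ^ 2 - 1) (h3 : ¬ p ∣ (r ^ f) ^ 3 - 1) :
    HasDZ p ↥(chevF4.group K) := by
  have hfg : Finite ↥(chevF4.group K) := ExcRows.finite_group (K := K) chevF4
  have h2 : 2 ≤ r ^ f := two_le hr hf
  have D := data_F4_1 hr hf hK
  have := D.fin
  obtain ⟨χ, k, d, t, hχ, hχ1, hdt, ht⟩ := H53.DZ.idx_of_one D (K' := {0}) compl4b
    (fun i hi i' hi' => or4b i (by simpa using hi) i' (by simpa using hi')) (by decide +kernel) (by decide +kernel)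
    (by decide +kernel) un4b
    (H622.Levi.inA2 D.rgd (by decide +kernel) (D.size 2))
    (in_node D 0 1 (by decide +kernel))
  obtain ⟨hidx, hS⟩ := index_f1 hr hf hK
  have hq0 : ¬ p ∣ r ^ f := fun h => hpr (hp.dvd_of_dvd_pow h)
  have hN : χ 1 = (((PJ CoxeterMatrix.F₄.toCoxeterSystem hpF4.isCartan (TT chevF4 K) (XX chevF4 4 K)
      {j | j ≠ 1}).index * (k * d) : ℕ) : ℂ) := by
    rw [hχ1]; push_cast; ring
  have hkd : k * d ≠ 0 := by
    intro h0
    apply Core.isIrr_apply_one_ne_zero hχ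
    rw [hN, h0, mul_zero, Nat.cast_zero]
  have hrb : r ^ (f * 24) = (r ^ f) ^ 24 := pow_mul _ _ _
  rw [hrb] at hS
  refine H622.Van.hasDZ_of' hχ hN (x := (r ^ f) ^ 24 * (((r ^ f - 1) * ((r ^ f - 1) * ((r ^ f) ^ 2 - 1))) *
    (((r ^ f) ^ 2 - 1) * ((r ^ f) ^ 2 + r ^ f + 1)))) (y := k * d) ?_ hkd ?_
  · rw [hS, PF_eq h2, ← hidx]
    ring
  · have n1 : ¬ p ∣ r ^ f - 1 := fun h => h2' (h.trans (by simpa only [_root_.one_pow] using Nat.sub_dvd_pow_sub_pow (r ^ f) 1 2))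
    have n3 : ¬ p ∣ (r ^ f) ^ 2 + r ^ f + 1 := by
      intro h
      apply h3
      have : (r ^ f) ^ 3 - 1 = ((r ^ f) ^ 2 + r ^ f + 1) * (r ^ f - 1) := by
        obtain ⟨x, hx⟩ := Nat.exists_eq_add_of_le h2
        rw [hx]
        have e1 : 2 + x - 1 = 1 + x := by omega
        rw [e1]
        apply Nat.sub_eq_of_eq_add; ring
      rw [this]
      exact Dvd.dvd.mul_right h _
    intro h9
    rcases hp.dvd_mul.1 h9 with h9 | h9
    · exact hq0 (hp.dvd_of_dvd_pow h9)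
    rcases hp.dvd_mul.1 h9 with h9 | h9
    · rcases hp.dvd_mul.1 h9 with h9 | h9
      · exact n1 h9
      rcases hp.dvd_mul.1 h9 with h9 | h9
      · exact n1 h9
      · exact h2' h9
    rcases hp.dvd_mul.1 h9 with h9 | h9
    · exact h2' h9
    · exact n3 h9

include hr hf hK in
/-- **`F₄(q)`**, `q` of order at least three modulo `p` -/
theorem dz_F4 {p : ℕ} (hp : p.Prime) (hpr : ¬ p ∣ r) (h2' : ¬ p ∣ (r ^ f) ^ 2 - 1) : HasDZ p ↥(chevF4.group K) := by
  by_cases h3 : p ∣ (r ^ f) ^ 3 - 1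
  · refine dz_F4_phi hr hf hK hp hpr fun h8 => h2' ?_
    have h := H622.Van.dvd_gcd_pow h3 h8
    norm_num only [_root_.pow_one] at h
    exact h.trans (by simpa only [_root_.one_pow] using Nat.sub_dvd_pow_sub_pow (r ^ f) 1 2)
  · exact dz_F4_big hr hf hK hp hpr h2' h3

end Cfsg.Agent.H526.Van
end
end

-- part: H526/Van/Asm
section
prune_inst 0x410101111142202000004000000006281500000000000840004010a04020080000900880001200109582000000004000811100000020000000020040000040000188000003041000004001e000000010000000000000000000000000000000000004010000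
set_option linter.all false
open scoped Cfsg.Agent.FastGrp

-- part: H526/Van/RowsT
section
/-!
# T1 rows: `E₈(q)`, `E₇(q)`, `E₆(q)`, `F₄(q)` (`q` odd), `p ∣ q - 1` (`p` odd) or `p = 2`, `4 ∣ q - 1` (helper526)
-/

set_option autoImplicit false
set_option linter.unusedSectionVars false

open Cfsg

namespace Cfsg.Agent.H526.Van

open Cfsg.Lie Cfsg.Agent.ChevalleyStructure Cfsg.Agent.ChevalleyStructure.CoxeterGeomTypes
open Cfsg.Agent.Nodes Cfsg.Agent.Nodes.RGDChev Cfsg.Agent.H35.ExcIdx Cfsg.Agent.H62.PPChev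
open Cfsg.Agent.H53.HC Cfsg.Agent.H53.HC.ExcRows Cfsg.Agent.H53.HC.ExcIM Cfsg.Agent.H620.PNorm

universe u

theorem chk_E8 : Chk chevE8 [2, 3, 4, 6, 5, 4, 3, 2] ((7 : Fin 8) : ℕ) = true := by (delta Cfsg.Agent.H526.Van.Chk Cfsg.Agent.H526.Van.expo; rewrite [Cfsg.Agent.ChevFast.E8.cartan]; decide +kernel)
theorem chk_E7 : Chk chevE7 [2, 2, 3, 4, 3, 2, 1] ((0 : Fin 7) : ℕ) = true := by (delta Cfsg.Agent.H526.Van.Chk Cfsg.Agent.H526.Van.expo; rewrite [Cfsg.Agent.ChevFast.E7.cartan]; decide +kernel)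
theorem chk_E6 : Chk chevE6 [1, 2, 2, 3, 2, 1] ((1 : Fin 6) : ℕ) = true := by (delta Cfsg.Agent.H526.Van.Chk Cfsg.Agent.H526.Van.expo; rewrite [Cfsg.Agent.ChevFast.E6.cartan]; decide +kernel)
theorem chk_F4 : Chk chevF4 [1, 2, 3, 2] ((3 : Fin 4) : ℕ) = true := by (delta Cfsg.Agent.H526.Van.Chk Cfsg.Agent.H526.Van.expo; rewrite [Cfsg.Agent.ChevFast.F4.cartan]; decide +kernel)

theorem num_E8 : num chevE8 ((7 : Fin 8) : ℕ) ≠ num chevE8 ((3 : Fin 8) : ℕ) := by decide +kernel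
theorem num_E7 : num chevE7 ((0 : Fin 7) : ℕ) ≠ num chevE7 ((3 : Fin 7) : ℕ) := by decide +kernel
theorem num_E6 : num chevE6 ((1 : Fin 6) : ℕ) ≠ num chevE6 ((3 : Fin 6) : ℕ) := by decide +kernel
theorem num_F4 : num chevF4 ((3 : Fin 4) : ℕ) ≠ num chevF4 ((2 : Fin 4) : ℕ) := by decide +kernel

variable {K : Type} [Field K] [Fintype K] {r f : ℕ} (hr : r.Prime) (hf : f ≠ 0) (hK : Fintype.card K = r ^ f) [CharP K r]

include hr hf hK in
theorem in_E8 : In hpE8.isCartan (XX chevE8 8 K) {3}ᶜ := by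
  have := finite_group (K := K) chevE8
  have D := data_E8_3 hr hf hK
  have h1 : In hpE8.isCartan (XX chevE8 8 K) ({2, 0} ∪ ({1} ∪ {4, 5, 6, 7})) := by
    obtain ⟨θ, hθ, -⟩ := in_A2 D (k₀ := 2) (k₁ := 0) (by decide +kernel) rfl
    refine In.union D ⟨θ, hθ⟩ (In.union D (in_node D 1 3 (by decide +kernel))
      (by rw [← range_k8]; exact in_chain D (by norm_num) k8 hk8) ?_) ?_
    · intro i hi i' hi'
      exact or8b i (by simpa using hi) i' (by simpa using hi')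
    · intro i hi i' hi'
      exact or8a i (by simpa using hi) i' (by simpa only [_root_.Fin.isValue, _root_.List.mem_cons, _root_.List.not_mem_nil, _root_.or_false, _root_.Set.union_insert, _root_.Set.union_singleton, _root_.Set.mem_insert_iff, _root_.Set.mem_singleton_iff] using hi')
  rw [← compl8] at h1
  exact h1

include hr hf hK in
theorem in_E7 : In hpE7.isCartan (XX chevE7 7 K) {3}ᶜ := by
  have := finite_group (K := K) chevE7
  have D := data_E7_3 hr hf hK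
  have h1 : In hpE7.isCartan (XX chevE7 7 K) ({2, 0} ∪ ({1} ∪ {4, 5, 6})) := by
    obtain ⟨θ, hθ, -⟩ := in_A2 D (k₀ := 2) (k₁ := 0) (by decide +kernel) rfl
    refine In.union D ⟨θ, hθ⟩ (In.union D (in_node D 1 3 (by decide +kernel))
      (by rw [← range_k7]; exact in_chain D (by norm_num) k7 hk7) ?_) ?_
    · intro i hi i' hi'
      exact or7b i (by simpa using hi) i' (by simpa using hi')
    · intro i hi i' hi'
      exact or7a i (by simpa using hi) i' (by simpa using hi')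
  rw [← compl7] at h1
  exact h1

include hr hf hK in
theorem in_E6 : In hpE6.isCartan (XX chevE6 6 K) {3}ᶜ := by
  have := finite_group (K := K) chevE6
  have D := data_E6_3 hr hf hK
  have h1 : In hpE6.isCartan (XX chevE6 6 K) ({2, 0} ∪ ({4, 5} ∪ {1})) := by
    obtain ⟨θ, hθ, -⟩ := in_A2 D (k₀ := 2) (k₁ := 0) (by decide +kernel) rfl
    obtain ⟨θ', hθ', -⟩ := in_A2 D (k₀ := 4) (k₁ := 5) (by decide +kernel) rfl
    refine In.union D ⟨θ, hθ⟩ (In.union D ⟨θ', hθ'⟩ (in_node D 1 3 (by decide +kernel)) ?_) ?_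
    · intro i hi i' hi'
      exact or6b i (by simpa using hi) i' (by simpa using hi')
    · intro i hi i' hi'
      exact or6a i (by simpa using hi) i' (by simpa using hi')
  rw [← compl6] at h1
  exact h1

include hr hf hK in
theorem in_F4 : In hpF4.isCartan (XX chevF4 4 K) {2}ᶜ := by
  have := finite_group (K := K) chevF4
  have D := data_F4_2 hr hf hK
  have h1 : In hpF4.isCartan (XX chevF4 4 K) ({1, 0} ∪ {3}) := by
    obtain ⟨θ, hθ, -⟩ := in_A2 D (k₀ := 1) (k₁ := 0) (by decide +kernel) rfl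
    refine In.union D ⟨θ, hθ⟩ (in_node D 3 2 (by decide +kernel)) ?_
    intro i hi i' hi'
    exact or4 i (by simpa using hi) i' (by simpa using hi')
  rw [← compl4] at h1
  exact h1

/-! ### the rows -/

variable {F : Type} [Field F] [Fintype F]

theorem vOrdP_E8 (hs : IsSimpleGroup ↥(chevE8.group F)) {p : ℕ} [hp : Fact p.Prime] (h2 : p ≠ 2)
    (hd : p ∣ Fintype.card F - 1) : VOrdP p ↥(chevE8.group F) := by
  obtain ⟨r, f, hr, hf, hF, hch⟩ := exists_prime_pow F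
  have : Fact r.Prime := ⟨hr⟩
  exact vOrdP_tor (j := 7) (k := 3) hpE8 r (data_E8_3 hr hf hF).fin (in_E8 hr hf hF) num_E8 chk_E8 h2 hd

theorem vPow_E8 (hs : IsSimpleGroup ↥(chevE8.group F)) (hd : 4 ∣ Fintype.card F - 1) : VPow 2 ↥(chevE8.group F) := by
  obtain ⟨r, f, hr, hf, hF, hch⟩ := exists_prime_pow F
  have : Fact r.Prime := ⟨hr⟩
  exact vPow_tor (j := 7) (k := 3) hpE8 r (data_E8_3 hr hf hF).fin (in_E8 hr hf hF) num_E8 chk_E8 hd

theorem vOrdP_E7 (hs : IsSimpleGroup ↥(chevE7.group F)) {p : ℕ} [hp : Fact p.Prime] (h2 : p ≠ 2)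
    (hd : p ∣ Fintype.card F - 1) : VOrdP p ↥(chevE7.group F) := by
  obtain ⟨r, f, hr, hf, hF, hch⟩ := exists_prime_pow F
  have : Fact r.Prime := ⟨hr⟩
  exact vOrdP_tor (j := 0) (k := 3) hpE7 r (data_E7_3 hr hf hF).fin (in_E7 hr hf hF) num_E7 chk_E7 h2 hd

theorem vPow_E7 (hs : IsSimpleGroup ↥(chevE7.group F)) (hd : 4 ∣ Fintype.card F - 1) : VPow 2 ↥(chevE7.group F) := by
  obtain ⟨r, f, hr, hf, hF, hch⟩ := exists_prime_pow F
  have : Fact r.Prime := ⟨hr⟩
  exact vPow_tor (j := 0) (k := 3) hpE7 r (data_E7_3 hr hf hF).fin (in_E7 hr hf hF) num_E7 chk_E7 hd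

theorem vOrdP_E6 (hs : IsSimpleGroup ↥(chevE6.group F)) {p : ℕ} [hp : Fact p.Prime] (h2 : p ≠ 2)
    (hd : p ∣ Fintype.card F - 1) : VOrdP p ↥(chevE6.group F) := by
  obtain ⟨r, f, hr, hf, hF, hch⟩ := exists_prime_pow F
  have : Fact r.Prime := ⟨hr⟩
  exact vOrdP_tor (j := 1) (k := 3) hpE6 r (data_E6_3 hr hf hF).fin (in_E6 hr hf hF) num_E6 chk_E6 h2 hd

theorem vPow_E6 (hs : IsSimpleGroup ↥(chevE6.group F)) (hd : 4 ∣ Fintype.card F - 1) : VPow 2 ↥(chevE6.group F) := by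
  obtain ⟨r, f, hr, hf, hF, hch⟩ := exists_prime_pow F
  have : Fact r.Prime := ⟨hr⟩
  exact vPow_tor (j := 1) (k := 3) hpE6 r (data_E6_3 hr hf hF).fin (in_E6 hr hf hF) num_E6 chk_E6 hd

/-- also for `q` even -/
theorem vOrdP_F4 (hs : IsSimpleGroup ↥(chevF4.group F)) {p : ℕ} [hp : Fact p.Prime] (h2 : p ≠ 2)
    (hd : p ∣ Fintype.card F - 1) : VOrdP p ↥(chevF4.group F) := by
  obtain ⟨r, f, hr, hf, hF, hch⟩ := exists_prime_pow F
  have : Fact r.Prime := ⟨hr⟩
  exact vOrdP_tor (j := 3) (k := 2) hpF4 r (data_F4_2 hr hf hF).fin (in_F4 hr hf hF) num_F4 chk_F4 h2 hd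

theorem vPow_F4 (hs : IsSimpleGroup ↥(chevF4.group F)) (hd : 4 ∣ Fintype.card F - 1) : VPow 2 ↥(chevF4.group F) := by
  obtain ⟨r, f, hr, hf, hF, hch⟩ := exists_prime_pow F
  have : Fact r.Prime := ⟨hr⟩
  exact vPow_tor (j := 3) (k := 2) hpF4 r (data_F4_2 hr hf hF).fin (in_F4 hr hf hF) num_F4 chk_F4 hd

end Cfsg.Agent.H526.Van
end

-- part: H526/Van/TwE6
section
/-!
# T1 for `²E₆(q)`, `p ∣ q - 1` (helper526)
-/

set_option autoImplicit false
set_option linter.unusedSectionVars false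

open Cfsg

namespace Cfsg.Agent.H526.Van

open Cfsg.Lie Cfsg.Agent.ChevalleyStructure Cfsg.Agent.ChevalleyStructure.Elts
  Cfsg.Agent.ChevalleyStructure.RootVec Cfsg.Agent.ChevalleyStructure.RootVecTab
  Cfsg.Agent.ChevalleyStructure.NPerm Cfsg.Agent.ChevalleyStructure.CoxeterGeomTypes
open Cfsg.Agent.Nodes Cfsg.Agent.Nodes.RGDChev Cfsg.Agent.H35.ExcIdx Cfsg.Agent.H62.PPChev
open CoxeterSystem Cfsg.Agent.ChevalleyStructure.CoxeterGeom Cfsg.Agent.Tits.Roots Cfsg.Agent.Tits.Core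
  Cfsg.Agent.Tits.Exchange Cfsg.Agent.Nodes.Reps Cfsg.Agent.Nodes.BNOf Cfsg.Agent.Nodes.StabComb
  Cfsg.Agent.Nodes.Bruhat Cfsg.Agent.Nodes.OppDec Cfsg.Agent.Nodes.LeviDec
open Cfsg.Agent.ChevalleyStructure.TwE6Basic (hE6)
open Cfsg.Agent.ChevalleyStructure.TwE6BN

universe u

namespace TwE6

variable {K : Type u} [Field K] {q : ℕ}

section pair

variable {i : Fin 4} {j j' : ℕ} (C : PairOK.{u} i j j')
include C

theorem nG_pair (t : K) : nG hE6 j t * nG hE6 j' t = (xG hE6 j t * xG hE6 j' t) *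
    (xG hE6 (chevE6.neg j) (-t⁻¹) * xG hE6 (chevE6.neg j') (-t⁻¹)) * (xG hE6 j t * xG hE6 j' t) := by
  rw [nG_def, nG_def]
  have h1 : xG hE6 j t * xG hE6 j' t = xG hE6 j' t * xG hE6 j t := (C.comm1 t t).symm
  have h2 : xG hE6 j t * xG hE6 (chevE6.neg j') (-t⁻¹) = xG hE6 (chevE6.neg j') (-t⁻¹) * xG hE6 j t :=
    (C.comm2 t (-t⁻¹)).symm
  have h3 : xG hE6 (chevE6.neg j) (-t⁻¹) * xG hE6 j' t = xG hE6 j' t * xG hE6 (chevE6.neg j) (-t⁻¹) :=
    (C.comm3 (-t⁻¹) t).symm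
  calc xG hE6 j t * (xG hE6 (chevE6.neg j) (-t⁻¹) * xG hE6 j t) *
        (xG hE6 j' t * (xG hE6 (chevE6.neg j') (-t⁻¹) * xG hE6 j' t))
      = xG hE6 j t * xG hE6 (chevE6.neg j) (-t⁻¹) * (xG hE6 j t * xG hE6 j' t) *
          xG hE6 (chevE6.neg j') (-t⁻¹) * xG hE6 j' t := by group
    _ = xG hE6 j t * xG hE6 (chevE6.neg j) (-t⁻¹) * (xG hE6 j' t * xG hE6 j t) *
          xG hE6 (chevE6.neg j') (-t⁻¹) * xG hE6 j' t := by rw [h1]
    _ = xG hE6 j t * (xG hE6 (chevE6.neg j) (-t⁻¹) * xG hE6 j' t) *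
          (xG hE6 j t * xG hE6 (chevE6.neg j') (-t⁻¹)) * xG hE6 j' t := by group
    _ = xG hE6 j t * (xG hE6 j' t * xG hE6 (chevE6.neg j) (-t⁻¹)) *
          (xG hE6 (chevE6.neg j') (-t⁻¹) * xG hE6 j t) * xG hE6 j' t := by rw [h2, h3]
    _ = _ := by group

theorem nG_pair_mem {φ : K →+* K} (hφ : ∀ t, φ t = t ^ q) {t : K} (ht : t ^ q = t) :
    nG hE6 j t * nG hE6 j' t ∈ twistedE6 K q := by
  have h0 : φ t = t := by rw [hφ, ht]
  have h1 : (-t⁻¹) ^ q = -t⁻¹ := by rw [← hφ, map_neg, map_inv₀, h0]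
  have h2 := C.pos_mem_G (q := q) t
  rw [ht] at h2
  have h3 := C.neg_mem_G (q := q) (-t⁻¹)
  rw [h1] at h3
  rw [nG_pair C]
  exact mul_mem (mul_mem h2 h3) h2

theorem hG_pair_mem {φ : K →+* K} (hφ : ∀ t, φ t = t ^ q) {t : K} (ht : t ^ q = t) :
    hG hE6 j t * hG hE6 j' t ∈ twistedE6 K q := by
  have h1 : (-1 : K) ^ q = -1 := by rw [← hφ, map_neg, map_one]
  have e : hG hE6 j t * hG hE6 j' t = (nG hE6 j t * nG hE6 j' t) * (nG hE6 j (-1) * nG hE6 j' (-1)) := by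
    rw [hG_def, hG_def]
    have h2 : nG hE6 j' t * nG hE6 j (-1) = nG hE6 j (-1) * nG hE6 j' t := C.commN (-1) t
    calc nG hE6 j t * nG hE6 j (-1) * (nG hE6 j' t * nG hE6 j' (-1))
        = nG hE6 j t * (nG hE6 j (-1) * nG hE6 j' t) * nG hE6 j' (-1) := by group
      _ = nG hE6 j t * (nG hE6 j' t * nG hE6 j (-1)) * nG hE6 j' (-1) := by rw [h2]
      _ = _ := by group
  rw [e]
  exact mul_mem (nG_pair_mem C hφ ht) (nG_pair_mem C hφ h1)

end pair

theorem hG_single_mem {i : Fin 4} {j : ℕ} (C : SingleOK.{u} i j) {φ : K →+* K} (hφ : ∀ t, φ t = t ^ q) {t : K}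
    (ht : t ^ q = t) : hG hE6 j t ∈ twistedE6 K q := by
  have key : ∀ t : K, t ^ q = t → nG hE6 j t ∈ twistedE6 K q := by
    intro t ht
    have h0 : φ t = t := by rw [hφ, ht]
    have h1 : (-t⁻¹) ^ q = -t⁻¹ := by rw [← hφ, map_neg, map_inv₀, h0]
    rw [nG_def]
    exact mul_mem (C.pos_mem_G ht) (mul_mem (C.neg_mem_G h1) (C.pos_mem_G ht))
  rw [hG_def]
  exact mul_mem (key t ht) (key _ (by rw [← hφ, map_neg, map_one]))

/-- the exponents: the coroot of the highest root -/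
def c : ℕ → ℤ := fun i => ([1, 2, 2, 3, 2, 1] : List ℤ).getD i 0

/-- the order of the nodes -/
def L : List ℕ := [0, 5, 2, 4, 1, 3]

theorem L_lt : ∀ i ∈ L, i < chevE6.rank := by decide +kernel

theorem tor_mem {φ : K →+* K} (hφ : ∀ t, φ t = t ^ q) {s : Kˣ} (hs : s ^ q = s) : torL hE6 L c s ∈ twistedE6 K q := by
  have h0 : ∀ m : ℤ, ((s ^ m : Kˣ) : K) ^ q = ((s ^ m : Kˣ) : K) := by
    intro m
    rw [← Units.val_pow_eq_pow_val]
    congr 1
    rw [← zpow_natCast, zpow_comm, zpow_natCast, hs]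
  have e0 : chevE6.simple 0 = 56 := by decide +kernel
  have e5 : chevE6.simple 5 = 36 := by decide +kernel
  have e2 : chevE6.simple 2 = 42 := by decide +kernel
  have e4 : chevE6.simple 4 = 37 := by decide +kernel
  have e1 : chevE6.simple 1 = 46 := by decide +kernel
  have e3 : chevE6.simple 3 = 39 := by decide +kernel
  have h1 := hG_pair_mem pair3 hφ (h0 1)
  have h2 := hG_pair_mem pair2 hφ (h0 2)
  have h3 := hG_single_mem single0 hφ (h0 2)
  have h4 := hG_single_mem single1 hφ (h0 3)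
  have e : torL hE6 L c s = (hG hE6 56 ((s ^ (1 : ℤ) : Kˣ) : K) * hG hE6 36 ((s ^ (1 : ℤ) : Kˣ) : K)) *
      (hG hE6 42 ((s ^ (2 : ℤ) : Kˣ) : K) * hG hE6 37 ((s ^ (2 : ℤ) : Kˣ) : K)) *
      hG hE6 46 ((s ^ (2 : ℤ) : Kˣ) : K) * hG hE6 39 ((s ^ (3 : ℤ) : Kˣ) : K) := by
    unfold torL L
    simp only [List.map_cons, List.map_nil, List.prod_cons, List.prod_nil, mul_one, e0, e1, e2, e3, e4, e5]
    have c0 : c 0 = 1 := rfl
    have c1 : c 1 = 2 := rfl
    have c2 : c 2 = 2 := rfl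
    have c3 : c 3 = 3 := rfl
    have c4 : c 4 = 2 := rfl
    have c5 : c 5 = 1 := rfl
    rw [c0, c1, c2, c3, c4, c5]
    group
  rw [e]
  exact mul_mem (mul_mem (mul_mem h1 h2) h3) h4

/-- all exponents on the radical of the parabolic of `{1}ᶜ` are 1 or 2 -/
theorem chk : ∀ ρ < chevE6.nroots, 0 < rt chevE6 ρ 1 →
    (L.map fun i => c i * chevE6.cartan i ρ).sum = 1 ∨ (L.map fun i => c i * chevE6.cartan i ρ).sum = 2 := by
  (rewrite [Cfsg.Agent.ChevFast.E6.cartan]; decide +kernel)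

theorem L_mem_diagonal (s : Kˣ) : torL hE6 L c s ∈ chevE6.diagonalSubgroup K :=
  torL_mem_diagonal RGDTwE6.hp L_lt c s

/-- the torus element of the twisted group -/
def tT {φ : K →+* K} (hφ : ∀ t, φ t = t ^ q) {s : Kˣ} (hs : s ^ q = s) : ↥(twistedE6 K q) :=
  ⟨torL hE6 L c s, tor_mem hφ hs⟩

theorem tT_mem {φ : K →+* K} (hφ : ∀ t, φ t = t ^ q) {s : Kˣ} (hs : s ^ q = s) : tT hφ hs ∈ RGDTwE6.T K q := by
  refine Subgroup.mem_subgroupOf.2 ⟨L_mem_diagonal s, tor_mem hφ hs⟩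

/-- no fixed points on the radical of the parabolic subgroup of `E₆` -/
theorem cent_E6 [Fintype K] {s : Kˣ} (hs : s ≠ 1) (hs2 : s ^ 2 ≠ 1) (u : ↥(chevE6.group K))
    (hu : u ∈ VJ CoxeterMatrix.E₆.toCoxeterSystem RGDTwE6.hp.isCartan (XX chevE6 6 K) {1}ᶜ)
    (hc : torL hE6 L c s * (u : GL chevE6.Idx K) = (u : GL chevE6.Idx K) * torL hE6 L c s) : u = 1 := by
  classical
  obtain ⟨r, hr⟩ := CharP.exists K
  have : Fact r.Prime := ⟨CharP.char_is_prime K r⟩
  have R := rgd (K := K) RGDTwE6.hp CoxeterMatrix.E₆.toCoxeterSystem r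
  have : Finite CoxeterMatrix.E₆.Group := by
    obtain ⟨f, hr', hF⟩ := FiniteField.card K r
    exact (data_E6_3 (K := K) hr' f.ne_zero hF).fin
  let t : ↥(chevE6.group K) := ⟨torL hE6 L c s, diagonal_le_group hE6 K (L_mem_diagonal s)⟩
  have ht : t ∈ TT chevE6 K := Subgroup.mem_subgroupOf.2 (L_mem_diagonal s)
  refine cent_VJ R ht ?_ u hu (Subtype.ext hc)
  rintro x ⟨hx, -, i, hi, hi0⟩ v hv hcv
  obtain ⟨ρ, hρ, rfl⟩ := (isRoot_iff RGDTwE6.hp CoxeterMatrix.E₆.toCoxeterSystem x).1 hx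
  have hij : i = 1 := by
    by_contra hne
    exact hi (by simpa using hne)
  subst hij
  have hv' : (v : GL chevE6.Idx K) ∈ chevE6.rootSubgroup K ρ := by
    rw [← XV_vec RGDTwE6.hp K hρ]
    exact hv
  obtain ⟨a, ha⟩ := (mem_rootSubgroup_iff hE6 ρ _).1 hv'
  set e := (L.map fun i => c i * chevE6.cartan i ρ).sum with he
  have h1 : xG hE6 ρ (((s ^ e : Kˣ) : K) * a) = xG hE6 ρ a := by
    have h2 := torL_mul_xG hE6 c s hρ L L_lt a
    have h3 : torL hE6 L c s * (v : GL chevE6.Idx K) = (v : GL chevE6.Idx K) * torL hE6 L c s :=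
      congrArg Subtype.val hcv
    rw [ha, h2] at h3
    exact mul_right_cancel h3
  have h4 := xG_injective hE6 hρ h1
  have h5 : (((s ^ e : Kˣ) : K) - 1) * a = 0 := by linear_combination h4
  have h6 : s ^ e ≠ 1 := by
    rcases chk ρ hρ (by simpa [vec_apply] using hi0) with h8 | h8
    · rw [he, h8, zpow_one]; exact hs
    · rw [he, h8]
      intro h9
      exact hs2 (by exact_mod_cast h9)
  rcases mul_eq_zero.1 h5 with h7 | h7
  · exfalso
    apply h6
    apply Units.ext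
    rw [Units.val_one]
    exact sub_eq_zero.1 h7
  · subst h7
    apply Subtype.ext
    rw [ha, xG_zero]
    rfl

/-- the radical of the twisted group lies in that of `E₆` -/
theorem VJ_le (φ : K →+* K) : VJ CoxeterMatrix.F₄.toCoxeterSystem RGDTwE6.isCartan (RGDTwE6.X φ q) {0}ᶜ ≤
    ((VJ CoxeterMatrix.E₆.toCoxeterSystem RGDTwE6.hp.isCartan (XX chevE6 6 K) {1}ᶜ).map
      (chevE6.group K).subtype).comap (twistedE6 K q).subtype := by
  refine RGD.Sup_le ?_
  rintro z ⟨hz, -, i, hi, hi0⟩ g hg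
  have hi' : i = 0 := by
    by_contra hne
    exact hi (by simpa using hne)
  subst hi'
  rw [Subgroup.mem_comap]
  have h1 : (g : GL chevE6.Idx K) ∈ RGDFold.R chevE6 RGDTwE6.hp K RGDTwE6.J (TwE6Basic.sg φ) z := hg
  have h2 := (Subgroup.mem_inf.1 h1).1
  refine (Subgroup.closure_le _).2 ?_ h2
  rintro _ ⟨ρ, ⟨hρ, hV⟩, a, rfl⟩
  refine ⟨⟨xG hE6 ρ a, xG_mem_group hE6 ρ a⟩, ?_, rfl⟩
  have hroot : IsRoot CoxeterMatrix.E₆.toCoxeterSystem RGDTwE6.hp.isCartan (vec chevE6 6 ρ) :=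
    isRoot_vec RGDTwE6.hp _ hρ
  have hpos : 0 < vec chevE6 6 ρ 1 := by
    have h3 := congrFun hV 0
    have h4 : RGDFold.V chevE6 RGDTwE6.J ρ 0 = rt chevE6 ρ 1 := by
      simp [RGDFold.V, RGDTwE6.J]
    rw [h4] at h3
    rw [vec_apply]
    change 0 < rt chevE6 ρ 1
    rw [h3]
    exact hi0
  refine RGD.le_Sup (S := NotJ CoxeterMatrix.E₆.toCoxeterSystem RGDTwE6.hp.isCartan {1}ᶜ)
    (z := vec chevE6 6 ρ) ⟨hroot, nonneg_of_pos_apply hroot (k := 1) hpos, 1, by simp, hpos⟩ ?_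
  rw [Subgroup.mem_subgroupOf, XV_vec RGDTwE6.hp K hρ]
  exact xG_mem_rootSubgroup hE6 ρ a

/-- no fixed points on the radical of the twisted group -/
theorem cent_tw [Fintype K] {φ : K →+* K} (hφ : ∀ t, φ t = t ^ q) {s : Kˣ} (hsq : s ^ q = s) (hs : s ≠ 1)
    (hs2 : s ^ 2 ≠ 1) :
    ∀ v ∈ VJ CoxeterMatrix.F₄.toCoxeterSystem RGDTwE6.isCartan (RGDTwE6.X φ q) {0}ᶜ,
      tT hφ hsq * v = v * tT hφ hsq → v = 1 := by
  intro v hv hc
  obtain ⟨u, hu, huv⟩ := VJ_le φ hv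
  have huv' : (u : GL chevE6.Idx K) = (v : GL chevE6.Idx K) := huv
  have h1 := cent_E6 hs hs2 u hu (by
    rw [huv']
    exact congrArg Subtype.val hc)
  apply Subtype.ext
  rw [← huv', h1]
  rfl

open Cfsg.Agent.H53.HC Cfsg.Agent.H53.HC.ExcRows Cfsg.Agent.H53.HC.ExcIM Cfsg.Agent.H620.PNorm
open Cfsg.Agent.H62.PPTwist.E6 (w w_refl nodup_LF4)

theorem sum_ne : ((Cfsg.Agent.ParSys.RootExc.LF4.filter fun v => 0 < v 0).map w).sum ≠
    ((Cfsg.Agent.ParSys.RootExc.LF4.filter fun v => 0 < v 2).map w).sum := by decide +kernel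

section rows

variable {K : Type} [Field K] {q : ℕ} {r f : ℕ} (hr : r.Prime) (hf : f ≠ 0) (hq : q = r ^ f) [Fintype K] [CharP K r]
  {φ : K →+* K} (hφ : ∀ x, φ x = x ^ q) (hqq : ∀ t : K, (t ^ q) ^ q = t) (hK : Fintype.card K = q ^ 2)

theorem finite_tw : Finite ↥(twistedE6 K q) := by
  have : Finite (GL chevE6.Idx K) := by
    have : Finite (Matrix chevE6.Idx chevE6.Idx K) := inferInstance
    infer_instance
  infer_instance

include hr hf hq hqq hK hφ in
theorem vz {s : Kˣ} (hsq : s ^ q = s) (hs : s ≠ 1) (hs2 : s ^ 2 ≠ 1) : H713.VZ ↥(twistedE6 K q) (tT hφ hsq) ∧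
    ∃ a b : ↥(twistedE6 K q), a * b ≠ b * a := by
  have : Finite ↥(twistedE6 K q) := finite_tw
  have : Fact r.Prime := ⟨hr⟩
  have D := data_TwE6_2 hr hf hq hφ hqq hK
  have := D.fin
  have hq1 : 1 < q := by rw [hq]; exact two_le hr hf
  have hIn : In RGDTwE6.isCartan (RGDTwE6.X φ q) {2}ᶜ := by
    have h1 : In RGDTwE6.isCartan (RGDTwE6.X φ q) ({1, 0} ∪ {3}) := by
      obtain ⟨θ, hθ, -⟩ := in_A2 D (k₀ := 1) (k₁ := 0) (by decide +kernel) rfl
      refine In.union D ⟨θ, hθ⟩ (in_node D 3 2 (by decide +kernel)) ?_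
      intro i hi i' hi'
      exact or4 i (by simpa using hi) i' (by simpa using hi')
    rw [← compl4] at h1
    exact h1
  have cX := Cfsg.Agent.GpExc.TwCard.card_simple hφ hqq hq1 hK
  have hcV := fun i => H62.PPTwist.card_VJ D.rgd (L := Cfsg.Agent.ParSys.RootExc.LF4)
    Cfsg.Agent.ParSys.RootExc.posRoots_F4 nodup_LF4 (q := q) w w_refl
    (by
      intro i
      rw [cX i]
      congr 1
      revert i
      decide +kernel) i
  refine ⟨vz_of_cusp (K := {2}ᶜ) (J := {0}ᶜ) D.rgd D.gg hIn (Or.inr ⟨?_, ?_⟩)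
    (LJ_le_PJ (T_le_LJ (tT_mem hφ hsq))) (cent_tw hφ hsq hs hs2), ?_⟩
  · rw [Set.ncard_compl, Set.ncard_compl, Set.ncard_singleton, Set.ncard_singleton]
  · rw [hcV 0, hcV 2]
    intro h3
    exact sum_ne (Nat.pow_right_injective hq1 h3)
  · have h1 : 1 < Nat.card (RGDTwE6.X φ q (sr 0)) := by
      rw [D.size 0]
      change 1 < fE q 0
      exact hq1
    have h2 : RGDTwE6.X φ q (sr 0) ≠ ⊥ := (Subgroup.one_lt_card_iff_ne_bot _).1 h1
    obtain ⟨⟨v, hv⟩, hv0⟩ := (Subgroup.ne_bot_iff_exists_ne_one).1 h2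
    have hv1 : v ≠ 1 := fun h => hv0 (Subtype.ext h)
    refine ⟨tT hφ hsq, v, fun hc => hv1 (cent_tw hφ hsq hs hs2 v ?_ hc)⟩
    refine RGD.le_Sup (S := NotJ CoxeterMatrix.F₄.toCoxeterSystem RGDTwE6.isCartan {0}ᶜ) (z := sr 0)
      ⟨isRoot_sr _ _ 0, sr_nonneg 0, 0, by simp, by rw [sr_self]; norm_num⟩ hv

include hr hf hq hqq hK hφ in
theorem vOrdP_aux (hs : IsSimpleGroup ↥(twistedE6 K q)) {p : ℕ} [hp : Fact p.Prime] (h2 : p ≠ 2) (hd : p ∣ q - 1) :
    VOrdP p ↥(twistedE6 K q) := by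
  have : Finite ↥(twistedE6 K q) := finite_tw
  have hd' : p ∣ Fintype.card K - 1 := by
    rw [hK]
    have := Nat.sub_dvd_pow_sub_pow q 1 2
    rw [one_pow] at this
    exact hd.trans this
  have hq1 : 1 < q := by rw [hq]; exact two_le hr hf
  obtain ⟨s, hsp⟩ := exists_unit_order hd'
  obtain ⟨hs1, hs2⟩ := unit_ne h2 hsp
  have hsq : s ^ q = s := by
    have h3 : s ^ (q - 1) = 1 := orderOf_dvd_iff_pow_eq_one.1 (by rw [hsp]; exact hd)
    obtain ⟨m, hm⟩ : ∃ m, q = m + 1 := ⟨q - 1, by omega⟩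
    rw [hm] at h3 ⊢
    rw [Nat.add_sub_cancel] at h3
    rw [pow_succ, h3, one_mul]
  obtain ⟨hvz, hna⟩ := vz hr hf hq hφ hqq hK hsq hs1 hs2
  refine vOrdP_of_pow (eq_one_of_center hna ?_) hvz
  rw [Subgroup.mem_center_iff]
  intro g
  apply Subtype.ext
  exact torL_pow_comm hE6 L_lt c s (by rw [← hsp, pow_orderOf_eq_one]) g.1 (H898.NotIn.twisted_le_group q g.2)

include hr hf hq hqq hK hφ in
theorem vPow_aux (hs : IsSimpleGroup ↥(twistedE6 K q)) (hd : 4 ∣ q - 1) : VPow 2 ↥(twistedE6 K q) := by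
  have : Finite ↥(twistedE6 K q) := finite_tw
  have hd' : 4 ∣ Fintype.card K - 1 := by
    rw [hK]
    have := Nat.sub_dvd_pow_sub_pow q 1 2
    rw [one_pow] at this
    exact hd.trans this
  have hq1 : 1 < q := by rw [hq]; exact two_le hr hf
  obtain ⟨s, hsp⟩ := exists_unit_four hd'
  obtain ⟨hs1, hs2⟩ := unit_ne_four hsp
  have hsq : s ^ q = s := by
    have h3 : s ^ (q - 1) = 1 := orderOf_dvd_iff_pow_eq_one.1 (by rw [hsp]; exact hd)
    obtain ⟨m, hm⟩ : ∃ m, q = m + 1 := ⟨q - 1, by omega⟩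
    rw [hm] at h3 ⊢
    rw [Nat.add_sub_cancel] at h3
    rw [pow_succ, h3, one_mul]
  obtain ⟨hvz, hna⟩ := vz hr hf hq hφ hqq hK hsq hs1 hs2
  refine vPow_two_of_pow (eq_one_of_center hna ?_) hvz
  rw [Subgroup.mem_center_iff]
  intro g
  apply Subtype.ext
  exact torL_pow_comm hE6 L_lt c s (by rw [← hsp, pow_orderOf_eq_one]) g.1 (H898.NotIn.twisted_le_group q g.2)

end rows

end TwE6

open Cfsg.Agent.H53.HC.ExcIM Cfsg.Agent.H620.PNorm

/-- the parameters of `²E₆(q)` -/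
theorem exists_param {K : Type} [Field K] [Fintype K] {q : ℕ} (hq : IsPrimePow q) (hK : Fintype.card K = q ^ 2) :
    ∃ (r f : ℕ), r.Prime ∧ f ≠ 0 ∧ q = r ^ f ∧ CharP K r := by
  obtain ⟨r, f, hr, hf, hqf⟩ := (isPrimePow_nat_iff q).1 hq
  refine ⟨r, f, hr, hf.ne', hqf.symm, ?_⟩
  obtain ⟨r', g, hr', hg, hK', hch⟩ := exists_prime_pow K
  have h1 : r' = r := by
    have h2 : r' ∣ r ^ (f * 2) := by
      rw [pow_mul, hqf, ← hK, hK']
      exact dvd_pow_self _ hg
    exact (Nat.prime_dvd_prime_iff_eq hr' hr).1 (hr'.dvd_of_dvd_pow h2)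
  rwa [h1] at hch

theorem vOrdP_TwE6 {K : Type} [Field K] [Fintype K] {q : ℕ} (hq : IsPrimePow q) (hK : Fintype.card K = q ^ 2)
    (hs : IsSimpleGroup ↥(twistedE6 K q)) {p : ℕ} [hp : Fact p.Prime] (h2 : p ≠ 2) (hd : p ∣ q - 1) :
    VOrdP p ↥(twistedE6 K q) := by
  obtain ⟨r, f, hr, hf, hqf, hch⟩ := exists_param hq hK
  obtain ⟨φ, hφ, hqq⟩ := Cfsg.Agent.ChevalleyStructure.TwE6Basic.exists_frob hq hK
  exact TwE6.vOrdP_aux hr hf hqf hφ hqq hK hs h2 hd

theorem vPow_TwE6 {K : Type} [Field K] [Fintype K] {q : ℕ} (hq : IsPrimePow q) (hK : Fintype.card K = q ^ 2)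
    (hs : IsSimpleGroup ↥(twistedE6 K q)) (hd : 4 ∣ q - 1) : VPow 2 ↥(twistedE6 K q) := by
  obtain ⟨r, f, hr, hf, hqf, hch⟩ := exists_param hq hK
  obtain ⟨φ, hφ, hqq⟩ := Cfsg.Agent.ChevalleyStructure.TwE6Basic.exists_frob hq hK
  exact TwE6.vPow_aux hr hf hqf hφ hqq hK hs hd

end Cfsg.Agent.H526.Van
end

-- part: H928/Van/Scal
section
/-!
# Elements of `GL(V)` with a scalar power (S4555, S4559, helper928)

* `scalar_of_irreducible'` : `F` finite, `dim V = n` prime, `f ^ N` scalar, `N` prime to `(q ^ n - 1) / (q - 1)`: if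
  `minpoly f` is irreducible then `f` is scalar;
* `scalar_or_free'` : `f` is scalar or has a free subspace.
-/

set_option autoImplicit false

namespace Cfsg.Agent.H928.Van

open Module Polynomial Cfsg.Agent.H928.Imc

universe u v

variable {F : Type u} [Field F] [Finite F] {V : Type v} [AddCommGroup V] [Module F V] [FiniteDimensional F V]

theorem scalar_of_irreducible' {n : ℕ} (hn : n.Prime) (hV : finrank F V = n) (f : V →ₗ[F] V)
    {N : ℕ} {l : F} (hl : l ≠ 0) (hf : f ^ N = l • (1 : V →ₗ[F] V))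
    (hc : N.Coprime ((Nat.card F ^ n - 1) / (Nat.card F - 1))) (hirr : Irreducible (minpoly F f)) :
    ∃ c : F, f = c • LinearMap.id := by
  classical
  have hint : IsIntegral F f := Algebra.IsIntegral.isIntegral f
  have hmon := minpoly.monic hint
  have hq : 2 ≤ Nat.card F := Finite.one_lt_card
  -- linear minimal polynomial
  have hlin : ∀ c : F, minpoly F f ∣ X - C c → ∃ c : F, f = c • LinearMap.id := by
    intro c hd
    refine ⟨c, ?_⟩
    obtain ⟨P, hP⟩ := hd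
    have h1 : aeval f (X - C c) = 0 := by rw [hP, map_mul, minpoly.aeval, zero_mul]
    rw [map_sub, aeval_X, aeval_C, sub_eq_zero] at h1
    rw [h1]
    rfl
  have : Fact (Irreducible (minpoly F f)) := ⟨hirr⟩
  let K := AdjoinRoot (minpoly F f)
  let V' := Module.AEval' f
  have htor : Module.IsTorsionBySet F[X] V' (Ideal.span {minpoly F f} : Ideal F[X]) := by
    rw [Module.isTorsionBySet_span_singleton_iff]
    intro v
    change minpoly F f • v = 0
    obtain ⟨w, rfl⟩ := (Module.AEval'.of f).surjective v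
    have h1 := Module.AEval.of_aeval_smul (R := F) (M := V) (a := f) (minpoly F f) w
    rw [minpoly.aeval, zero_smul, map_zero] at h1
    exact h1.symm
  let _ : Module K V' := htor.module
  have htow : IsScalarTower F K V' := Module.IsTorsionBySet.isScalarTower htor
  have hfV' : finrank F V' = n := by
    rw [← hV]
    exact (LinearEquiv.finrank_eq (Module.AEval'.of f)).symm
  have hfin : Module.Finite F V' := Module.Finite.equiv (Module.AEval'.of f)
  have hKfin : Module.Finite F K := (AdjoinRoot.powerBasis hirr.ne_zero).finite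
  have hKfin' : Finite K := Module.finite_of_finite F
  have hVK : Module.Finite K V' := Module.Finite.of_restrictScalars_finite F K V'
  have hmul : finrank F K * finrank K V' = n := by rw [← hfV']; exact Module.finrank_mul_finrank F K V'
  have hdeg : finrank F K = (minpoly F f).natDegree := by
    rw [(AdjoinRoot.powerBasis hirr.ne_zero).finrank, AdjoinRoot.powerBasis_dim]
  rcases (Nat.dvd_prime hn).1 (Dvd.intro _ hmul) with h1 | h1
  · -- degree one
    rw [hdeg] at h1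
    obtain ⟨c, hc'⟩ : ∃ c : F, minpoly F f = X - C c := by
      refine ⟨-(minpoly F f).coeff 0, ?_⟩
      rw [C_neg, sub_neg_eq_add]
      have h2 := hmon.as_sum
      rw [h1] at h2
      rw [h2]
      simp
    exact hlin c (by rw [hc'])
  · -- degree `n`
    exfalso
    have hnot : ∀ c : F, ¬ minpoly F f ∣ X - C c := by
      intro c hd
      have h3 := Polynomial.natDegree_le_of_dvd hd (X_sub_C_ne_zero c)
      rw [natDegree_X_sub_C, ← hdeg, h1] at h3
      exact absurd hn.two_le (by omega)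
    have hx : ∀ c : F, AdjoinRoot.root (minpoly F f) ≠ algebraMap F K c := by
      intro c hcon
      apply hnot c
      rw [← AdjoinRoot.mk_eq_zero, map_sub, AdjoinRoot.mk_X, AdjoinRoot.mk_C, sub_eq_zero]
      exact hcon
    set x : K := AdjoinRoot.root (minpoly F f) with hxdef
    have hxp : x ^ N = algebraMap F K l := by
      have h3 : minpoly F f ∣ X ^ N - C l := by
        apply minpoly.dvd
        rw [map_sub, map_pow, aeval_X, aeval_C, hf, sub_eq_zero]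
        rfl
      rw [← AdjoinRoot.mk_eq_zero, map_sub, map_pow, AdjoinRoot.mk_X, AdjoinRoot.mk_C, sub_eq_zero] at h3
      exact h3
    have hx0 : x ≠ 0 := by
      intro h
      exact hx 0 (by rw [map_zero]; exact h)
    have hcard : Nat.card K = Nat.card F ^ n := by
      rw [Module.natCard_eq_pow_finrank (K := F) (V := K), h1]
    let S := (Nat.card F ^ n - 1) / (Nat.card F - 1)
    have hSd : (Nat.card F - 1) * S = Nat.card F ^ n - 1 := by
      apply Nat.mul_div_cancel'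
      simpa only [_root_.one_pow] using Nat.sub_dvd_pow_sub_pow (Nat.card F) 1 n
    have hlq : l ^ (Nat.card F - 1) = 1 := by
      have h2 : (Units.mk0 l hl) ^ (Nat.card F - 1) = 1 := by
        rw [← Nat.card_units]
        exact pow_card_eq_one'
      have := congrArg Units.val h2
      rwa [Units.val_pow_eq_pow_val, Units.val_mk0, Units.val_one] at this
    let z : Kˣ := (Units.mk0 x hx0) ^ (Nat.card F - 1)
    have hz1 : z ^ N = 1 := by
      apply Units.ext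
      rw [Units.val_pow_eq_pow_val, Units.val_pow_eq_pow_val, Units.val_mk0, Units.val_one, ← pow_mul, mul_comm,
        pow_mul, hxp, ← map_pow, hlq, map_one]
    have hz2 : z ^ S = 1 := by
      rw [← pow_mul, hSd, ← hcard, ← Nat.card_units]
      exact pow_card_eq_one'
    have hz3 : z = 1 := by
      rw [← orderOf_eq_one_iff]
      exact Nat.eq_one_of_dvd_coprimes hc (orderOf_dvd_of_pow_eq_one hz1) (orderOf_dvd_of_pow_eq_one hz2)
    have hz4 : x ^ (Nat.card F - 1) = 1 := by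
      have := congrArg Units.val hz3
      rwa [Units.val_pow_eq_pow_val, Units.val_mk0, Units.val_one] at this
    have hz5 : x ^ Nat.card F = x := by
      have h2 : Nat.card F = (Nat.card F - 1) + 1 := by omega
      rw [h2, pow_succ, hz4, one_mul]
    -- `x` is a root of `X ^ q - X`
    have hF := Fintype.ofFinite F
    have hprod : (X ^ Fintype.card F - X : F[X]) = ∏ a : F, (X - C a) := by
      have h8 : (X ^ Fintype.card F - X : F[X]).Monic := by
        refine monic_X_pow_sub ?_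
        rw [degree_X]
        exact_mod_cast (Fintype.one_lt_card : 1 < Fintype.card F)
      have h9 := prod_multiset_X_sub_C_of_monic_of_roots_card_eq h8 (by
        rw [FiniteField.roots_X_pow_card_sub_X, FiniteField.X_pow_card_sub_X_natDegree_eq F Fintype.one_lt_card]
        rfl)
      rw [FiniteField.roots_X_pow_card_sub_X] at h9
      exact h9.symm
    have h6 : ∏ a : F, (x - algebraMap F K a) = 0 := by
      have h7 := congrArg (aeval x) hprod
      rw [map_sub, map_pow, aeval_X, ← Nat.card_eq_fintype_card, hz5, sub_self, map_prod] at h7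
      simp only [map_sub, aeval_X, aeval_C] at h7
      exact h7.symm
    rw [Finset.prod_eq_zero_iff] at h6
    obtain ⟨a, -, ha⟩ := h6
    exact hx a (sub_eq_zero.1 ha)

theorem scalar_or_free' [Nontrivial V] {n : ℕ} (hn : n.Prime) (hV : finrank F V = n) (f : V →ₗ[F] V)
    {N : ℕ} {l : F} (hl : l ≠ 0) (hf : f ^ N = l • (1 : V →ₗ[F] V)) (hN : (N : F) ≠ 0)
    (hc : N.Coprime ((Nat.card F ^ n - 1) / (Nat.card F - 1))) :
    (∃ c : F, f = c • LinearMap.id) ∨ ∃ W : Submodule F V, Free f W := by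
  by_cases hirr : Irreducible (minpoly F f)
  · exact Or.inl (scalar_of_irreducible' hn hV f hl hf hc hirr)
  · refine Or.inr (exists_free f ?_ hirr)
    have h1 : (X ^ N - C l : F[X]).Separable := separable_X_pow_sub_C l hN hl
    refine h1.squarefree.squarefree_of_dvd ?_
    apply minpoly.dvd
    rw [map_sub, map_pow, aeval_X, aeval_C, hf, sub_eq_zero]
    rfl

end Cfsg.Agent.H928.Van
end

-- part: H928/Van/Mk
section
/-!
# Cuspidal characters and components of type `A` (S4555, S4559, helper928)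

`mem_of_ne` : `J = range k ∪ K'`, the chain `k` of type `A_m`, `m + 1` prime, `ψ` a character of a group containing `L_J`
without fixed vectors of the radicals of the nodes of `k`; `l ∈ L_J`, `l ^ N = 1`, `N` prime to the characteristic and to
`(q ^ (m + 1) - 1) / (q - 1)`: if `ψ l ≠ 0` then `l ∈ L_K'`.
-/

set_option autoImplicit false
set_option linter.unusedSectionVars false

namespace Cfsg.Agent.H928.Van

open Cfsg Cfsg.Agent.Characters CoxeterSystem Cfsg.Agent.ChevalleyStructure.CoxeterGeom Cfsg.Agent.Tits.Roots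
  Cfsg.Agent.Tits.Core Cfsg.Agent.Tits.Exchange Cfsg.Agent.Nodes.Reps Cfsg.Agent.Nodes.BNOf Cfsg.Agent.Nodes.StabComb
  Cfsg.Agent.Nodes.Bruhat Cfsg.Agent.Nodes.OppDec Cfsg.Agent.Nodes.LeviDec
open Cfsg.Agent.LieRecognition.BNCox (cA)
open Cfsg.Agent.H622.Levi hiding MJ rad
open Cfsg.Agent.H53.HC (MJ rad rad_le_LJ rad_le_MJ MJ_le_LJ Orth mem_LJ_iff_mul')
open Cfsg.Agent.H928.Imc
open Matrix Module
open Cfsg.Agent.LieClassical.SLGen (transvection_smul smul_ext commutator_transvection transvection_induction)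
open scoped commutatorElement

universe u

section gen

/-- sums over isomorphic images -/
theorem sum_map {G H : Type*} [Group G] [Group H] (f : G →* H) (U : Subgroup G) (V : Subgroup H) (hV : ∀ v, v ∈ V ↔ ∃ g ∈ U, f g = v)
    (hinj : ∀ g ∈ U, f g = 1 → g = 1) [Fintype U] [Fintype V] (χ : H → ℂ) : ∑ v : V, χ v = ∑ g : U, χ (f g) := by
  symm
  refine Fintype.sum_bijective (fun g : U => (⟨f g, (hV _).2 ⟨g, g.2, rfl⟩⟩ : V)) ⟨?_, ?_⟩ _ _ fun g => rfl
  · intro g g' h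
    have h1 : f g = f g' := congrArg Subtype.val h
    have h2 : f ((g : G)⁻¹ * g') = 1 := by rw [map_mul, map_inv, h1, inv_mul_cancel]
    exact Subtype.ext (inv_mul_eq_one.1 (hinj _ (mul_mem (inv_mem g.2) g'.2) h2))
  · rintro ⟨v, hv⟩
    obtain ⟨g, hg, rfl⟩ := (hV v).1 hv
    exact ⟨⟨g, hg⟩, rfl⟩

end gen

section mat

variable {m : ℕ} {F : Type} [Field F]

/-- automorphisms trivial modulo the centre are trivial -/
theorem cjs_eq_of_center (hm : 2 ≤ m) (E : GL (Fin (m + 1)) F)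
    (hE : ∀ g : SpecialLinearGroup (Fin (m + 1)) F, cjs E g * g⁻¹ ∈ Subgroup.center _) (g : SpecialLinearGroup (Fin (m + 1)) F) :
    cjs E g = g := by
  have : Nontrivial (Fin (m + 1)) := Fin.nontrivial_iff_two_le.2 (by omega)
  refine transvection_induction (fun g => cjs E g = g) ?_ ?_ g
  · intro a b hab t
    obtain ⟨c, hca, hcb⟩ : ∃ c, c ≠ a ∧ c ≠ b := by
      have h1 : ({a, b} : Finset (Fin (m + 1))).card < Fintype.card (Fin (m + 1)) := by
        rw [Fintype.card_fin]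
        exact lt_of_le_of_lt Finset.card_le_two (by omega)
      obtain ⟨c, hc⟩ := Finset.exists_mem_notMem_of_card_lt_card (s := {a, b}) (t := Finset.univ)
        (by rw [Finset.card_univ]; exact h1)
      refine ⟨c, ?_, ?_⟩ <;> rintro rfl <;> exact hc.2 (by simp)
    have h1 := commutator_transvection hab hca.symm hcb t (1 : F)
    rw [mul_one] at h1
    rw [← h1, map_commutatorElement]
    set x := (SpecialLinearGroup.transvection hca.symm t : SpecialLinearGroup (Fin (m + 1)) F)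
    set y := (SpecialLinearGroup.transvection hcb (1 : F) : SpecialLinearGroup (Fin (m + 1)) F)
    have hx := Subgroup.mem_center_iff.1 (hE x)
    have hy := Subgroup.mem_center_iff.1 (hE y)
    obtain ⟨z, hz⟩ : ∃ z, z = cjs E x * x⁻¹ := ⟨_, rfl⟩
    obtain ⟨z', hz'⟩ : ∃ z', z' = cjs E y * y⁻¹ := ⟨_, rfl⟩
    rw [← hz] at hx
    rw [← hz'] at hy
    have e1 : cjs E x = z * x := by rw [hz]; group
    have e2 : cjs E y = z' * y := by rw [hz']; group
    rw [e1, e2, commutatorElement_def, commutatorElement_def]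
    calc z * x * (z' * y) * (z * x)⁻¹ * (z' * y)⁻¹ = z * ((x * z') * y * x⁻¹) * z⁻¹ * y⁻¹ * z'⁻¹ := by group
      _ = z * ((x * z') * y * x⁻¹) * z⁻¹ * (y⁻¹ * z'⁻¹) := by group
      _ = z * ((z' * x) * y * x⁻¹) * z⁻¹ * (z' * y)⁻¹ := by rw [hy x]; group
      _ = ((z' * x) * y * x⁻¹ * z) * z⁻¹ * (z' * y)⁻¹ := by rw [hx ((z' * x) * y * x⁻¹)]
      _ = (z' * (x * y * x⁻¹)) * (z' * y)⁻¹ := by group
      _ = ((x * y * x⁻¹) * z') * (z' * y)⁻¹ := by rw [hy (x * y * x⁻¹)]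
      _ = (x * y * x⁻¹) * (z' * y⁻¹ * z'⁻¹) := by rw [_root_.mul_inv_rev]; group
      _ = (x * y * x⁻¹) * (y⁻¹ * z' * z'⁻¹) := by rw [hy y⁻¹]
      _ = x * y * x⁻¹ * y⁻¹ := by group
  · intro g g' h1 h2
    rw [map_mul, h1, h2]

/-- matrices centralising `SL_n` are scalar -/
theorem scalar_of_cjs (E : GL (Fin (m + 1)) F) (hE : ∀ g : SpecialLinearGroup (Fin (m + 1)) F, cjs E g = g) :
    ∃ c : F, (E : Matrix (Fin (m + 1)) (Fin (m + 1)) F) = c • (1 : Matrix (Fin (m + 1)) (Fin (m + 1)) F) := by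
  have h1 : (E : Matrix (Fin (m + 1)) (Fin (m + 1)) F) ∈ Set.range (Matrix.scalar (Fin (m + 1))) := by
    refine Matrix.mem_range_scalar_of_commute_transvectionStruct fun t => ?_
    have h2 := congrArg Subtype.val (hE (SpecialLinearGroup.transvection t.hij t.c))
    rw [cjs_coe] at h2
    have h4 : ((E⁻¹ : GL (Fin (m + 1)) F) : Matrix (Fin (m + 1)) (Fin (m + 1)) F) *
        (E : Matrix (Fin (m + 1)) (Fin (m + 1)) F) = 1 := by
      rw [← Units.val_mul, inv_mul_cancel, Units.val_one]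
    have h3 : (E : Matrix (Fin (m + 1)) (Fin (m + 1)) F) * (SpecialLinearGroup.transvection t.hij t.c).1 =
        (SpecialLinearGroup.transvection t.hij t.c).1 * (E : Matrix (Fin (m + 1)) (Fin (m + 1)) F) := by
      obtain ⟨P, hP⟩ : ∃ P : Matrix (Fin (m + 1)) (Fin (m + 1)) F, P = (SpecialLinearGroup.transvection t.hij t.c).1 :=
        ⟨_, rfl⟩
      have h6 : (E : Matrix (Fin (m + 1)) (Fin (m + 1)) F) * P *
          ((E⁻¹ : GL (Fin (m + 1)) F) : Matrix (Fin (m + 1)) (Fin (m + 1)) F) = P := by rw [hP]; exact h2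
      have h5 : (E : Matrix (Fin (m + 1)) (Fin (m + 1)) F) * P = P * (E : Matrix (Fin (m + 1)) (Fin (m + 1)) F) := by
        calc (E : Matrix (Fin (m + 1)) (Fin (m + 1)) F) * P = ((E : Matrix (Fin (m + 1)) (Fin (m + 1)) F) * P *
            ((E⁻¹ : GL (Fin (m + 1)) F) : Matrix (Fin (m + 1)) (Fin (m + 1)) F)) * E := by rw [mul_assoc, h4, mul_one]
          _ = _ := by rw [h6]
      rw [← hP]
      exact h5
    exact h3.symm
  obtain ⟨c, hc⟩ := h1
  exact ⟨c, by rw [← hc, Matrix.scalar_apply, Matrix.smul_one_eq_diagonal]⟩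

theorem toLin'_pow (E : Matrix (Fin (m + 1)) (Fin (m + 1)) F) (N : ℕ) : Matrix.toLin' (E ^ N) = Matrix.toLin' E ^ N := by
  induction N with
  | zero => rw [pow_zero, pow_zero, Matrix.toLin'_one]; rfl
  | succ N ih => rw [pow_succ, pow_succ, Matrix.toLin'_mul, ih]; rfl

/-- stable subspaces are stable under the inverse -/
theorem stab_inv (D : GL (Fin (m + 1)) F) {W : Submodule F (Fin (m + 1) → F)}
    (hW : ∀ w ∈ W, Matrix.toLin' (D : Matrix (Fin (m + 1)) (Fin (m + 1)) F) w ∈ W) :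
    ∀ w ∈ W, Matrix.toLin' ((D⁻¹ : GL (Fin (m + 1)) F) : Matrix (Fin (m + 1)) (Fin (m + 1)) F) w ∈ W := by
  have hinv : ∀ v, Matrix.toLin' ((D⁻¹ : GL (Fin (m + 1)) F) : Matrix (Fin (m + 1)) (Fin (m + 1)) F)
      (Matrix.toLin' (D : Matrix (Fin (m + 1)) (Fin (m + 1)) F) v) = v := by
    intro v
    rw [← LinearMap.comp_apply, ← Matrix.toLin'_mul, ← Units.val_mul, inv_mul_cancel, Units.val_one, Matrix.toLin'_one]
    rfl
  have h1 : W.map (Matrix.toLin' (D : Matrix (Fin (m + 1)) (Fin (m + 1)) F)) = W := by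
    apply Submodule.eq_of_le_of_finrank_eq
    · rintro _ ⟨w, hw, rfl⟩
      exact hW w hw
    · exact (Submodule.equivMapOfInjective (Matrix.toLin' (D : Matrix (Fin (m + 1)) (Fin (m + 1)) F))
        (fun a b hab => by rw [← hinv a, hab, hinv]) W).finrank_eq.symm
  intro w hw
  rw [← h1] at hw
  obtain ⟨w', hw', rfl⟩ := hw
  rw [hinv]
  exact hw'

/-- the `D`-action on the radical of a `D`-stable subspace -/
theorem cjs_mem_radSL [Finite F] (D : GL (Fin (m + 1)) F) {W : Submodule F (Fin (m + 1) → F)}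
    (hW : ∀ w ∈ W, Matrix.toLin' (D : Matrix (Fin (m + 1)) (Fin (m + 1)) F) w ∈ W)
    {g : SpecialLinearGroup (Fin (m + 1)) F} (hg : g ∈ radSL W) : cjs D g ∈ radSL W := by
  have hinv' : ∀ v, Matrix.toLin' (D : Matrix (Fin (m + 1)) (Fin (m + 1)) F)
      (Matrix.toLin' ((D⁻¹ : GL (Fin (m + 1)) F) : Matrix (Fin (m + 1)) (Fin (m + 1)) F) v) = v := by
    intro v
    rw [← LinearMap.comp_apply, ← Matrix.toLin'_mul, ← Units.val_mul, mul_inv_cancel, Units.val_one, Matrix.toLin'_one]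
    rfl
  have hWinv := stab_inv D hW
  have hcoe : ∀ v, SpecialLinearGroup.toLin' (cjs D g) v = Matrix.toLin' (D : Matrix (Fin (m + 1)) (Fin (m + 1)) F)
      (SpecialLinearGroup.toLin' g
        (Matrix.toLin' ((D⁻¹ : GL (Fin (m + 1)) F) : Matrix (Fin (m + 1)) (Fin (m + 1)) F) v)) := by
    intro v
    change Matrix.toLin' (cjs D g).1 v = _
    rw [cjs_coe, Matrix.toLin'_mul, Matrix.toLin'_mul]
    rfl
  rw [mem_radSL] at hg ⊢
  refine ⟨fun w => ?_, fun d hd => ?_⟩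
  · rw [hcoe]
    have h1 := hW _ (hg.1 (Matrix.toLin' ((D⁻¹ : GL (Fin (m + 1)) F) : Matrix (Fin (m + 1)) (Fin (m + 1)) F) w))
    rw [map_sub, hinv'] at h1
    exact h1
  · rw [hcoe, hg.2 _ (hWinv d hd), hinv']

/-- the centre meets the radical trivially -/
theorem radSL_center [Finite F] {W : Submodule F (Fin (m + 1) → F)} (hW : W ≠ ⊥) {g : SpecialLinearGroup (Fin (m + 1)) F}
    (hg : g ∈ radSL W) (hc : g ∈ Subgroup.center _) : g = 1 := by
  obtain ⟨w, hw, hw0⟩ := W.ne_bot_iff.1 hW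
  obtain ⟨r, -, hr⟩ := Matrix.SpecialLinearGroup.mem_center_iff.1 hc
  have h1 := (mem_radSL.1 hg).2 w hw
  have h2 : SpecialLinearGroup.toLin' g w = r • w := by
    change Matrix.toLin' g.1 w = _
    rw [← hr, Matrix.scalar_apply, ← Matrix.smul_one_eq_diagonal, map_smul, Matrix.toLin'_one]
    rfl
  rw [h1] at h2
  have h3 : (1 - r) • w = 0 := by
    rw [sub_smul, one_smul, ← h2, sub_self]
  have h4 : r = 1 := by
    rcases smul_eq_zero.1 h3 with h4 | h4
    · exact (sub_eq_zero.1 h4).symm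
    · exact absurd h4 hw0
  apply Subtype.ext
  rw [← hr, h4, map_one]
  rfl

end mat

section main

variable {I W : Type*} {Y : Type u} [Fintype I] [DecidableEq I] [Group W] [Group Y] {M : CoxeterMatrix I}
  {cs : CoxeterSystem M W} {A : I → I → ℤ} {h : IsCartan M A} {p : ℕ} {T : Subgroup Y} {n : I → Y}
  {X : (I → ℤ) → Subgroup Y} [Finite W] [Finite Y] {m : ℕ} {k : Fin m ↪ I} {F : Type} [Field F] [Finite F]
  {φ : SpecialLinearGroup (Fin (m + 1)) F →* Y}

/-- **Elements outside `L_K'` with a nonzero value.** -/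
theorem mem_of_ne (R : RGD cs h p T n X) (hT : ∀ a ∈ T, ∀ b ∈ T, a * b = b * a) (C : Co X k F φ)
    (hk : ∀ i j, M (k i) (k j) = cA m i j) (hm : 2 ≤ m) (hn : (m + 1).Prime) {J K' : Set I} (hJ : J = Set.range k ∪ K')
    (ho : Orth A (Set.range k) K') {L : Subgroup Y} (hL : LJ cs h T X J ≤ L) {ψ : L → ℂ} (hψ : IsCharacter L ψ)
    (hz : ∀ i ∈ Set.range k, ∀ [Fintype (rad cs h X J i)], ∑ u : rad cs h X J i, ψ ⟨u, hL (rad_le_LJ J i u.2)⟩ = 0)
    {l : Y} (hl : l ∈ LJ cs h T X J) {N : ℕ} (hlN : l ^ N = 1) (hNF : (N : F) ≠ 0)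
    (hN : N.Coprime ((Nat.card F ^ (m + 1) - 1) / (Nat.card F - 1))) (hne : ψ ⟨l, hL hl⟩ ≠ 0) :
    l ∈ LJ cs h T X K' := by
  classical
  subst hJ
  obtain ⟨y, hy, t, ht, rfl⟩ := (mem_LJ_iff_mul' R _).1 hl
  rw [ho.MJ_union] at hy
  have hcomm := ho.comm R
  have hle : MJ cs h X (Set.range k) ≤ Subgroup.normalizer (MJ cs h X K' : Set Y) := by
    intro a ha
    rw [Subgroup.mem_normalizer_iff]
    intro b
    constructor
    · intro hb
      rw [hcomm a ha b hb, mul_inv_cancel_right]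
      exact hb
    · intro hb
      have h1 := hcomm a⁻¹ (inv_mem ha) _ hb
      have h2 : b = a * b * a⁻¹ := by
        have h3 : a⁻¹ * (a * b * a⁻¹) = (a * b * a⁻¹) * a⁻¹ := h1
        have h4 : b * a⁻¹ = (a * b * a⁻¹) * a⁻¹ := by rw [← h3]; group
        exact mul_right_cancel h4
      rw [h2]
      exact hb
  have hy' : y ∈ ((MJ cs h X (Set.range k) ⊔ MJ cs h X K' : Subgroup Y) : Set Y) := hy
  rw [Subgroup.coe_mul_of_left_le_normalizer_right _ _ hle] at hy'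
  obtain ⟨a, ha, b, hb, rfl⟩ := hy'
  have hran : φ.range = MJ cs h X (Set.range k) := C.range hk (by omega)
  have ha' : a ∈ MJ cs h X (Set.range k) := ha
  rw [← hran] at ha'
  obtain ⟨s, rfl⟩ := ha'
  obtain ⟨d, hd⟩ := lin_T C R hk hm hT ht
  have hφM : ∀ g, φ g ∈ MJ cs h X (Set.range k) := fun g => hran ▸ ⟨g, rfl⟩
  -- the linear action
  obtain ⟨D, hD⟩ : ∃ D : GL (Fin (m + 1)) F, D = SpecialLinearGroup.toGL s * dgl d := ⟨_, rfl⟩
  obtain ⟨l, hll⟩ : ∃ l : Y, l = φ s * b * t := ⟨_, rfl⟩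
  have hact : ∀ g, l * φ g * l⁻¹ = φ (cjs D g) := by
    intro g
    rw [hll, hD, cjs_mul, cjs_toGL, map_mul, map_mul, map_inv, ← hd]
    have h1 : b * (t * φ g * t⁻¹) = (t * φ g * t⁻¹) * b := by
      rw [hd]
      exact (hcomm _ (hφM _) b hb).symm
    calc φ s * b * t * φ g * (φ s * b * t)⁻¹ = φ s * (b * (t * φ g * t⁻¹)) * b⁻¹ * (φ s)⁻¹ := by group
      _ = φ s * (t * φ g * t⁻¹) * (φ s)⁻¹ := by rw [h1]; group
  have hactN : ∀ j : ℕ, ∀ g, l ^ j * φ g * (l ^ j)⁻¹ = φ (cjs (D ^ j) g) := by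
    intro j
    induction j with
    | zero => intro g; rw [pow_zero, pow_zero, cjs_one]; group
    | succ j ih =>
      intro g
      rw [cjs_pow, ← ih, ← hact, pow_succ]
      group
  rw [← hll] at hl hlN
  have hcen : ∀ g, cjs (D ^ N) g = g := by
    apply cjs_eq_of_center hm
    intro g
    apply C.ker
    rw [MonoidHom.mem_ker, map_mul, ← hactN, hlN, map_inv]
    group
  obtain ⟨c, hc⟩ := scalar_of_cjs _ hcen
  have hc0 : c ≠ 0 := by
    rintro rfl
    rw [zero_smul] at hc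
    exact (D ^ N).ne_zero hc
  have hpow : Matrix.toLin' (D : Matrix (Fin (m + 1)) (Fin (m + 1)) F) ^ N =
      c • (1 : (Fin (m + 1) → F) →ₗ[F] (Fin (m + 1) → F)) := by
    rw [← toLin'_pow, ← Units.val_pow_eq_pow_val, hc, map_smul, Matrix.toLin'_one]
    rfl
  rcases scalar_or_free' hn (finrank_fin_fun F) _ hc0 hpow hNF hN with ⟨e, he⟩ | ⟨V, hV⟩
  · -- the scalar case
    have he0 : e ≠ 0 := by
      rintro rfl
      rw [zero_smul] at he
      have h1 : (D : Matrix (Fin (m + 1)) (Fin (m + 1)) F) = 0 := by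
        apply Matrix.toLin'.injective
        rw [he, map_zero]
      exact D.ne_zero h1
    have h1 : (D : Matrix (Fin (m + 1)) (Fin (m + 1)) F) = e • (1 : Matrix (Fin (m + 1)) (Fin (m + 1)) F) := by
      apply Matrix.toLin'.injective
      rw [map_smul, Matrix.toLin'_one]
      exact he
    obtain ⟨d', hd'⟩ : ∃ d' : Fin (m + 1) → Fˣ, d' = fun i => Units.mk0 e he0 * (d i)⁻¹ := ⟨_, rfl⟩
    have h2 : s.1 = Matrix.diagonal fun i => (d' i : F) := by
      have h3 : SpecialLinearGroup.toGL s = D * (dgl d)⁻¹ := by rw [hD, mul_inv_cancel_right]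
      have h4 : s.1 = (D : Matrix (Fin (m + 1)) (Fin (m + 1)) F) * ((dgl d)⁻¹ : GL (Fin (m + 1)) F).1 :=
        congrArg Units.val h3
      rw [h4, h1, dgl_inv_coe, smul_mul_assoc, one_mul, hd']
      ext i j
      by_cases hij : i = j
      · subst hij
        rw [Matrix.smul_apply, Matrix.diagonal_apply_eq, Matrix.diagonal_apply_eq, Units.val_mul, Units.val_mk0]
        rfl
      · rw [Matrix.smul_apply, Matrix.diagonal_apply_ne _ hij, Matrix.diagonal_apply_ne _ hij, smul_zero]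
    have h3 : ∏ i, d' i = 1 := by
      apply Units.ext
      have h4 := s.2
      rw [h2, Matrix.det_diagonal] at h4
      rw [Units.coe_prod, Units.val_one]
      exact h4
    have h4 : s = dsl d' h3 := Subtype.ext h2
    have h5 : φ s ∈ T := by rw [h4]; exact dsl_mem C R hk hm d' h3
    have h6 : l = b * (φ s * t) := by
      rw [hll, hcomm _ (hφM s) b hb, mul_assoc]
    rw [hll] at h6
    rw [h6]
    exact mul_mem (MJ_le_LJ K' hb) (T_le_LJ (mul_mem h5 ht))
  · -- the free case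
    exfalso
    apply hne
    have hφL : ∀ g, φ g ∈ L := fun g => hL (MJ_le_LJ _ (by
      have h1 : MJ cs h X (Set.range k) ≤ MJ cs h X (Set.range k ∪ K') := by rw [ho.MJ_union]; exact le_sup_left
      exact h1 (hφM g)))
    let f : SpecialLinearGroup (Fin (m + 1)) F →* L := φ.codRestrict L hφL
    have hf : ∀ g, (f g : Y) = φ g := fun g => rfl
    obtain ⟨η, hη⟩ : ∃ η : SpecialLinearGroup (Fin (m + 1)) F → ℂ, η = ψ ∘ f := ⟨_, rfl⟩
    have hηc : IsCharacter _ η := by rw [hη]; exact Core.isCharacter_comp f hψ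
    have hkerU : ∀ {Z : Subgroup (SpecialLinearGroup (Fin (m + 1)) F)},
        (∀ g ∈ Z, g ∈ Subgroup.center (SpecialLinearGroup (Fin (m + 1)) F) → g = 1) → ∀ g ∈ Z, f g = 1 → g = 1 := by
      intro Z hZ g hg h1
      refine hZ g hg (C.ker ?_)
      rw [MonoidHom.mem_ker, ← hf, h1]
      rfl
    have hsUU : ∀ i : Fin m, ∀ [Fintype (UU F i)], ∑ g : UU F i, η g = 0 := by
      intro i _
      have hrad : rad cs h X (Set.range k ∪ K') (k i) = (UU F i).map φ := by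
        rw [ho.rad_eq ⟨i, rfl⟩]
        exact (C.map_UU (cs := cs) (h := h) hk i).symm
      have : Fintype (rad cs h X (Set.range k ∪ K') (k i)) := Fintype.ofFinite _
      rw [← hz (k i) ⟨i, rfl⟩]
      have hmem : ∀ g : UU F i, φ g ∈ rad cs h X (Set.range k ∪ K') (k i) := by
        intro g
        rw [hrad]
        exact ⟨g, g.2, rfl⟩
      refine Fintype.sum_bijective (fun g : UU F i => (⟨φ g, hmem g⟩ : rad cs h X (Set.range k ∪ K') (k i)))
        ⟨?_, ?_⟩ _ _ ?_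
      · intro g g' hgg
        have h2 : φ g = φ g' := congrArg Subtype.val hgg
        have h3 : (g : SpecialLinearGroup (Fin (m + 1)) F)⁻¹ * g' ∈ φ.ker := by
          rw [MonoidHom.mem_ker, map_mul, map_inv, h2, inv_mul_cancel]
        have h4 := UU_inf_center (mul_mem (inv_mem g.2) g'.2) (C.ker h3)
        exact Subtype.ext (inv_mul_eq_one.1 h4)
      · rintro ⟨y, hy⟩
        have h2 : y ∈ (UU F i).map φ := by rw [← hrad]; exact hy
        obtain ⟨g, hg, rfl⟩ := h2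
        exact ⟨⟨g, hg⟩, rfl⟩
      · intro g
        rw [hη]
        rfl
    have : Fintype (radSL V) := Fintype.ofFinite _
    have : Fintype ((radSL V).map f) := Fintype.ofFinite _
    have h0 : ∑ v : (radSL V).map f, ψ v = 0 := by
      rw [sum_map f (radSL V) ((radSL V).map f) (fun v => Iff.rfl)
        (hkerU fun g hg hc => radSL_center hV.ne_bot hg hc) ψ]
      have h1 := sum_radSL (Core.isCharacter_isClassFunction hηc) hsUU hV.ne_bot hV.ne_top
      rw [hη] at h1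
      exact h1
    have hlm : l ∈ L := hL hl
    have hfin : ψ ⟨l, hlm⟩ = 0 := by
      refine apply_eq_zero_of_free hψ ((radSL V).map f) h0 ?_ ?_
      · rintro _ ⟨g, hg, rfl⟩
        refine ⟨cjs D⁻¹ g, cjs_mem_radSL _ (stab_inv D hV.stab) hg, ?_⟩
        apply Subtype.ext
        change φ (cjs D⁻¹ g) = l⁻¹ * φ g * l
        have h1 := hact (cjs D⁻¹ g)
        rw [← cjs_mul, mul_inv_cancel, cjs_one] at h1
        rw [← h1]
        group
      · rintro _ ⟨g, hg, rfl⟩ hcm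
        have h1 : φ g * l = l * φ g := congrArg Subtype.val hcm
        have h2 : φ (cjs D g) = φ g := by
          rw [← hact, ← h1]
          group
        have h3 : cjs D g * g⁻¹ = 1 := by
          refine radSL_center hV.ne_bot (mul_mem (cjs_mem_radSL _ hV.stab hg) (inv_mem hg)) (C.ker ?_)
          rw [MonoidHom.mem_ker, map_mul, h2, map_inv, mul_inv_cancel]
        have h4 : cjs D g = g := mul_inv_eq_one.1 h3
        have h5 : (D : Matrix (Fin (m + 1)) (Fin (m + 1)) F) * g.1 = g.1 * (D : Matrix (Fin (m + 1)) (Fin (m + 1)) F) := by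
          have h6 := congrArg Subtype.val h4
          rw [cjs_coe] at h6
          have h7 : ((D⁻¹ : GL (Fin (m + 1)) F) : Matrix (Fin (m + 1)) (Fin (m + 1)) F) *
              (D : Matrix (Fin (m + 1)) (Fin (m + 1)) F) = 1 := by
            rw [← Units.val_mul, inv_mul_cancel, Units.val_one]
          calc (D : Matrix (Fin (m + 1)) (Fin (m + 1)) F) * g.1 = ((D : Matrix (Fin (m + 1)) (Fin (m + 1)) F) * g.1 *
              ((D⁻¹ : GL (Fin (m + 1)) F) : Matrix (Fin (m + 1)) (Fin (m + 1)) F)) * D := by rw [mul_assoc, h7, mul_one]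
            _ = _ := by rw [h6]
        have h8 := hV.hom ((SpecialLinearGroup.toLin' g : (Fin (m + 1) → F) →ₗ[F] (Fin (m + 1) → F)) - LinearMap.id)
          (by
            rw [LinearMap.sub_comp, LinearMap.comp_sub]
            congr 1
            change Matrix.toLin' g.1 ∘ₗ _ = _ ∘ₗ Matrix.toLin' g.1
            rw [← Matrix.toLin'_mul, ← Matrix.toLin'_mul, h5])
          (fun w hw => by
            rw [LinearMap.sub_apply, LinearMap.id_apply]
            exact sub_eq_zero.2 ((mem_radSL.1 hg).2 w hw))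
          (fun w => (mem_radSL.1 hg).1 w)
        have h9 : g = 1 := by
          apply SpecialLinearGroup.toLin'_injective
          apply LinearEquiv.ext
          intro x
          have h2 := LinearMap.congr_fun h8 x
          rw [LinearMap.sub_apply, LinearMap.id_apply, LinearMap.zero_apply, sub_eq_zero] at h2
          rw [map_one]
          exact h2
        rw [h9, map_one]
    have h1 : (⟨φ s * b * t, hL (hll ▸ hl)⟩ : L) = ⟨l, hlm⟩ := Subtype.ext hll.symm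
    exact (congrArg ψ h1).trans hfin

end main

end Cfsg.Agent.H928.Van
end

-- part: H928/Van/Crit
section
/-!
# Elliptic elements (S4555, S4559, helper928)

* `pow_eq_one_of_norm` : the elements `y` of `M_a` normalising `X_a` satisfy `y ^ ((q - 1) q) = 1`;
* `ell_one` : `x ∈ M_a`, `x ^ ((q_a - 1) q_a) ≠ 1`: `Ell {a} x`;
* `ell_two` : `x = x_a x_b`, `a`, `b` orthogonal: `Ell {a, b} x`;
* `exists_x` : an element of `M_a` for an element of `SL_2(F)`.
-/

set_option autoImplicit false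
set_option linter.unusedSectionVars false

namespace Cfsg.Agent.H928.Van

open CoxeterSystem Cfsg.Agent.ChevalleyStructure.CoxeterGeom Cfsg.Agent.Tits.Roots Cfsg.Agent.Tits.Core
  Cfsg.Agent.Tits.Exchange Cfsg.Agent.Nodes.Reps Cfsg.Agent.Nodes.BNOf Cfsg.Agent.Nodes.StabComb
  Cfsg.Agent.Nodes.Bruhat Cfsg.Agent.Nodes.OppDec Cfsg.Agent.Nodes.LeviDec
open Cfsg.Agent.LieRecognition.BNCox (cA)
open Cfsg.Agent.H622.Levi hiding MJ rad
open Cfsg.Agent.H53.HC (MJ rad Orth mem_LJ_iff_mul' MJ_le_LJ LJ_le_normalizer_MJ)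
open Cfsg.Agent.H928.Imc Cfsg.Agent.H40.PV
open Matrix

section sl2

variable {F : Type*} [Field F]

theorem tri_pow {g : SpecialLinearGroup (Fin (1 + 1)) F} (h : g.1 1 0 = 0) (n : ℕ) :
    (g ^ n).1 1 0 = 0 ∧ (g ^ n).1 0 0 = g.1 0 0 ^ n ∧ (g ^ n).1 1 1 = g.1 1 1 ^ n := by
  induction n with
  | zero =>
    rw [pow_zero, pow_zero, pow_zero]
    exact ⟨rfl, rfl, rfl⟩
  | succ n ih =>
    obtain ⟨h1, h2, h3⟩ := ih
    have e : (g ^ (n + 1)).1 = (g ^ n).1 * g.1 := by rw [pow_succ]; rfl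
    rw [e]
    refine ⟨?_, ?_, ?_⟩
    · rw [Matrix.mul_apply, Fin.sum_univ_two, h1, h, zero_mul, mul_zero, add_zero]
    · rw [Matrix.mul_apply, Fin.sum_univ_two, h, mul_zero, add_zero, h2, pow_succ]
    · rw [Matrix.mul_apply, Fin.sum_univ_two, h1, zero_mul, zero_add, h3, pow_succ]

theorem tri_pow_eq_one [Finite F] {g : SpecialLinearGroup (Fin (1 + 1)) F} (h : g.1 1 0 = 0) :
    g ^ ((Nat.card F - 1) * Nat.card F) = 1 := by
  have hdet : g.1 0 0 * g.1 1 1 = 1 := by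
    have := g.2
    rw [Matrix.det_fin_two, h, mul_zero, sub_zero] at this
    exact this
  have h00 : g.1 0 0 ≠ 0 := left_ne_zero_of_mul_eq_one hdet
  have h11 : g.1 1 1 ≠ 0 := right_ne_zero_of_mul_eq_one hdet
  have hF : ∀ x : F, x ≠ 0 → x ^ (Nat.card F - 1) = 1 := by
    intro x hx
    have h2 : (Units.mk0 x hx) ^ (Nat.card F - 1) = 1 := by
      rw [← Nat.card_units]
      exact pow_card_eq_one'
    have := congrArg Units.val h2
    rwa [Units.val_pow_eq_pow_val, Units.val_mk0, Units.val_one] at this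
  obtain ⟨h1, h2, h3⟩ := tri_pow h (Nat.card F - 1)
  rw [hF _ h00] at h2
  rw [hF _ h11] at h3
  have h4 : g ^ (Nat.card F - 1) = uu ((g ^ (Nat.card F - 1)).1 0 1) := by
    apply Subtype.ext
    ext i j
    fin_cases i <;> fin_cases j
    · exact h2
    · rfl
    · exact h1
    · exact h3
  rw [pow_mul, h4, uu_pow]
  have h5 : ((Nat.card F : ℕ) : F) = 0 := by
    have := Fintype.ofFinite F
    rw [Nat.card_eq_fintype_card]
    exact Nat.cast_card_eq_zero F
  rw [h5, zero_mul]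
  apply Subtype.ext
  ext i j
  fin_cases i <;> fin_cases j <;> rfl

/-- an element normalising the upper unitriangular matrices -/
theorem tri_of_conj {g : SpecialLinearGroup (Fin (1 + 1)) F} {b : F} (h : g * uu 1 * g⁻¹ = uu b) : g.1 1 0 = 0 := by
  have h1 : g * uu 1 = uu b * g := by rw [← h]; group
  have h2 := congrFun (congrFun (congrArg Subtype.val h1) 1) 1
  change (g.1 * !![(1 : F), 1; 0, 1]) 1 1 = (!![(1 : F), b; 0, 1] * g.1) 1 1 at h2
  rw [Matrix.mul_apply, Fin.sum_univ_two, Matrix.mul_apply, Fin.sum_univ_two] at h2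
  simpa only [_root_.Nat.reduceAdd, _root_.Fin.isValue, _root_.Matrix.of_apply, _root_.Matrix.cons_val', _root_.Matrix.cons_val_one, _root_.Matrix.cons_val_fin_one, _root_.Matrix.cons_val_zero, _root_.mul_one, _root_.MulZeroClass.zero_mul, _root_.one_mul, _root_.zero_add, _root_.add_eq_right] using h2

end sl2

section rgd

variable {I W Y : Type*} [Fintype I] [DecidableEq I] [Group W] [Group Y] {M : CoxeterMatrix I}
  {cs : CoxeterSystem M W} {A : I → I → ℤ} {h : IsCartan M A} {p : ℕ} {T : Subgroup Y} {n : I → Y}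
  {X : (I → ℤ) → Subgroup Y} [Finite W] [Finite Y] (R : RGD cs h p T n X)

include R

/-- coordinates of a node -/
theorem exists_node {a j : I} (hM : M a j = 3) : ∃ (F : Type) (_ : Field F) (_ : Fintype F)
    (f : SpecialLinearGroup (Fin (1 + 1)) F →* Y), Function.Injective f ∧ f.range = MJ cs h X {a} ∧
      (∀ x, x ∈ X (sr a) ↔ ∃ b, f (uu b) = x) ∧ Nat.card (X (sr a)) = Nat.card F := by
  obtain ⟨k, hk0, hk1, hK, hk⟩ := exists_chain hM
  obtain ⟨F, _, _, φ, C⟩ := exists_co R le_rfl k hk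
  let k' : Fin 1 ↪ I := ⟨fun _ => a, fun a b _ => Subsingleton.elim a b⟩
  have C' : Co X k' F (φ.comp emb) := C.one _ hk0.symm
  have hk' : ∀ i j, M (k' i) (k' j) = cA 1 i j := by
    intro i j
    rw [Subsingleton.elim i j, M.diagonal, CoxeterMatrix.diagonal]
  have hr : Set.range k' = {a} := by
    ext x
    constructor
    · rintro ⟨_, rfl⟩; rfl
    · rintro rfl; exact ⟨0, rfl⟩
  refine ⟨F, inferInstance, inferInstance, φ.comp emb, ?_, ?_, ?_, ?_⟩
  · rw [injective_iff_map_eq_one]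
    intro g hg
    have h1 : emb g ∈ Subgroup.center (SpecialLinearGroup (Fin 3) F) := C.ker (by rw [MonoidHom.mem_ker]; exact hg)
    have h2 := Subgroup.mem_center_iff.1 h1
    obtain ⟨r, -, hr⟩ := Matrix.SpecialLinearGroup.mem_center_iff.1 h1
    have e22 := congrFun (congrFun hr 2) 2
    have hv : ∀ i j : Fin 2, g.1 i j = (emb g).1 i.castSucc j.castSucc := by
      intro i j
      rw [coe_emb]
      fin_cases i <;> fin_cases j <;> rfl
    have h22 : (emb g).1 2 2 = 1 := by rw [coe_emb]; rfl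
    rw [h22, Matrix.scalar_apply, Matrix.diagonal_apply_eq] at e22
    apply Subtype.ext
    ext i j
    have e3 := hv i j
    change g.1 i j = _
    rw [e3, ← hr, e22, map_one]
    fin_cases i <;> fin_cases j <;> rfl
  · have h1 : (φ.comp emb).range = H53.HC.MJ cs h X (Set.range k') := C'.range hk' (by norm_num)
    rw [h1, hr]
  · intro x
    have h1 := C'.root 0 1 (by decide)
    have e1 : cr k' 0 1 = sr a := cr_succ k' 0
    rw [e1] at h1
    have h2 : x ∈ X (sr a) ↔ x ∈ (X (sr a) : Set Y) := Iff.rfl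
    rw [h2, h1, Set.mem_range]
    have h3 : ∀ b : F, (uu b : SpecialLinearGroup (Fin (1 + 1)) F) =
        SpecialLinearGroup.transvection (i := (0 : Fin (1 + 1))) (j := 1) (by decide) b := by
      intro b
      apply Subtype.ext
      change !![(1 : F), b; 0, 1] = (1 : Matrix (Fin (1 + 1)) (Fin (1 + 1)) F) + Matrix.single 0 1 b
      ext i j
      (revert i j; simp only [_root_.Fin.forall_fin_succ, _root_.Matrix.of_apply, _root_.Matrix.cons_val', _root_.Matrix.cons_val_fin_one, Nat.reduceAdd, Fin.isValue, _root_.Matrix.add_apply, _root_.Matrix.cons_val_zero, _root_.one_ne_zero, _root_.and_false, _root_.not_false_eq_true, _root_.Matrix.single_apply_of_ne, _root_.add_zero, _root_.Matrix.cons_val_succ, _root_.Fin.succ_zero_eq_one, _root_.IsEmpty.forall_iff, _root_.and_true, _root_.Matrix.one_apply_eq, _root_.ne_eq, _root_.zero_ne_one, _root_.Matrix.one_apply_ne, _root_.Matrix.single_apply_same, _root_.zero_add, _root_.and_self,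 _root_.Fin.succ_ne_zero, _root_.true_and])
    simp only [h3]
  · exact C'.card 0

/-- **The elements of `M_a` normalising `X_a`.** -/
theorem pow_eq_one_of_norm {a j : I} (hM : M a j = 3) {y : Y} (hy : y ∈ MJ cs h X {a})
    (hn : cj y (X (sr a)) ≤ X (sr a)) : y ^ ((Nat.card (X (sr a)) - 1) * Nat.card (X (sr a))) = 1 := by
  obtain ⟨F, _, _, f, hinj, hran, hX, hcard⟩ := exists_node R hM
  rw [← hran] at hy
  obtain ⟨g, rfl⟩ := hy
  have h1 : f g * f (uu 1) * (f g)⁻¹ ∈ X (sr a) := hn ⟨f (uu 1), (hX _).2 ⟨1, rfl⟩, rfl⟩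
  obtain ⟨b, hb⟩ := (hX _).1 h1
  rw [← map_inv, ← map_mul, ← map_mul] at hb
  rw [hcard, ← map_pow, tri_pow_eq_one (tri_of_conj (hinj hb).symm), map_one]

/-- an element of `M_a` in the Borel subgroup -/
theorem pow_eq_one_of_mem_B {a j : I} (hM : M a j = 3) {y : Y} (hy : y ∈ MJ cs h X {a})
    (hB : y ∈ RGD.B cs h T X) : y ^ ((Nat.card (X (sr a)) - 1) * Nat.card (X (sr a))) = 1 := by
  refine pow_eq_one_of_norm R hM hy ?_
  have h1 : y ∈ BJ cs h T X {a} := by
    rw [← B_inf_LJ R {a}]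
    exact ⟨hB, MJ_le_LJ _ hy⟩
  have h2 : UJ cs h X {a} = X (sr a) := Cfsg.Agent.KFacts.RgdDiag.UJ_singleton a
  have h3 : BJ cs h T X {a} ≤ Subgroup.normalizer (X (sr a) : Set Y) := by
    unfold BJ
    rw [h2]
    exact sup_le (fun t ht => mem_normalizer_iff_cj.2 (R.tor _ (isRoot_sr cs h a) t ht)) Subgroup.le_normalizer
  exact (mem_normalizer_iff_cj.1 (h3 h1)).le

/-- `M_a ∩ P_K ≤ B`, `a ∉ K` -/
theorem mem_B_of_mem_PJ {a : I} {K : Set I} (haK : a ∉ K) {y : Y} (hy : y ∈ MJ cs h X {a})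
    (hP : y ∈ PJ cs h T X K) : y ∈ RGD.B cs h T X := by
  have h1 : y ∈ PJ cs h T X {a} := LJ_le_PJ (MJ_le_LJ _ hy)
  obtain ⟨w, hw, hc⟩ := (mem_PJ_iff_cell R).1 h1
  have hw' : w ∈ WJ cs K := (cell_mem_PJ_iff R hc).1 hP
  have h2 := Cfsg.Agent.Tits.Ext.WJ_inter (cs := cs) Cfsg.Agent.Tits.Ext.simple_injective hw hw'
  have h3 : ({a} ∩ K : Set I) = ∅ := by
    ext x
    simp only [Set.mem_inter_iff, Set.mem_singleton_iff, Set.mem_empty_iff_false, iff_false, not_and]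
    rintro rfl
    exact haK
  rw [h3] at h2
  have h4 : w = 1 := by
    have h5 : WJ cs (∅ : Set I) = ⊥ := by
      unfold WJ
      simp
    rwa [h5, Subgroup.mem_bot] at h2
  rw [h4] at hc
  exact hc.mem_of_one

/-- the Levi subgroup normalises the orthogonal components -/
theorem LJ_le_normalizer_of_orth {J K K' : Set I} (hJ : J = K ∪ K') (ho : Orth A K K') :
    LJ cs h T X J ≤ Subgroup.normalizer (MJ cs h X K : Set Y) := by
  subst hJ
  intro l hl
  obtain ⟨m, hm, t, ht, rfl⟩ := (mem_LJ_iff_mul' R _).1 hl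
  rw [ho.MJ_union] at hm
  refine mul_mem ?_ (LJ_le_normalizer_MJ R K (T_le_LJ ht))
  refine (sup_le Subgroup.le_normalizer ?_ : MJ cs h X K ⊔ MJ cs h X K' ≤ _) hm
  intro b hb
  rw [Subgroup.mem_normalizer_iff]
  intro a
  have hcomm := ho.comm R
  constructor
  · intro ha
    rw [← hcomm a ha b hb, mul_inv_cancel_right]
    exact ha
  · intro ha
    have h1 := hcomm _ ha b⁻¹ (inv_mem hb)
    have h2 : a = b * a * b⁻¹ := by
      have h3 : b⁻¹ * (b * a * b⁻¹) = (b * a * b⁻¹) * b⁻¹ := h1.symm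
      have h4 : a * b⁻¹ = (b * a * b⁻¹) * b⁻¹ := by rw [← h3]; group
      exact mul_right_cancel h4
    rw [h2]
    exact ha

/-- **Elliptic elements of a product of orthogonal nodes.** -/
theorem ell_of {K : Set I} (hK : ∀ a ∈ K, ∃ j, M a j = 3) (ho : ∀ a ∈ K, Orth A {a} (K \ {a}))
    {x : Y} (hx : ∀ a ∈ K, ∃ xa xb : Y, xa ∈ MJ cs h X {a} ∧ xb ∈ MJ cs h X (K \ {a}) ∧ x = xa * xb ∧
      xa ^ ((Nat.card (X (sr a)) - 1) * Nat.card (X (sr a))) ≠ 1) (hxK : x ∈ MJ cs h X K) :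
    Ell cs h T X K x := by
  refine ⟨LJ_le_PJ (MJ_le_LJ _ hxK), fun g hg K' hK' hgx => ?_⟩
  by_contra hne
  obtain ⟨a, haK, haK'⟩ : ∃ a ∈ K, a ∉ K' := by
    by_contra hcon
    push Not at hcon
    exact hne (Set.Subset.antisymm hK' hcon)
  obtain ⟨j, hj⟩ := hK a haK
  obtain ⟨xa, xb, hxa, hxb, hxe, hpow⟩ := hx a haK
  have hKe : K = {a} ∪ (K \ {a}) := by
    ext i
    simp only [Set.mem_union, Set.mem_singleton_iff, Set.mem_sdiff]
    constructor
    · intro hi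
      by_cases h : i = a
      · exact Or.inl h
      · exact Or.inr ⟨hi, h⟩
    · rintro (rfl | hi)
      · exact haK
      · exact hi.1
  obtain ⟨l, hl, v, hv, rfl⟩ := (mem_PJ R).1 hg
  have h1 : l⁻¹ * x * l ∈ PJ cs h T X K' := by
    have hvP : v ∈ PJ cs h T X K' := B_le_PJ (VJ_le_B K hv)
    have h2 := mul_mem (mul_mem hvP hgx) (inv_mem hvP)
    have e : v * ((l * v)⁻¹ * x * (l * v)) * v⁻¹ = l⁻¹ * x * l := by group
    rwa [e] at h2
  have hmono : PJ cs h T X K' ≤ PJ cs h T X (K \ {a}) := by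
    intro y hy
    obtain ⟨w, hw, hc⟩ := (mem_PJ_iff_cell R).1 hy
    refine (mem_PJ_iff_cell R).2 ⟨w, ?_, hc⟩
    have hsub : K' ⊆ K \ {a} := fun i hi => ⟨hK' hi, fun h => haK' (h ▸ hi)⟩
    exact WJ_mono cs hsub hw
  have hya : l⁻¹ * xa * l ∈ MJ cs h X {a} := by
    have h2 := inv_mem (LJ_le_normalizer_of_orth R hKe (ho a haK) hl)
    have h3 := (Subgroup.mem_normalizer_iff.1 h2 xa).1 hxa
    rwa [inv_inv] at h3
  have hyb : l⁻¹ * xb * l ∈ MJ cs h X (K \ {a}) := by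
    have h2 := inv_mem (LJ_le_normalizer_of_orth R (by rw [Set.union_comm]; exact hKe) (ho a haK).symm hl)
    have h3 := (Subgroup.mem_normalizer_iff.1 h2 xb).1 hxb
    rwa [inv_inv] at h3
  have h4 : l⁻¹ * xa * l ∈ PJ cs h T X (K \ {a}) := by
    have h5 := mul_mem (hmono h1) (inv_mem (LJ_le_PJ (MJ_le_LJ (T := T) _ hyb)))
    have e : l⁻¹ * x * l * (l⁻¹ * xb * l)⁻¹ = l⁻¹ * xa * l := by rw [hxe]; group
    rwa [e] at h5
  have h5 := pow_eq_one_of_mem_B R hj hya (mem_B_of_mem_PJ R (by simp) hya h4)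
  apply hpow
  have h6 : ∀ N : ℕ, (l⁻¹ * xa * l) ^ N = l⁻¹ * xa ^ N * l := by
    intro N
    have := conj_pow (a := l⁻¹) (b := xa) (i := N)
    rwa [inv_inv] at this
  rw [h6] at h5
  have h7 : xa ^ ((Nat.card (X (sr a)) - 1) * Nat.card (X (sr a))) =
      l * (l⁻¹ * xa ^ ((Nat.card (X (sr a)) - 1) * Nat.card (X (sr a))) * l) * l⁻¹ := by group
  rw [h7, h5]
  group

end rgd

end Cfsg.Agent.H928.Van
end

-- part: H928/Van/Main
section
/-!
# Vanishing elements of order dividing `N`, `N ∣ q + 1` (S4555, S4559, helper928)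

* `Good N q` : `N ∣ q + 1`, `N` an odd prime or `N = 4`;
* `exists_e` : an elliptic element `e` of `SL_2(F)`, `e ^ N = 1`;
* `exists_xa` : the element of `M_a`;
* `vz_of` : vanishing of the induced character;
* `not_mem_card`, `not_mem_size` : `x` and its images under automorphisms are not conjugate into `P_K'`.
-/

set_option autoImplicit false
set_option linter.unusedSectionVars false

namespace Cfsg.Agent.H928.Van

open Cfsg Cfsg.Agent.Characters CoxeterSystem Cfsg.Agent.ChevalleyStructure.CoxeterGeom Cfsg.Agent.Tits.Roots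
  Cfsg.Agent.Tits.Core Cfsg.Agent.Tits.Exchange Cfsg.Agent.Nodes.Reps Cfsg.Agent.Nodes.BNOf Cfsg.Agent.Nodes.StabComb
  Cfsg.Agent.Nodes.Bruhat Cfsg.Agent.Nodes.OppDec Cfsg.Agent.Nodes.LeviDec
open Cfsg.Agent.LieRecognition.BNCox (cA)
open Cfsg.Agent.H622.Levi hiding MJ rad
open Cfsg.Agent.H53.HC (MJ rad Orth mem_LJ_iff_mul' MJ_le_LJ exists_projL)
open Cfsg.Agent.H928.Imc Cfsg.Agent.H40.PV
open Matrix

universe u

/-- `N ∣ q + 1`, `N` an odd prime or `N = 4` -/
structure Good (N q : ℕ) : Prop where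
  dvd : N ∣ q + 1
  or : (N.Prime ∧ N ≠ 2) ∨ N = 4

section arith

theorem Good.ne_zero {N : ℕ} {F : Type*} [Field F] [Finite F] (h : Good N (Nat.card F)) : (N : F) ≠ 0 := by
  intro h0
  obtain ⟨c, hc⟩ := h.dvd
  have h1 : ((Nat.card F + 1 : ℕ) : F) = ((N * c : ℕ) : F) := by rw [hc]
  have := Fintype.ofFinite F
  rw [Nat.cast_add, Nat.cast_mul, h0, zero_mul, Nat.card_eq_fintype_card, Nat.cast_card_eq_zero, zero_add,
    Nat.cast_one] at h1
  exact one_ne_zero h1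

theorem Good.coprime {N q n : ℕ} (h : Good N q) (hq : 2 ≤ q) (hn : Odd n) : N.Coprime ((q ^ n - 1) / (q - 1)) := by
  rw [← Nat.geomSum_eq hq]
  have h0 : (q : ZMod N) = -1 := by
    have h1 : ((q + 1 : ℕ) : ZMod N) = 0 := (ZMod.natCast_eq_zero_iff _ _).2 h.dvd
    rw [Nat.cast_add, Nat.cast_one] at h1
    exact eq_neg_of_add_eq_zero_left h1
  have h1 : ((∑ i ∈ Finset.range n, q ^ i : ℕ) : ZMod N) = ((1 : ℕ) : ZMod N) := by
    rw [Nat.cast_sum]
    simp only [Nat.cast_pow, h0]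
    have h2 : ∀ m : ℕ, ∑ i ∈ Finset.range (2 * m + 1), (-1 : ZMod N) ^ i = 1 := by
      intro m
      induction m with
      | zero => simp only [_root_.MulZeroClass.mul_zero, _root_.zero_add, _root_.Finset.range_one, _root_.Finset.sum_singleton, _root_.pow_zero]
      | succ m ih =>
        have e : 2 * (m + 1) + 1 = 2 * m + 1 + 1 + 1 := by ring
        rw [e, Finset.sum_range_succ, Finset.sum_range_succ, ih]
        have h3 : (-1 : ZMod N) ^ (2 * m + 1) = -1 := Odd.neg_one_pow ⟨m, rfl⟩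
        have h4 : (-1 : ZMod N) ^ (2 * m + 1 + 1) = 1 := Even.neg_one_pow ⟨m + 1, by ring⟩
        rw [h3, h4]
        ring
    obtain ⟨m, rfl⟩ := hn
    rw [h2 m, Nat.cast_one]
  rw [ZMod.natCast_eq_natCast_iff] at h1
  rw [Nat.coprime_comm]
  exact h1.gcd_eq.trans (Nat.gcd_one_left N)

end arith

section sl2

variable {F : Type*} [Field F] [Finite F]

theorem exists_e {N : ℕ} (h : Good N (Nat.card F)) : ∃ e : SpecialLinearGroup (Fin (1 + 1)) F,
    e ^ N = 1 ∧ e ^ ((Nat.card F - 1) * Nat.card F) ≠ 1 := by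
  classical
  have hq : 2 ≤ Nat.card F := Finite.one_lt_card
  have := Fintype.ofFinite F
  rcases h.or with ⟨h1, h2⟩ | h4
  · have : Fact N.Prime := ⟨h1⟩
    have hN1 : ¬ N ∣ Nat.card F - 1 := by
      intro h3
      have h4 := Nat.dvd_sub h.dvd h3
      have e : Nat.card F + 1 - (Nat.card F - 1) = 2 := by omega
      rw [e] at h4
      exact h2 ((Nat.prime_dvd_prime_iff_eq h1 Nat.prime_two).1 h4)
    have hNq : ¬ N ∣ Nat.card F := by
      intro h3
      have h4 := Nat.dvd_sub h.dvd h3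
      rw [Nat.add_sub_cancel_left] at h4
      exact h1.one_lt.ne' (Nat.dvd_one.1 h4)
    have hd : N ∣ Nat.card (GL (Fin (1 + 1)) F) := by
      have e := Matrix.card_GL_field (𝔽 := F) (1 + 1)
      rw [e, Fin.prod_univ_two, ← Nat.card_eq_fintype_card]
      refine Dvd.dvd.mul_right ?_ _
      have e2 : Nat.card F ^ (1 + 1) - Nat.card F ^ ((0 : Fin (1 + 1)) : ℕ) = (Nat.card F + 1) * (Nat.card F - 1) := by
        change Nat.card F ^ 2 - Nat.card F ^ 0 = _
        rw [pow_zero, ← Nat.sq_sub_sq, one_pow]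
      rw [e2]
      exact Dvd.dvd.mul_right h.dvd _
    obtain ⟨g, hg⟩ := exists_prime_orderOf_dvd_card' N hd
    have hdet : Matrix.GeneralLinearGroup.det g = 1 := by
      rw [← orderOf_eq_one_iff]
      have h3 : orderOf (Matrix.GeneralLinearGroup.det g) ∣ N := by
        apply orderOf_dvd_of_pow_eq_one
        rw [← map_pow, ← hg, pow_orderOf_eq_one, map_one]
      have h4 : orderOf (Matrix.GeneralLinearGroup.det g) ∣ Nat.card F - 1 := by
        rw [← Nat.card_units]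
        exact orderOf_dvd_natCard _
      exact Nat.eq_one_of_dvd_coprimes ((Nat.Prime.coprime_iff_not_dvd h1).2 hN1) h3 h4
    have hdet' : g.1.det = 1 := congrArg Units.val hdet
    obtain ⟨e, he⟩ : ∃ e : SpecialLinearGroup (Fin (1 + 1)) F, SpecialLinearGroup.toGL e = g :=
      ⟨⟨g.1, hdet'⟩, Units.ext rfl⟩
    have hord : orderOf e = N := by
      rw [← hg, ← he]
      exact (orderOf_injective (SpecialLinearGroup.toGL) SpecialLinearGroup.toGL_injective e).symm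
    refine ⟨e, by rw [← hord, pow_orderOf_eq_one], fun h3 => ?_⟩
    have h4 := orderOf_dvd_of_pow_eq_one h3
    rw [hord, h1.dvd_mul] at h4
    exact h4.elim hN1 hNq
  · subst h4
    obtain ⟨c, hc⟩ := h.dvd
    have h2F : (-1 : F) ≠ 1 := by
      intro h3
      have h5 : ((4 : ℕ) : F) = 0 := by
        have h6 : (2 : F) = 0 := by
          have : (2 : F) = 1 + 1 := by norm_num
          rw [this]
          nth_rewrite 1 [← h3]
          ring
        have e : ((4 : ℕ) : F) = 2 * 2 := by norm_num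
        rw [e, h6, zero_mul]
      exact h.ne_zero h5
    have e2 : (ww : SpecialLinearGroup (Fin (1 + 1)) F) ^ 2 = dd (-1) := by
      rw [sq]
      apply Subtype.ext
      change !![(0 : F), 1; -1, 0] * !![(0 : F), 1; -1, 0] = !![((-1 : Fˣ) : F), 0; 0, (((-1 : Fˣ)⁻¹ : Fˣ) : F)]
      ext i j
      (revert i j; simp only [Matrix.mul_apply, Fin.sum_univ_two, _root_.Fin.forall_fin_succ, _root_.Matrix.of_apply, _root_.Matrix.cons_val', _root_.Matrix.cons_val_fin_one, Fin.isValue, _root_.Matrix.cons_val_zero, _root_.Matrix.cons_val_one, _root_.Units.val_neg, _root_.Units.val_one, _root_.inv_neg, _root_.inv_one, _root_.MulZeroClass.mul_zero, _root_.mul_neg, _root_.mul_one, _root_.zero_add, _root_.Matrix.cons_val_succ, _root_.add_zero, _root_.implies_true, _root_.and_true, _root_.neg_zero, _root_.and_self])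
    have e4 : (ww : SpecialLinearGroup (Fin (1 + 1)) F) ^ 4 = 1 := by
      have h5 : (4 : ℕ) = 2 * 2 := rfl
      rw [h5, pow_mul, e2, ← dd_pow, neg_one_sq]
      have h6 := dd_pow (1 : Fˣ) 0
      rwa [pow_zero, pow_zero] at h6
    refine ⟨ww, e4, ?_⟩
    -- `(q - 1) q = 4 j + 2`
    obtain ⟨j, hj⟩ : ∃ j, (Nat.card F - 1) * Nat.card F = 4 * j + 2 := by
      obtain ⟨c', rfl⟩ : ∃ c', c = c' + 1 := ⟨c - 1, by omega⟩
      have hF : Nat.card F = 4 * c' + 3 := by omega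
      rw [hF]
      refine ⟨(4 * c' + 3) * c' + (2 * c' + 1), ?_⟩
      have : 4 * c' + 3 - 1 = 4 * c' + 2 := by omega
      rw [this]
      ring
    rw [hj, pow_add, pow_mul, e4, one_pow, one_mul, e2]
    intro h3
    apply h2F
    have h5 := congrFun (congrFun (congrArg Subtype.val h3) 0) 0
    exact h5

end sl2

section rgd

variable {I W : Type*} {Y : Type u} [Fintype I] [DecidableEq I] [Group W] [Group Y] {M : CoxeterMatrix I}
  {cs : CoxeterSystem M W} {A : I → I → ℤ} {h : IsCartan M A} {p : ℕ} {T : Subgroup Y} {n : I → Y}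
  {X : (I → ℤ) → Subgroup Y} [Finite W] [Finite Y] (R : RGD cs h p T n X)

include R

/-- an elliptic element of `M_a` -/
theorem exists_xa {a j : I} (hM : M a j = 3) {N : ℕ} (hN : Good N (Nat.card (X (sr a)))) :
    ∃ x ∈ MJ cs h X {a}, x ^ N = 1 ∧ x ^ ((Nat.card (X (sr a)) - 1) * Nat.card (X (sr a))) ≠ 1 := by
  obtain ⟨F, _, _, f, hinj, hran, -, hcard⟩ := exists_node R hM
  rw [hcard] at hN ⊢
  obtain ⟨e, he, he'⟩ := exists_e hN
  refine ⟨f e, hran ▸ ⟨e, rfl⟩, by rw [← map_pow, he, map_one], fun h1 => he' ?_⟩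
  rw [← map_pow, ← map_one f] at h1
  exact hinj h1

/-- **Elliptic elements of type `{a}`.** -/
theorem exists_ell_one {a j : I} (hM : M a j = 3) {N : ℕ} (hN : Good N (Nat.card (X (sr a)))) :
    ∃ x, x ^ N = 1 ∧ Ell cs h T X {a} x := by
  obtain ⟨x, hx, h1, h2⟩ := exists_xa R hM hN
  refine ⟨x, h1, ell_of R ?_ ?_ ?_ hx⟩
  · rintro _ rfl
    exact ⟨j, hM⟩
  · rintro _ rfl i hi k hk
    exact absurd hk.1 hk.2
  · rintro _ rfl
    exact ⟨x, 1, hx, one_mem _, by rw [mul_one], h2⟩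

/-- **Elliptic elements of type `{a, b}`.** -/
theorem exists_ell_two {a j b l : I} (ha : M a j = 3) (hb : M b l = 3) (hab : a ≠ b) (ho : Orth A {a} {b}) {N : ℕ}
    (hNa : Good N (Nat.card (X (sr a)))) (hNb : Good N (Nat.card (X (sr b)))) :
    ∃ x, x ^ N = 1 ∧ Ell cs h T X {a, b} x := by
  obtain ⟨x, hx, hx1, hx2⟩ := exists_xa R ha hNa
  obtain ⟨y, hy, hy1, hy2⟩ := exists_xa R hb hNb
  have hcomm := ho.comm R x hx y hy
  have e1 : ({a, b} : Set I) = {a} ∪ {b} := rfl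
  have ea : ({a, b} : Set I) \ {a} = {b} := by
    ext i
    simp only [Set.mem_sdiff, Set.mem_insert_iff, Set.mem_singleton_iff]
    constructor
    · rintro ⟨h1 | h1, h2⟩
      · exact absurd h1 h2
      · exact h1
    · rintro rfl
      exact ⟨Or.inr rfl, hab.symm⟩
  have eb : ({a, b} : Set I) \ {b} = {a} := by
    ext i
    simp only [Set.mem_sdiff, Set.mem_insert_iff, Set.mem_singleton_iff]
    constructor
    · rintro ⟨h1 | h1, h2⟩
      · exact h1
      · exact absurd h1 h2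
    · rintro rfl
      exact ⟨Or.inl rfl, hab⟩
  refine ⟨x * y, ?_, ell_of R ?_ ?_ ?_ ?_⟩
  · rw [(show Commute x y from hcomm).mul_pow, hx1, hy1, one_mul]
  · rintro _ (rfl | rfl)
    · exact ⟨j, ha⟩
    · exact ⟨l, hb⟩
  · rintro _ (rfl | rfl)
    · rw [ea]; exact ho
    · rw [eb]; exact ho.symm
  · rintro _ (rfl | rfl)
    · exact ⟨x, y, hx, by rw [ea]; exact hy, rfl, hx2⟩
    · exact ⟨y, x, hy, by rw [eb]; exact hx, hcomm, hy2⟩
  · rw [e1, ho.MJ_union]
    exact mul_mem (Subgroup.mem_sup_left hx) (Subgroup.mem_sup_right hy)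

/-- **Vanishing of the induced character.** -/
theorem vz_of [Fintype Y] {J : Set I} {ψ : ↥(LJ cs h T X J) → ℂ} {ψ' : ↥(PJ cs h T X J) → ℂ}
    (hI : Ind cs h T X J ψ ψ') {N : ℕ} {x : Y} (hx : x ^ N = 1) {K' : Set I}
    (hkill : ∀ (l : Y) (hl : l ∈ LJ cs h T X J), l ^ N = 1 → ψ ⟨l, hl⟩ ≠ 0 → l ∈ LJ cs h T X K')
    (hnot : ∀ (α : MulAut Y) (g : Y), g⁻¹ * α x * g ∉ PJ cs h T X K') : H713.VZ Y x := by
  refine ⟨⟨_, hI.ind⟩, fun α => hI.value (dec R J) fun g l v hl hv e => ?_⟩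
  by_contra hne
  apply hnot α g
  obtain ⟨π, hπL, hπV⟩ := exists_projL R J
  have hlv : l * v ∈ PJ cs h T X J := mul_mem (LJ_le_PJ hl) (VJ_le_PJ hv)
  have h1 : (l * v) ^ N = 1 := by
    rw [← e]
    have h2 := conj_pow (a := g⁻¹) (b := α x) (i := N)
    rw [inv_inv] at h2
    rw [h2, ← map_pow, hx, map_one, mul_one, inv_mul_cancel]
  have h2 : π ⟨l * v, hlv⟩ = ⟨l, hl⟩ := by
    have e2 : (⟨l * v, hlv⟩ : PJ cs h T X J) = ⟨l, LJ_le_PJ hl⟩ * ⟨v, VJ_le_PJ hv⟩ := rfl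
    rw [e2, map_mul, hπL, hπV v hv, mul_one]
  have h3 : l ^ N = 1 := by
    have h4 : (π ⟨l * v, hlv⟩) ^ N = 1 := by
      rw [← map_pow]
      have h5 : (⟨l * v, hlv⟩ : PJ cs h T X J) ^ N = 1 := Subtype.ext h1
      rw [h5, map_one]
    rw [h2] at h4
    exact congrArg Subtype.val h4
  rw [e]
  exact mul_mem (LJ_le_PJ (hkill l hl h3 hne)) (B_le_PJ (VJ_le_B J hv))

/-- the images of an elliptic element under automorphisms -/
theorem not_mem_card [Fact p.Prime] (hG : GG cs h T X = ⊤) {K K' : Set I} {x : Y} (hx : Ell cs h T X K x)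
    (hc : K'.ncard < K.ncard) (α : MulAut Y) (g : Y) : g⁻¹ * α x * g ∉ PJ cs h T X K' := by
  intro hg
  obtain ⟨g₀, σ, -, -, hE⟩ := Ell.exists_aut R hG hx α
  obtain ⟨K₁, hK₁, w, -, h2, -⟩ := hE.exists_conj R hG (g := g₀ * g) (J := K') (by
    have e : (g₀ * g)⁻¹ * (g₀ * α x * g₀⁻¹) * (g₀ * g) = g⁻¹ * α x * g := by group
    rwa [e])
  have hsr : ∀ i j : I, (sr i : I → ℤ) = sr j → i = j := by
    intro i j hij
    by_contra hne
    have := congrFun hij i
    rw [sr_self, sr_ne hne] at this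
    exact one_ne_zero this
  choose! f hf hf' using h2
  have h3 : (σ '' K).ncard ≤ K₁.ncard := by
    refine Set.ncard_le_ncard_of_injOn f hf ?_ (Set.toFinite _)
    intro a ha b hb hab
    apply hsr
    have e1 := hf' a ha
    have e2 := hf' b hb
    rw [hab, ← e2] at e1
    have e3 := congrArg (rep cs h w⁻¹) e1
    rwa [rep_inv_apply, rep_inv_apply] at e3
  have h4 : (σ '' K).ncard = K.ncard := Set.ncard_image_of_injective K σ.injective
  have h5 := Set.ncard_le_ncard hK₁ (Set.toFinite K')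
  omega

/-- the images of an elliptic element under automorphisms, root groups of different orders -/
theorem not_mem_size [Fact p.Prime] (hG : GG cs h T X = ⊤) {a : I} {K' : Set I} {x : Y} (hx : Ell cs h T X {a} x)
    (hc : ∀ j ∈ K', Nat.card (X (sr j)) ≠ Nat.card (X (sr a))) (α : MulAut Y) (g : Y) :
    g⁻¹ * α x * g ∉ PJ cs h T X K' := by
  intro hg
  obtain ⟨g₀, σ, -, hσ, hE⟩ := Ell.exists_aut R hG hx α
  obtain ⟨K₁, hK₁, w, -, h2, -⟩ := hE.exists_conj R hG (g := g₀ * g) (J := K') (by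
    have e : (g₀ * g)⁻¹ * (g₀ * α x * g₀⁻¹) * (g₀ * g) = g⁻¹ * α x * g := by group
    rwa [e])
  obtain ⟨j, hj, e⟩ := h2 (σ a) ⟨a, rfl, rfl⟩
  apply hc j (hK₁ hj)
  obtain ⟨k, hk⟩ := exists_rp cs R.nsys w
  rw [← hσ a, ← e, ← R.conj_rp hk (isRoot_sr cs h (σ a))]
  exact (Nat.card_congr ((X (sr (σ a))).equivMapOfInjective _ (MulAut.conj k).injective).toEquiv).symm

end rgd

end Cfsg.Agent.H928.Van
end

-- part: H928/Van/Rows
section
/-!
# `VOrdP p` (`p ∣ q + 1` odd) and `VPow 2` (`q = 3 mod 4`) for `E₆(q)`, `E₇(q)`, `E₈(q)`, `F₄(q)`, `²E₆(q)`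
(S4555, S4559, helper928)

* `kill_chain` : the killing lemma for a chain of nodes;
* `Res Y N` : `Y` has a vanishing element `x ≠ 1`, `x ^ N = 1`, for all automorphisms;
* `res_E8`, `res_E7`, `res_E6`, `res_F4`, `res_TwE6`.
-/

set_option autoImplicit false
set_option linter.unusedSectionVars false

namespace Cfsg.Agent.H928.Van

open Cfsg Cfsg.Lie Cfsg.Agent.Characters CoxeterSystem Cfsg.Agent.ChevalleyStructure.CoxeterGeom Cfsg.Agent.Tits.Roots
  Cfsg.Agent.Tits.Core Cfsg.Agent.Tits.Exchange Cfsg.Agent.Nodes.Reps Cfsg.Agent.Nodes.BNOf Cfsg.Agent.Nodes.StabComb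
  Cfsg.Agent.Nodes.Bruhat Cfsg.Agent.Nodes.OppDec Cfsg.Agent.Nodes.LeviDec
open Cfsg.Agent.LieRecognition.BNCox (cA)
open Cfsg.Agent.H622.Levi (exists_co exists_chain inA2 cusp_chain cusp_node)
open Cfsg.Agent.H53.HC Cfsg.Agent.H53.HC.ExcRows Cfsg.Agent.H53.HC.ExcIM Cfsg.Agent.H35.ExcIdx
open Cfsg.Agent.H353.IMC (k74 k64 range_k74 range_k64 hk74 hk64 compl7_4 or7_4 un7_4 compl6_2 or6_2 a6 a6_eq z6_mod
  mem_WJ_of_mod)
open Cfsg.Agent.H40.PV Cfsg.Agent.Nodes.RGDChev Cfsg.Agent.H64.Dl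
open Matrix

universe u

/-- the vanishing elements -/
def Res (Y : Type u) [Group Y] (N : ℕ) : Prop := ∃ x : Y, x ^ N = 1 ∧ x ≠ 1 ∧ H713.VZ Y x

theorem Res.vOrdP {Y : Type u} [Group Y] {p : ℕ} (hp : p.Prime) (h : Res Y p) : H620.PNorm.VOrdP p Y := by
  obtain ⟨x, h1, h2, h3⟩ := h
  have : Fact p.Prime := ⟨hp⟩
  exact ⟨x, orderOf_eq_prime h1 h2, h3⟩

theorem Res.vPow {Y : Type u} [Group Y] (h : Res Y 4) : H620.PNorm.VPow 2 Y := by
  obtain ⟨x, h1, h2, h3⟩ := h
  refine ⟨x, ?_, h3⟩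
  obtain ⟨j, -, hj⟩ := (Nat.dvd_prime_pow Nat.prime_two).1 (show orderOf x ∣ 2 ^ 2 from orderOf_dvd_of_pow_eq_one h1)
  exact ⟨j, hj⟩

section gen

variable {I : Type*} {W : Type*} {Y : Type u} [Fintype I] [DecidableEq I] [Group W] [Group Y] {M : CoxeterMatrix I}
  {cs : CoxeterSystem M W} {A : I → I → ℤ} {h : IsCartan M A} {p : ℕ} {T : Subgroup Y} {n : I → Y}
  {X : (I → ℤ) → Subgroup Y} [Finite W] [Finite Y] (R : RGD cs h p T n X)

omit [Fintype I] [DecidableEq I] in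
theorem sum_eq_of_eq {L B B' : Subgroup Y} (e : B = B') (hB : B ≤ L) (hB' : B' ≤ L) (ψ : L → ℂ) [i₁ : Fintype B] [i₂ : Fintype B'] :
    ∑ u : B, ψ ⟨u, hB u.2⟩ = ∑ u : B', ψ ⟨u, hB' u.2⟩ := by
  subst e
  obtain rfl : i₁ = i₂ := Subsingleton.elim _ _
  rfl

include R

/-- **The killing lemma for a chain.** `J` contains the chain `k` as a component, `J ∖ k = K'`. -/
theorem kill_chain (hT : ∀ a ∈ T, ∀ b ∈ T, a * b = b * a) {m : ℕ} (hm : 2 ≤ m) (hn : (m + 1).Prime) (hodd : Odd (m + 1))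
    (k : Fin m ↪ I) (hk : ∀ i j, M (k i) (k j) = cA m i j) {J J₁ K' K'' : Set I} (hJ : J = J₁ ∪ K'')
    (ho' : Orth A J₁ K'') (hJ₁ : J₁ = Set.range k ∪ K')
    (ho : Orth A (Set.range k) K') {ψ : ↥(LJ cs h T X J) → ℂ} (hψ : IsCharacter _ ψ)
    (hz : ∀ i ∈ J, ∀ [Fintype (rad cs h X J i)], ∑ u : rad cs h X J i, ψ ⟨u, rad_le_LJ J i u.2⟩ = 0)
    {N : ℕ} (hN : ∀ i, Good N (Nat.card (X (sr (k i)))))
    {l : Y} (hl : l ∈ LJ cs h T X J) (hl₁ : l ∈ LJ cs h T X J₁) (hlN : l ^ N = 1) (hne : ψ ⟨l, hl⟩ ≠ 0) :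
    l ∈ LJ cs h T X K' := by
  obtain ⟨F, _, _, φ, C⟩ := exists_co R hm k hk
  have hc := C.card ⟨0, by omega⟩
  have hG : Good N (Nat.card F) := hc ▸ hN _
  have hLJ : LJ cs h T X J₁ ≤ LJ cs h T X J := by
    refine sup_le T_le_LJ (RGD.Sup_le fun x hx => X_le_LJ ⟨hx.1, fun i hi => hx.2 i fun hi' => hi ?_⟩)
    rw [hJ]
    exact Or.inl hi'
  refine mem_of_ne R hT C hk hm hn hJ₁ ho hLJ hψ ?_ hl₁ hlN hG.ne_zero (hG.coprime Finite.one_lt_card hodd) hne
  intro i hi _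
  have hiJ₁ : i ∈ J₁ := by rw [hJ₁]; exact Or.inl hi
  have hiJ : i ∈ J := by rw [hJ]; exact Or.inl hiJ₁
  have e : rad cs h X J i = rad cs h X J₁ i := by rw [hJ]; exact ho'.rad_eq hiJ₁
  have : Fintype (rad cs h X J i) := Fintype.ofFinite _
  rw [← sum_eq_of_eq e (rad_le_LJ J i) (le_trans (rad_le_LJ J₁ i) hLJ) ψ]
  exact hz i hiJ

end gen

section ex

variable {I : Type*} {W : Type*} {Y : Type u} [Fintype I] [DecidableEq I] [Group W] [Group Y] {M : CoxeterMatrix I}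
  {cs : CoxeterSystem M W} {A : I → I → ℤ} {h : IsCartan M A} {p : ℕ} {T : Subgroup Y} {n : I → Y}
  {X : (I → ℤ) → Subgroup Y} [Finite W] [Fintype Y] (R : RGD cs h p T n X)

include R

/-- **One component of type `A_2`**, the conditions in terms of the Coxeter matrix. -/
theorem exists_ind_one' (hG : GG cs h T X = ⊤) {j k₀ k₁ : I} {K' : Set I} (hJ : ({i | i ≠ j} : Set I) = {k₀, k₁} ∪ K')
    (ho : ∀ i ∈ ({k₀, k₁} : Set I), ∀ i' ∈ K', M i i' = 2) (hk : M k₀ k₁ = 3) (hk1 : M k₁ j = 2)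
    (hk0 : M k₀ j = 3 ∨ M k₀ j = 4)
    (hun : ∀ a b, a ≠ j → b ≠ j → M a b = 3 → (∀ c, c ≠ j → c ≠ a → c ≠ b → M a c = 2 ∧ M b c = 2) →
      (a = k₀ ∧ b = k₁) ∨ (a = k₁ ∧ b = k₀))
    {θ' : ↥(MJ cs h X K') → ℂ} (hθ' : Cusp cs h X K' θ') :
    ∃ (ψ : ↥(LJ cs h T X {i | i ≠ j}) → ℂ) (ψ' : ↥(PJ cs h T X {i | i ≠ j}) → ℂ), Ind cs h T X {i | i ≠ j} ψ ψ' := by
  classical
  obtain ⟨θ, hθ, hns, -⟩ := inA2 R hk rfl
  have hmem : ∀ i, i ∈ ({i | i ≠ j} : Set I) ↔ i ≠ j := fun i => Iff.rfl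
  have hk0J : k₀ ∈ ({i | i ≠ j} : Set I) := by rw [hJ]; simp
  have hk1J : k₁ ∈ ({i | i ≠ j} : Set I) := by rw [hJ]; simp
  exact exists_ind_one R hG hmem hJ (orth_of h ho) rfl
    (isoPair_of h hk0J hk1J hk fun c hc hc0 hc1 => by
      rw [hJ] at hc
      rcases hc with hc | hc
      · rcases hc with rfl | rfl
        · exact absurd rfl hc0
        · exact absurd rfl hc1
      · exact ⟨ho _ (by simp) c hc, ho _ (by simp) c hc⟩)
    (cartan_two h hk1).1 (not_three_dvd h hk0)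
    (fun a b hab => by
      obtain ⟨h1, h2, h3, h4⟩ := of_isoPair h hab
      exact hun a b h1 h2 h3 h4)
    hθ hns hθ'

end ex

section exc

open Cfsg.Agent.H622.Levi in
/-- the pair `(k₀, k₁)` as a chain -/
theorem chain_two {I : Type*} [Fintype I] [DecidableEq I] {M : CoxeterMatrix I} {k₀ k₁ : I} (hM : M k₀ k₁ = 3) :
    ∃ k : Fin 2 ↪ I, Set.range k = {k₀, k₁} ∧ ∀ i j, M (k i) (k j) = cA 2 i j := by
  obtain ⟨k, -, -, h1, h2⟩ := exists_chain hM
  exact ⟨k, h1, h2⟩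

/-! ### `E₈` -/

theorem or8c : Or m8 [2, 0, 1] [4, 5, 6, 7] := by decide +kernel
theorem or8d : Or m8 [2, 0] [1] := by decide +kernel

theorem res_E8 {r f : ℕ} (hr : r.Prime) (hf : f ≠ 0) (F : Type) [Field F] [Fintype F] (hF : Fintype.card F = r ^ f)
    [CharP F r] {N : ℕ} (hN : Good N (r ^ f)) : Res ↥(chevE8.group F) N := by
  classical
  have : Fact r.Prime := ⟨hr⟩
  have := finite_group (K := F) chevE8
  have : Fintype ↥(chevE8.group F) := Fintype.ofFinite _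
  have D := data_E8_3 hr hf hF
  have := D.fin
  have hT := TT_comm (K := F) (IsType.inList hpE8)
  have hsz : ∀ i, Good N (Nat.card (XX chevE8 8 F (sr i))) := fun i => by rw [D.size]; exact hN
  -- the character
  obtain ⟨θ', hθ'⟩ : In hpE8.isCartan (XX chevE8 8 F) ({1} ∪ {4, 5, 6, 7}) :=
    In.union D (in_node D 1 3 (by decide +kernel)) (by rw [← range_k8]; exact in_chain D (by norm_num) k8 hk8)
      (fun i hi i' hi' => or8b i (by simpa using hi) i' (by simpa using hi'))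
  obtain ⟨ψ, ψ', hI⟩ := exists_ind_one' D.rgd D.gg (j := 3) (k₀ := 2) (k₁ := 0) compl8
    (fun i hi i' hi' => or8a i (by simpa using hi) i' (by simpa only [_root_.Fin.isValue, _root_.List.mem_cons, _root_.List.not_mem_nil, _root_.or_false, _root_.Set.union_insert, _root_.Set.union_singleton, _root_.Set.mem_insert_iff, _root_.Set.mem_singleton_iff] using hi')) (by decide +kernel) (by decide +kernel)
    (by decide +kernel) un8 hθ'
  -- the elliptic element
  obtain ⟨x, hxN, hx⟩ := exists_ell_two D.rgd (a := 0) (j := 2) (b := 1) (l := 3) (by decide +kernel) (by decide +kernel)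
    (by decide) (orth_of hpE8.isCartan fun i hi i' hi' => or8d i (by
      rw [Set.mem_singleton_iff] at hi; subst hi; simp) i' (by simpa using hi')) (hsz _) (hsz _)
  have hnot := not_mem_card D.rgd D.gg (K' := {1}) hx (by
    rw [Set.ncard_singleton, Set.ncard_pair (by decide)]; norm_num)
  refine ⟨x, hxN, ?_, vz_of D.rgd hI hxN (K' := {1}) ?_ hnot⟩
  · rintro rfl
    apply hnot 1 1
    rw [map_one, mul_one, inv_one, mul_one]
    exact one_mem _
  intro l hl hlN hne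
  -- the chain `4, 5, 6, 7`
  obtain ⟨k, hk, hk'⟩ := chain_two (M := CoxeterMatrix.E₈) (k₀ := 2) (k₁ := 0) (by decide +kernel)
  have h1 : l ∈ LJ CoxeterMatrix.E₈.toCoxeterSystem hpE8.isCartan (TT chevE8 F) (XX chevE8 8 F) ({2, 0} ∪ {1}) := by
    refine kill_chain D.rgd hT (by norm_num) (by norm_num) (by decide) k8 hk8 (J₁ := {i | i ≠ 3}) (K'' := ∅)
      (K' := {2, 0} ∪ {1}) (Set.union_empty _).symm ?_ ?_ ?_ (Core.isIrr_isCharacter hI.irr) hI.van (fun i => hsz _) hl hl hlN hne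
    · exact fun i _ j hj => absurd hj (Set.notMem_empty _)
    · rw [range_k8, compl8]
      ext i
      simp only [Set.mem_union, Set.mem_insert_iff, Set.mem_singleton_iff]
      (clear * -; tauto)
    · rw [range_k8]
      exact (orth_of hpE8.isCartan fun i hi i' hi' => or8c i (by simp at hi ⊢; (clear * - hi; tauto)) i' (by simpa using hi')).symm
  refine kill_chain D.rgd hT le_rfl (by norm_num) (by decide) k hk' (J₁ := {2, 0} ∪ {1}) (K'' := {4, 5, 6, 7})
      (K' := {1}) ?_ ?_ ?_ ?_ (Core.isIrr_isCharacter hI.irr) hI.van (fun i => hsz _) hl h1 hlN hne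
  · rw [compl8, Set.union_assoc]
  · exact orth_of hpE8.isCartan fun i hi i' hi' => or8c i (by simp at hi ⊢; (clear * - hi; tauto)) i' (by simpa using hi')
  · rw [hk]
  · rw [hk]
    exact orth_of hpE8.isCartan fun i hi i' hi' => or8d i (by simpa using hi) i' (by simpa using hi')

/-! ### `E₆` -/

theorem or6e : Or m6 [0] [1] := by decide +kernel

theorem res_E6 {r f : ℕ} (hr : r.Prime) (hf : f ≠ 0) (F : Type) [Field F] [Fintype F] (hF : Fintype.card F = r ^ f)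
    [CharP F r] {N : ℕ} (hN : Good N (r ^ f)) : Res ↥(chevE6.group F) N := by
  classical
  have : Fact r.Prime := ⟨hr⟩
  have := finite_group (K := F) chevE6
  have : Fintype ↥(chevE6.group F) := Fintype.ofFinite _
  have D := data_E6_3 hr hf hF
  have := D.fin
  have hT := TT_comm (K := F) (IsType.inList hpE6)
  have hsz : ∀ i, Good N (Nat.card (XX chevE6 6 F (sr i))) := fun i => by rw [D.size]; exact hN
  -- the character
  obtain ⟨θ, hθ⟩ : In hpE6.isCartan (XX chevE6 6 F) ({0} ∪ {1, 3, 4, 5}) :=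
    In.union D (in_node D 0 2 (by decide +kernel)) (by rw [← range_k64]; exact in_chain D (by norm_num) k64 hk64)
      (fun i hi i' hi' => or6_2 i (by simpa using hi) i' (by simpa using hi'))
  obtain ⟨ψ, ψ', hI⟩ := exists_ind_none D.rgd D.gg hθ fun w hw => by
    refine mem_WJ_of_mod (j := 2) (z := ![1, 0, -1, 0, 1, -1]) ?_ ?_ ?_ hw
    · intro i
      rw [← compl6_2]
      rfl
    · intro i
      have h3 := z6_mod i
      unfold pairing
      simp only [a6_eq hpE6.isCartan]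
      exact h3
    · decide
  -- the elliptic element
  obtain ⟨x, hxN, hx⟩ := exists_ell_two D.rgd (a := 0) (j := 2) (b := 1) (l := 3) (by decide +kernel) (by decide +kernel)
    (by decide) (orth_of hpE6.isCartan fun i hi i' hi' => or6e i (by simpa using hi) i' (by simpa using hi'))
    (hsz _) (hsz _)
  have hnot := not_mem_card D.rgd D.gg (K' := {0}) hx (by
    rw [Set.ncard_singleton, Set.ncard_pair (by decide)]; norm_num)
  refine ⟨x, hxN, ?_, vz_of D.rgd hI hxN (K' := {0}) ?_ hnot⟩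
  · rintro rfl
    apply hnot 1 1
    rw [map_one, mul_one, inv_one, mul_one]
    exact one_mem _
  intro l hl hlN hne
  refine kill_chain D.rgd hT (by norm_num) (by norm_num) (by decide) k64 hk64 (J₁ := {0} ∪ {1, 3, 4, 5}) (K'' := ∅)
      (K' := {0}) (Set.union_empty _).symm ?_ ?_ ?_ (Core.isIrr_isCharacter hI.irr) hI.van (fun i => hsz _) hl hl hlN hne
  · exact fun i _ j hj => absurd hj (Set.notMem_empty _)
  · rw [range_k64, Set.union_comm]
  · rw [range_k64]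
    exact (orth_of hpE6.isCartan fun i hi i' hi' => or6_2 i (by simpa using hi) i' (by simpa using hi')).symm

/-! ### `F₄` -/

theorem or4e : Or m4 [0] [3] := by decide +kernel

theorem res_F4 {r f : ℕ} (hr : r.Prime) (hf : f ≠ 0) (F : Type) [Field F] [Fintype F] (hF : Fintype.card F = r ^ f)
    [CharP F r] {N : ℕ} (hN : Good N (r ^ f)) : Res ↥(chevF4.group F) N := by
  classical
  have : Fact r.Prime := ⟨hr⟩
  have := finite_group (K := F) chevF4
  have : Fintype ↥(chevF4.group F) := Fintype.ofFinite _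
  have D := data_F4_2 hr hf hF
  have := D.fin
  have hT := TT_comm (K := F) (IsType.inList hpF4)
  have hsz : ∀ i, Good N (Nat.card (XX chevF4 4 F (sr i))) := fun i => by rw [D.size]; exact hN
  -- the character
  obtain ⟨θ', hθ'⟩ : In hpF4.isCartan (XX chevF4 4 F) {3} := in_node D 3 2 (by decide +kernel)
  obtain ⟨ψ, ψ', hI⟩ := exists_ind_one' D.rgd D.gg (j := 2) (k₀ := 1) (k₁ := 0) compl4
    (fun i hi i' hi' => or4 i (by simpa using hi) i' (by simpa using hi')) (by decide +kernel) (by decide +kernel)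
    (by decide +kernel) un4 hθ'
  -- the elliptic element
  obtain ⟨x, hxN, hx⟩ := exists_ell_two D.rgd (a := 0) (j := 1) (b := 3) (l := 2) (by decide +kernel) (by decide +kernel)
    (by decide) (orth_of hpF4.isCartan fun i hi i' hi' => or4e i (by simpa using hi) i' (by simpa using hi'))
    (hsz _) (hsz _)
  have hnot := not_mem_card D.rgd D.gg (K' := {3}) hx (by
    rw [Set.ncard_singleton, Set.ncard_pair (by decide)]; norm_num)
  refine ⟨x, hxN, ?_, vz_of D.rgd hI hxN (K' := {3}) ?_ hnot⟩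
  · rintro rfl
    apply hnot 1 1
    rw [map_one, mul_one, inv_one, mul_one]
    exact one_mem _
  intro l hl hlN hne
  obtain ⟨k, hk, hk'⟩ := chain_two (M := CoxeterMatrix.F₄) (k₀ := 1) (k₁ := 0) (by decide +kernel)
  refine kill_chain D.rgd hT le_rfl (by norm_num) (by decide) k hk' (J₁ := {i | i ≠ 2}) (K'' := ∅)
      (K' := {3}) (Set.union_empty _).symm ?_ ?_ ?_ (Core.isIrr_isCharacter hI.irr) hI.van (fun i => hsz _) hl hl hlN hne
  · exact fun i _ j hj => absurd hj (Set.notMem_empty _)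
  · rw [hk, compl4]
  · rw [hk]
    exact orth_of hpF4.isCartan fun i hi i' hi' => or4 i (by simpa using hi) i' (by simpa using hi')

/-! ### `²E₆` -/

open Cfsg.Agent.Nodes in
theorem res_TwE6 {r f q : ℕ} (hr : r.Prime) (hf : f ≠ 0) (hq : q = r ^ f) (K : Type) [Field K] [Fintype K]
    (hK : Fintype.card K = q ^ 2) [CharP K r] {N : ℕ} (hN : Good N q) : Res ↥(twistedE6 K q) N := by
  classical
  have : Fact r.Prime := ⟨hr⟩
  have hpp : IsPrimePow q := (isPrimePow_nat_iff q).2 ⟨r, f, hr, Nat.pos_of_ne_zero hf, hq.symm⟩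
  obtain ⟨φ, hφ, hqq⟩ := Cfsg.Agent.ChevalleyStructure.TwE6Basic.exists_frob hpp hK
  have : Finite ↥(twistedE6 K q) := by
    have : Finite (GL chevE6.Idx K) := by
      have : Finite (Matrix chevE6.Idx chevE6.Idx K) := inferInstance
      infer_instance
    infer_instance
  have : Fintype ↥(twistedE6 K q) := Fintype.ofFinite _
  have D := data_TwE6_2 hr hf hq hφ hqq hK
  have := D.fin
  have hT := T_comm_tw (K := K) (q := q)
  have hs0 : Nat.card (RGDTwE6.X φ q (sr 0)) = q := D.size 0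
  have hs1 : Nat.card (RGDTwE6.X φ q (sr 1)) = q := D.size 1
  have hs3 : Nat.card (RGDTwE6.X φ q (sr 3)) = q ^ 2 := D.size 3
  -- the character
  obtain ⟨θ', hθ'⟩ : In RGDTwE6.isCartan (RGDTwE6.X φ q) {3} := in_node D 3 2 (by decide +kernel)
  obtain ⟨ψ, ψ', hI⟩ := exists_ind_one' D.rgd D.gg (j := 2) (k₀ := 1) (k₁ := 0) compl4
    (fun i hi i' hi' => or4 i (by simpa using hi) i' (by simpa using hi')) (by decide +kernel) (by decide +kernel)
    (by decide +kernel) un4 hθ'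
  -- the elliptic element
  obtain ⟨x, hxN, hx⟩ := exists_ell_one D.rgd (a := 0) (j := 1) (by decide +kernel) (N := N) (by rw [hs0]; exact hN)
  have hnot := not_mem_size D.rgd D.gg (K' := {3}) hx (by
    rintro _ rfl
    rw [hs0, hs3]
    have := hpp.two_le
    nlinarith only [this])
  refine ⟨x, hxN, ?_, vz_of D.rgd hI hxN (K' := {3}) ?_ hnot⟩
  · rintro rfl
    apply hnot 1 1
    rw [map_one, mul_one, inv_one, mul_one]
    exact one_mem _
  intro l hl hlN hne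
  obtain ⟨k, hk, hk'⟩ := chain_two (M := CoxeterMatrix.F₄) (k₀ := 1) (k₁ := 0) (by decide +kernel)
  refine kill_chain D.rgd hT le_rfl (by norm_num) (by decide) k hk' (J₁ := {i | i ≠ 2}) (K'' := ∅)
      (K' := {3}) (Set.union_empty _).symm ?_ ?_ ?_ (Core.isIrr_isCharacter hI.irr) hI.van (fun i => ?_) hl hl hlN hne
  · exact fun i _ j hj => absurd hj (Set.notMem_empty _)
  · rw [hk, compl4]
  · rw [hk]
    exact orth_of RGDTwE6.isCartan fun i hi i' hi' => or4 i (by simpa using hi) i' (by simpa using hi')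
  · have h1 : k i ∈ ({1, 0} : Set (Fin 4)) := hk ▸ ⟨i, rfl⟩
    rcases h1 with h1 | h1
    · rw [h1, hs1]; exact hN
    · rw [Set.mem_singleton_iff] at h1
      rw [h1, hs0]; exact hN

/-! ### The rows -/

theorem good_p {p q : ℕ} (hp : p.Prime) (h2 : p ≠ 2) (hd : p ∣ q + 1) : Good p q := ⟨hd, Or.inl ⟨hp, h2⟩⟩

theorem good_four {q : ℕ} (hd : 4 ∣ q + 1) : Good 4 q := ⟨hd, Or.inr rfl⟩

theorem res_E8' (F : Type) [Field F] [Fintype F] {N : ℕ} (hN : Good N (Fintype.card F)) : Res ↥(chevE8.group F) N := by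
  obtain ⟨r, f, hr, hf, hF, hch⟩ := exists_prime_pow F
  exact res_E8 hr hf F hF (hF ▸ hN)

theorem res_E6' (F : Type) [Field F] [Fintype F] {N : ℕ} (hN : Good N (Fintype.card F)) : Res ↥(chevE6.group F) N := by
  obtain ⟨r, f, hr, hf, hF, hch⟩ := exists_prime_pow F
  exact res_E6 hr hf F hF (hF ▸ hN)

theorem res_F4' (F : Type) [Field F] [Fintype F] {N : ℕ} (hN : Good N (Fintype.card F)) : Res ↥(chevF4.group F) N := by
  obtain ⟨r, f, hr, hf, hF, hch⟩ := exists_prime_pow F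
  exact res_F4 hr hf F hF (hF ▸ hN)

theorem res_TwE6' (K : Type) [Field K] [Fintype K] {q : ℕ} (hq : IsPrimePow q) (hK : Fintype.card K = q ^ 2) {N : ℕ}
    (hN : Good N q) : Res ↥(twistedE6 K q) N := by
  obtain ⟨r, f, hr, hf, hqf⟩ := (isPrimePow_nat_iff q).1 hq
  have hch : CharP K r := by
    obtain ⟨r', g, hr', hg, hK', hch⟩ := exists_prime_pow K
    have h1 : r' = r := by
      have h2 : r' ∣ r ^ (f * 2) := by
        rw [pow_mul, hqf, ← hK, hK']
        exact dvd_pow_self _ hg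
      exact (Nat.prime_dvd_prime_iff_eq hr' hr).1 (hr'.dvd_of_dvd_pow h2)
    rwa [h1] at hch
  exact res_TwE6 hr hf.ne' hqf.symm K hK hN

/-- **`E₈(q)`, `p` odd, `p ∣ q + 1`.** -/
theorem vOrdP_E8_plus (F : Type) [Field F] [Fintype F] {p : ℕ} (hp : p.Prime) (h2 : p ≠ 2)
    (hd : p ∣ Fintype.card F + 1) : H620.PNorm.VOrdP p ↥(chevE8.group F) :=
  (res_E8' F (good_p hp h2 hd)).vOrdP hp

/-- **`E₈(q)`, `q = 3` mod `4`.** -/
theorem vPow_E8_plus (F : Type) [Field F] [Fintype F] (hd : 4 ∣ Fintype.card F + 1) :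
    H620.PNorm.VPow 2 ↥(chevE8.group F) := (res_E8' F (good_four hd)).vPow

/-- **`E₆(q)`, `p` odd, `p ∣ q + 1`.** -/
theorem vOrdP_E6_plus (F : Type) [Field F] [Fintype F] {p : ℕ} (hp : p.Prime) (h2 : p ≠ 2)
    (hd : p ∣ Fintype.card F + 1) : H620.PNorm.VOrdP p ↥(chevE6.group F) :=
  (res_E6' F (good_p hp h2 hd)).vOrdP hp

/-- **`E₆(q)`, `q = 3` mod `4`.** -/
theorem vPow_E6_plus (F : Type) [Field F] [Fintype F] (hd : 4 ∣ Fintype.card F + 1) :
    H620.PNorm.VPow 2 ↥(chevE6.group F) := (res_E6' F (good_four hd)).vPow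

/-- **`F₄(q)`, `p` odd, `p ∣ q + 1`.** -/
theorem vOrdP_F4_plus (F : Type) [Field F] [Fintype F] {p : ℕ} (hp : p.Prime) (h2 : p ≠ 2)
    (hd : p ∣ Fintype.card F + 1) : H620.PNorm.VOrdP p ↥(chevF4.group F) :=
  (res_F4' F (good_p hp h2 hd)).vOrdP hp

/-- **`F₄(q)`, `q = 3` mod `4`.** -/
theorem vPow_F4_plus (F : Type) [Field F] [Fintype F] (hd : 4 ∣ Fintype.card F + 1) :
    H620.PNorm.VPow 2 ↥(chevF4.group F) := (res_F4' F (good_four hd)).vPow

/-- **`²E₆(q)`, `p` odd, `p ∣ q + 1`.** -/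
theorem vOrdP_TwE6_plus (K : Type) [Field K] [Fintype K] {q : ℕ} (hq : IsPrimePow q) (hK : Fintype.card K = q ^ 2)
    {p : ℕ} (hp : p.Prime) (h2 : p ≠ 2) (hd : p ∣ q + 1) : H620.PNorm.VOrdP p ↥(twistedE6 K q) :=
  (res_TwE6' K hq hK (good_p hp h2 hd)).vOrdP hp

/-- **`²E₆(q)`, `q = 3` mod `4`.** -/
theorem vPow_TwE6_plus (K : Type) [Field K] [Fintype K] {q : ℕ} (hq : IsPrimePow q) (hK : Fintype.card K = q ^ 2)
    (hd : 4 ∣ q + 1) : H620.PNorm.VPow 2 ↥(twistedE6 K q) := (res_TwE6' K hq hK (good_four hd)).vPow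

end exc

end Cfsg.Agent.H928.Van
end

-- part: H526/Van/Asm
section
/-!
# S4555 and S4559: assembly of the exceptional rows (helper526)

* `VP p K` : `VOrdP p K` for `p` odd, `VPow p K`;
* `vp_E8`, `vp_E7`, `vp_E6`, `vp_F4`, `vp_TwE6` : complete;
* `vp_exc`, `vp_tw` : the fields `exc`, `tw` of `LieRows` from the rows of `G₂`, `³D₄`.
-/

set_option autoImplicit false
set_option linter.unusedSectionVars false

open Cfsg

namespace Cfsg.Agent.H526.Van

open Cfsg.Lie Cfsg.Agent.H620.PNorm Cfsg.Agent.H665.NoPQ Cfsg.Agent.H53.HC.ExcIM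

universe u

/-- `VOrdP` for `p` odd, `VPow` for all `p`. -/
def VP (p : ℕ) (K : Type*) [Group K] : Prop := (p ≠ 2 → VOrdP p K) ∧ VPow p K

theorem VP.of_odd {p : ℕ} {K : Type*} [Group K] (h : VOrdP p K) : VP p K := ⟨fun _ => h, h.vPow⟩

theorem VP.of_two {K : Type*} [Group K] (h : VPow 2 K) : VP 2 K := ⟨fun h => absurd rfl h, h⟩

theorem VP.of_dz {p : ℕ} [hp : Fact p.Prime] {K : Type*} [Group K] [Finite K] (h : HasDZ p K) (hd : p ∣ Nat.card K) :
    VP p K := .of_odd (H53.DZ.vOrdP_of_hasDZ h hd)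

theorem VP.mulEquiv {p : ℕ} {S : Type*} [Group S] {S' : Type*} [Group S'] (h : VP p S) (e : S ≃* S') : VP p S' :=
  ⟨fun h2 => (h.1 h2).mulEquiv e, h.2.mulEquiv e⟩

/-- the case distinction -/
theorem vp_split {G : Type*} [Group G] {q p : ℕ} (hp : p.Prime) (hpq : ¬ p ∣ q)
    (h1 : p ≠ 2 → p ∣ q - 1 → VOrdP p G) (h1' : 4 ∣ q - 1 → VPow 2 G)
    (h2 : p ≠ 2 → p ∣ q + 1 → VOrdP p G) (h2' : 4 ∣ q + 1 → VPow 2 G) (h3 : ¬ p ∣ q ^ 2 - 1 → VOrdP p G) :
    VP p G := by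
  by_cases hp2 : p = 2
  · subst hp2
    have h4 : q % 4 = 1 ∨ q % 4 = 3 := by omega
    rcases h4 with h4 | h4
    · exact .of_two (h1' (by omega))
    · exact .of_two (h2' (by omega))
  · by_cases h4 : p ∣ q ^ 2 - 1
    · have h5 : q ^ 2 - 1 = (q + 1) * (q - 1) := by
        have := Nat.sq_sub_sq q 1
        rwa [one_pow] at this
      rw [h5] at h4
      rcases hp.dvd_mul.1 h4 with h6 | h6
      · exact .of_odd (h2 hp2 h6)
      · exact .of_odd (h1 hp2 h6)
    · exact .of_odd (h3 h4)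

section split

variable {F : Type} [Field F] [Fintype F] {r : ℕ} [hch : CharP F r] {p : ℕ} [hp : Fact p.Prime]

theorem not_dvd_card (hpr : p ≠ r) : ¬ p ∣ Fintype.card F := by
  obtain ⟨r', f, hr, hf, hK, hch'⟩ := exists_prime_pow F
  have hrr : r' = r := CharP.eq F hch' hch
  subst hrr
  rw [hK]
  intro h
  exact hpr ((Nat.prime_dvd_prime_iff_eq hp.out hr).1 (hp.out.dvd_of_dvd_pow h))

theorem vp_E8 (hpr : p ≠ r) (hs : IsSimpleGroup ↥(chevE8.group F)) (hd : p ∣ Nat.card ↥(chevE8.group F)) :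
    VP p ↥(chevE8.group F) := by
  have := H53.HC.ExcRows.finite_group (K := F) chevE8
  refine vp_split hp.out (not_dvd_card (F := F) hpr) (fun h2 h => vOrdP_E8 hs h2 h) (fun h => vPow_E8 hs h)
    (fun h2 h => H928.Van.vOrdP_E8_plus F hp.out h2 h) (fun h => H928.Van.vPow_E8_plus F h) fun h => ?_
  obtain ⟨r', f, hr, hf, hK, hch'⟩ := exists_prime_pow F
  have hrr : r' = r := CharP.eq F hch' hch
  subst hrr
  rw [hK] at h
  exact H53.DZ.vOrdP_of_hasDZ (H622.Van.e8_dz hr hf hK hp.out hpr h) hd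

theorem vp_E7 (hpr : p ≠ r) (hs : IsSimpleGroup ↥(chevE7.group F)) (hd : p ∣ Nat.card ↥(chevE7.group F)) :
    VP p ↥(chevE7.group F) := by
  have := H53.HC.ExcRows.finite_group (K := F) chevE7
  obtain ⟨r', f, hr, hf, hK, hch'⟩ := exists_prime_pow F
  have hrr : r' = r := CharP.eq F hch' hch
  subst hrr
  have hq : ¬ p ∣ Fintype.card F := not_dvd_card (F := F) hpr
  by_cases h1 : p ∣ Fintype.card F - 1
  · by_cases hp2 : p = 2
    · subst hp2
      have h4 : Fintype.card F % 4 = 1 ∨ Fintype.card F % 4 = 3 := by omega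
      rcases h4 with h4 | h4
      · exact .of_two (vPow_E7 hs (by (clear * - h4; omega)))
      · rw [hK] at h4
        exact .of_dz (H622.Van.e7_dz_two hr hf hK h4) hd
    · exact .of_odd (vOrdP_E7 hs hp2 h1)
  · rw [hK] at h1
    exact .of_dz (H622.Van.e7_dz hr hf hK hp.out hpr h1) hd

theorem vp_E6 (hpr : p ≠ r) (hs : IsSimpleGroup ↥(chevE6.group F)) (hd : p ∣ Nat.card ↥(chevE6.group F)) :
    VP p ↥(chevE6.group F) := by
  have := H53.HC.ExcRows.finite_group (K := F) chevE6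
  exact vp_split hp.out (not_dvd_card (F := F) hpr) (fun h2 h => vOrdP_E6 hs h2 h) (fun h => vPow_E6 hs h)
    (fun h2 h => H928.Van.vOrdP_E6_plus F hp.out h2 h) (fun h => H928.Van.vPow_E6_plus F h)
    fun h => H53.DZ.vOrdP_E6 (MulEquiv.refl _) hpr h hd

theorem vp_F4 (hpr : p ≠ r) (hs : IsSimpleGroup ↥(chevF4.group F)) (hd : p ∣ Nat.card ↥(chevF4.group F)) :
    VP p ↥(chevF4.group F) := by
  have := H53.HC.ExcRows.finite_group (K := F) chevF4
  refine vp_split hp.out (not_dvd_card (F := F) hpr) (fun h2 h => vOrdP_F4 hs h2 h) (fun h => vPow_F4 hs h)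
    (fun h2 h => H928.Van.vOrdP_F4_plus F hp.out h2 h) (fun h => H928.Van.vPow_F4_plus F h) fun h => ?_
  obtain ⟨r', f, hr, hf, hK, hch'⟩ := exists_prime_pow F
  have hrr : r' = r := CharP.eq F hch' hch
  subst hrr
  rw [hK] at h
  exact H53.DZ.vOrdP_of_hasDZ (dz_F4 hr hf hK hp.out (fun h1 => hpr ((Nat.prime_dvd_prime_iff_eq hp.out hr).1 h1)) h) hd

end split

theorem vp_TwE6 {K : Type} [Field K] [Fintype K] {r : ℕ} [hch : CharP K r] {q : ℕ} (hq : IsPrimePow q)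
    (hK : Fintype.card K = q ^ 2) {p : ℕ} [hp : Fact p.Prime] (hpr : p ≠ r) (hs : IsSimpleGroup ↥(twistedE6 K q))
    (hd : p ∣ Nat.card ↥(twistedE6 K q)) : VP p ↥(twistedE6 K q) := by
  have : Finite ↥(twistedE6 K q) := TwE6.finite_tw
  have hpq : ¬ p ∣ q := fun h => not_dvd_card (F := K) hpr (by rw [hK]; exact dvd_pow h (by norm_num))
  exact vp_split hp.out hpq (fun h2 h => vOrdP_TwE6 hq hK hs h2 h) (fun h => vPow_TwE6 hq hK hs h)
    (fun h2 h => H928.Van.vOrdP_TwE6_plus K hq hK hp.out h2 h) (fun h => H928.Van.vPow_TwE6_plus K hq hK h)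
    fun h => H53.DZ.vOrdP_TwE6 hq hK (MulEquiv.refl _) hpr h hd

/-- what is still needed -/
structure Rest (p : ℕ) : Prop where
  g2 : ∀ (F : Type) [Field F] [Fintype F] (r : ℕ) [CharP F r], 3 ≤ Fintype.card F → p ≠ r →
    IsSimpleGroup ↥(chevG2.group F) → p ∣ Nat.card ↥(chevG2.group F) → VP p ↥(chevG2.group F)
  d4 : ∀ (K : Type) [Field K] [Fintype K] (r : ℕ) [CharP K r] (q : ℕ), IsPrimePow q → Fintype.card K = q ^ 3 → p ≠ r →
    IsSimpleGroup ↥(twistedD4 K q) → p ∣ Nat.card ↥(twistedD4 K q) → VP p ↥(twistedD4 K q)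

/-- **The exceptional Chevalley groups.** -/
theorem vp_exc {p : ℕ} [hp : Fact p.Prime] (H : Rest p) (K : Type u) [Group K] [Finite K] [hs : IsSimpleGroup K] (r : ℕ)
    (_ : r.Prime) (hpr : p ≠ r) (h : IsExceptionalChevChar r K) (hd : p ∣ Nat.card K) : VP p K := by
  obtain ⟨F, _, _, _, ⟨h3, ⟨e⟩⟩ | ⟨⟨e⟩⟩ | ⟨⟨e⟩⟩ | ⟨⟨e⟩⟩ | ⟨⟨e⟩⟩⟩ := h
  all_goals
    have hs' := simple_congr e hs
    have hd' := hd
    rw [Nat.card_congr e.toEquiv] at hd'
  · exact (H.g2 F r h3 hpr hs' hd').mulEquiv e.symm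
  · exact (vp_F4 hpr hs' hd').mulEquiv e.symm
  · exact (vp_E6 hpr hs' hd').mulEquiv e.symm
  · exact (vp_E7 hpr hs' hd').mulEquiv e.symm
  · exact (vp_E8 hpr hs' hd').mulEquiv e.symm

/-- **`²E₆(q)`, `³D₄(q)`.** -/
theorem vp_tw {p : ℕ} [hp : Fact p.Prime] (H : Rest p) (K : Type u) [Group K] [Finite K] [hs : IsSimpleGroup K] (r : ℕ)
    (_ : r.Prime) (hpr : p ≠ r) (h : IsTwistedE6D4Char r K) (hd : p ∣ Nat.card K) : VP p K := by
  obtain ⟨F, _, _, _, q, hq, ⟨hF, ⟨e⟩⟩ | ⟨hF, ⟨e⟩⟩⟩ := h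
  all_goals
    have hs' := simple_congr e hs
    have hd' := hd
    rw [Nat.card_congr e.toEquiv] at hd'
  · exact (vp_TwE6 hq hF hpr hs' hd').mulEquiv e.symm
  · exact (H.d4 F r q hq hF hpr hs' hd').mulEquiv e.symm

end Cfsg.Agent.H526.Van
end

private theorem dce_f31bf0b6acbf : _root_.True := by
  try have : _root_.True := by simp only [_root_.Cfsg.Agent.Nodes.RGDTwE6.J.eq_1]
  try have : _root_.True := by simp only [_root_.Cfsg.Agent.Nodes.RGDFold.V.eq_1]
  exact _root_.True.intro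
end

-- part: H649/VanC/Orth_mg
section
prune_inst 0x41530751505800008001c050270005ec3b20004b2004b84008d61034406c0cc6029838e21b120111b522288452039004811000020420000000a200400011d008018801202b049a008600016000000010000000000000000000000000000000000004010000
set_option linter.all false
open scoped Cfsg.Agent.FastGrp

-- part: H649/VanC/Orth
section
/-!
# Vanishing elements of the orthogonal groups: descent and automorphisms (helper649, for S4555 / S4559)

* `conj_omega` : if `x` fixes a hyperbolic pair then its class in `O(Q)` is its class in `Ω(Q)`;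
* `cj` : conjugation by a semisimilarity;
* `Shp F k n s` : `s ^ n = 1`, `dim [V,s] < 2k`, no totally singular `k`-space is fixed pointwise, a hyperbolic pair is
  fixed; this is stable under semisimilarities;
* `vz_orth` : if all automorphisms of `PΩ` are induced by semisimilarities and `χ ∈ Irr(O(Q))` vanishes on `Shp`,
  then `VZ (PΩ) x` for all `x` of this shape.
-/

set_option autoImplicit false

open scoped ComplexConjugate Matrix
open Cfsg

namespace Cfsg.Agent.H649.VanC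

open Module Cfsg.Agent.Characters Cfsg.Agent.H477.HC Cfsg.Agent.H53.HC QuadraticMap
open Cfsg.Agent.ClassicalGeometry.Reflection

universe u

section Conj

variable {ι : Type} [Fintype ι] [DecidableEq ι] {K : Type u} [Field K]

/-- the action of a matrix isometry -/
abbrev mv {Q : (ι → K) → K} (g : isometryGroup K Q) (v : ι → K) : ι → K := ((g : GL ι K) : Matrix ι ι K) *ᵥ v

theorem refl_comm (Q : QuadraticForm K (ι → K)) {x : isometryGroup K Q} {u : ι → K} (hu : Q u ≠ 0)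
    (hx : mv x u = u) : reflIso Q u hu * x = x * reflIso Q u hu := by
  have h1 := conj_reflIso Q u hu x (by rw [show ((x : GL ι K) : Matrix ι ι K) *ᵥ u = u from hx]; exact hu)
  have h2 : reflIso Q (((x : GL ι K) : Matrix ι ι K) *ᵥ u)
      (by rw [show ((x : GL ι K) : Matrix ι ι K) *ᵥ u = u from hx]; exact hu) = reflIso Q u hu := by
    have h3 : ((x : GL ι K) : Matrix ι ι K) *ᵥ u = u := hx
    congr 1
  rw [h2] at h1
  exact (mul_inv_eq_iff_eq_mul.1 h1).symm

theorem exists_val [Finite K] (Q : QuadraticForm K (ι → K)) {x : isometryGroup K Q} {e f : ι → K} (he : Q e = 0)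
    (hf : Q f = 0) (hef : polar Q e f ≠ 0) (hxe : mv x e = e) (hxf : mv x f = f) (c : K) :
    ∃ u : ι → K, Q u = c ∧ mv x u = u := by
  refine ⟨e + (c / polar Q e f) • f, ?_, ?_⟩
  · have h1 : Q (e + (c / polar Q e f) • f) = Q e + Q ((c / polar Q e f) • f) +
        polar Q e ((c / polar Q e f) • f) := by
      unfold polar; ring
    rw [h1, QuadraticMap.map_smul, he, hf, polar_smul_right, smul_eq_mul, smul_eq_mul]
    field_simp
    ring
  · rw [mv, Matrix.mulVec_add, Matrix.mulVec_smul]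
    rw [show ((x : GL ι K) : Matrix ι ι K) *ᵥ e = e from hxe, show ((x : GL ι K) : Matrix ι ι K) *ᵥ f = f from hxf]

/-- **the class of `x` in `O(Q)` is its class in `Ω(Q)`** if `x` fixes a hyperbolic pair -/
theorem conj_omega [Finite K] (Qf : (ι → K) → K) (Q : QuadraticForm K (ι → K)) (hQf : Qf = ⇑Q)
    (hQ : (polarBilin Q).Nondegenerate) (h5 : 5 ≤ Fintype.card ι) {x : isometryGroup K Qf} {e f : ι → K}
    (he : Qf e = 0) (hf : Qf f = 0) (hef : polar Qf e f ≠ 0) (hxe : mv x e = e) (hxf : mv x f = f)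
    (g : isometryGroup K Qf) :
    ∃ n : Omega K Qf, g * x * g⁻¹ = (n : isometryGroup K Qf) * x * (n : isometryGroup K Qf)⁻¹ := by
  subst hQf
  have key : ∃ h : isometryGroup K Q, h * x = x * h ∧ g * h⁻¹ ∈ commutator (isometryGroup K Q) := by
    by_cases h2 : (2 : K) = 0
    · obtain ⟨u, hu, hxu⟩ := exists_val Q he hf hef hxe hxf 1
      have hu0 : Q u ≠ 0 := by rw [hu]; exact one_ne_zero
      have : Nonempty ι := Fintype.card_pos_iff.1 (by omega)
      have hidx := Cfsg.Agent.ClassicalGeometry.OrthDickson.index_commutator_two Q h2 hQ (Or.inr (by omega))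
      have hr := Cfsg.Agent.ClassicalGeometry.OrthDickson.refl_notMem_commutator Q hQ (Or.inr (by omega)) u hu0
      by_cases hg : g ∈ commutator (isometryGroup K Q)
      · exact ⟨1, by rw [one_mul, mul_one], by rwa [inv_one, mul_one]⟩
      · refine ⟨reflIso Q u hu0, refl_comm Q hu0 hxu, ?_⟩
        rw [reflIso_inv, Subgroup.mul_mem_iff_of_index_two hidx]
        exact ⟨fun h => absurd h hg, fun h => absurd h hr⟩
    · obtain ⟨a, ha⟩ := FiniteField.exists_nonsquare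
        (F := K) (Cfsg.Agent.ClassicalGeometry.Universal.ringChar_ne_two h2)
      have ha0 : a ≠ 0 := by rintro rfl; exact ha IsSquare.zero
      obtain ⟨v, hv, hxv⟩ := exists_val Q he hf hef hxe hxf 1
      obtain ⟨w, hw, hxw⟩ := exists_val Q he hf hef hxe hxf a
      have hv0 : Q v ≠ 0 := by rw [hv]; exact one_ne_zero
      have hw0 : Q w ≠ 0 := by rw [hw]; exact ha0
      have h := Cfsg.Agent.ClassicalGeometry.OmegaIndex.abelianization_cases h2 Q hQ one_ne_zero v w hv0 hw0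
        ⟨1, by rw [hv]⟩ (by rw [hw, one_mul]; exact ha) (Abelianization.of g)
      have hc : ∀ h : isometryGroup K Q, Abelianization.of g = Abelianization.of h →
          g * h⁻¹ ∈ commutator (isometryGroup K Q) := by
        intro h hgh
        have h1 : Abelianization.of (g * h⁻¹) = 1 := by
          rw [map_mul, map_inv, hgh, mul_inv_cancel]
        exact (QuotientGroup.eq_one_iff _).1 h1
      rcases h with h | h | h | h
      · exact ⟨1, by rw [one_mul, mul_one], hc 1 (by rw [h, map_one])⟩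
      · exact ⟨_, refl_comm Q hv0 hxv, hc _ h⟩
      · exact ⟨_, refl_comm Q hw0 hxw, hc _ h⟩
      · refine ⟨reflIso Q v hv0 * reflIso Q w hw0, ?_, hc _ (by rw [h, map_mul])⟩
        rw [mul_assoc, refl_comm Q hw0 hxw, ← mul_assoc, refl_comm Q hv0 hxv, mul_assoc]
  obtain ⟨h, hh, hm⟩ := key
  refine ⟨⟨g * h⁻¹, hm⟩, ?_⟩
  have h1 : h⁻¹ * x * h = x := by rw [mul_assoc, ← hh, inv_mul_cancel_left]
  calc g * x * g⁻¹ = g * (h⁻¹ * x * h) * g⁻¹ := by rw [h1]
    _ = _ := by group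

end Conj

section Semi

variable {ι : Type} [Fintype ι] [DecidableEq ι] {K : Type u} [Field K] {Q : (ι → K) → K}

/-- conjugation of a linear automorphism by a semilinear one -/
def cjL {σ : K ≃+* K} {T : (ι → K) ≃+ (ι → K)} (hT : ∀ (c : K) (v : ι → K), T (c • v) = σ c • T v)
    (g : (ι → K) ≃ₗ[K] (ι → K)) : (ι → K) ≃ₗ[K] (ι → K) where
  toFun v := T (g (T.symm v))
  invFun v := T (g.symm (T.symm v))
  left_inv v := by simp
  right_inv v := by simp
  map_add' u v := by simp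
  map_smul' c v := by
    have h1 : T.symm (c • v) = σ.symm c • T.symm v := by
      apply T.injective
      rw [AddEquiv.apply_symm_apply, hT, RingEquiv.apply_symm_apply, AddEquiv.apply_symm_apply]
    simp only [RingHom.id_apply]
    rw [h1, map_smul, hT, RingEquiv.apply_symm_apply]

theorem cjL_apply {σ : K ≃+* K} {T : (ι → K) ≃+ (ι → K)} (hT : ∀ (c : K) (v : ι → K), T (c • v) = σ c • T v)
    (g : (ι → K) ≃ₗ[K] (ι → K)) (v : ι → K) : cjL hT g (T v) = T (g v) := by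
  change T (g (T.symm (T v))) = _
  rw [AddEquiv.symm_apply_apply]

/-- conjugation of isometries by a semisimilarity -/
noncomputable def cj {σ : K ≃+* K} {μ : K} {T : (ι → K) ≃+ (ι → K)}
    (hT : ∀ (c : K) (v : ι → K), T (c • v) = σ c • T v) (hQ : ∀ v, Q (T v) = μ * σ (Q v)) :
    isometryGroup K Q →* isometryGroup K Q where
  toFun g := ⟨matE.symm (cjL hT (matE (g : GL ι K))), fun v _ => by
    have h1 : ∀ v, Q ((matE.symm (cjL hT (matE (g : GL ι K))) : Matrix ι ι K) *ᵥ v) = Q v := by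
      intro v
      rw [← matE_apply, MulEquiv.apply_symm_apply]
      obtain ⟨w, rfl⟩ := T.surjective v
      rw [cjL_apply, hQ, hQ]
      congr 2
      exact g.2 w w
    exact h1 v⟩
  map_one' := by
    apply Subtype.ext
    apply matE.injective
    change matE (matE.symm _) = _
    rw [MulEquiv.apply_symm_apply]
    ext1 v
    obtain ⟨w, rfl⟩ := T.surjective v
    rw [cjL_apply]
    simp
  map_mul' g h := by
    apply Subtype.ext
    apply matE.injective
    change matE (matE.symm _) = matE (matE.symm _ * matE.symm _)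
    rw [MulEquiv.apply_symm_apply, map_mul, MulEquiv.apply_symm_apply, MulEquiv.apply_symm_apply]
    ext1 v
    obtain ⟨w, rfl⟩ := T.surjective v
    rw [LinearEquiv.mul_apply, cjL_apply, cjL_apply, cjL_apply, Subgroup.coe_mul, map_mul, LinearEquiv.mul_apply]

theorem cj_mv {σ : K ≃+* K} {μ : K} {T : (ι → K) ≃+ (ι → K)}
    (hT : ∀ (c : K) (v : ι → K), T (c • v) = σ c • T v) (hQ : ∀ v, Q (T v) = μ * σ (Q v)) (g : isometryGroup K Q)
    (v : ι → K) : mv (cj hT hQ g) (T v) = T (mv g v) := by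
  change matE (matE.symm (cjL hT (matE (g : GL ι K)))) (T v) = _
  rw [MulEquiv.apply_symm_apply, cjL_apply]
  rfl

theorem cj_mem {σ : K ≃+* K} {μ : K} {T : (ι → K) ≃+ (ι → K)}
    (hT : ∀ (c : K) (v : ι → K), T (c • v) = σ c • T v) (hQ : ∀ v, Q (T v) = μ * σ (Q v)) {g : isometryGroup K Q}
    (hg : g ∈ Omega K Q) : cj hT hQ g ∈ Omega K Q := by
  have h1 : (commutator (isometryGroup K Q)).map (cj hT hQ) ≤ commutator (isometryGroup K Q) := by
    rw [commutator_def, Subgroup.map_commutator]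
    exact Subgroup.commutator_mono le_top le_top
  exact h1 (Subgroup.mem_map_of_mem _ hg)

end Semi

section Shape

variable {ι : Type} [Fintype ι] [DecidableEq ι] {K : Type u} [Field K]

/-- the shape of the elements -/
def Shp (F : CForm K (ι → K)) (k n : ℕ) (s : (ι → K) ≃ₗ[K] (ι → K)) : Prop :=
  s ^ n = 1 ∧ finrank K (LinearMap.range ((s : (ι → K) →ₗ[K] (ι → K)) - 1)) < 2 * k ∧
    (∀ W ∈ F.Om k, ∃ w ∈ W, s w ≠ w) ∧
    ∃ e f, F.Q e = 0 ∧ F.Q f = 0 ∧ F.B e f ≠ 0 ∧ s e = e ∧ s f = f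

variable {σ : K ≃+* K} {T : (ι → K) ≃+ (ι → K)}

/-- the preimage of a subspace under a semilinear map -/
def preT (hT : ∀ (c : K) (v : ι → K), T (c • v) = σ c • T v) (W : Submodule K (ι → K)) : Submodule K (ι → K) where
  carrier := {v | T v ∈ W}
  add_mem' {a b} ha hb := by
    change T (a + b) ∈ W
    rw [map_add]; exact W.add_mem ha hb
  zero_mem' := by
    change T 0 ∈ W
    rw [map_zero]; exact W.zero_mem
  smul_mem' c v hv := by
    change T (c • v) ∈ W
    rw [hT]; exact W.smul_mem _ hv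

theorem finrank_preT [Finite K] (hT : ∀ (c : K) (v : ι → K), T (c • v) = σ c • T v) (W : Submodule K (ι → K)) :
    finrank K (preT hT W) = finrank K W := by
  have h1 : Nat.card (preT hT W) = Nat.card W :=
    Nat.card_congr
      { toFun := fun v => ⟨T v, v.2⟩
        invFun := fun w => ⟨T.symm w, by
          change T (T.symm w) ∈ W
          rw [AddEquiv.apply_symm_apply]; exact w.2⟩
        left_inv := fun v => by simp
        right_inv := fun w => by simp }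
  rw [Module.natCard_eq_pow_finrank (K := K), Module.natCard_eq_pow_finrank (K := K) (V := W)] at h1
  exact Nat.pow_right_injective Finite.one_lt_card h1

theorem Shp.semi [Finite K] {F : CForm K (ι → K)} (hB : ∀ u v, F.B u v = F.Q (u + v) - F.Q u - F.Q v) {k n : ℕ}
    {s s' : (ι → K) ≃ₗ[K] (ι → K)} (h : Shp F k n s) {μ : K} (hμ : μ ≠ 0)
    (hT : ∀ (c : K) (v : ι → K), T (c • v) = σ c • T v) (hQ : ∀ v, F.Q (T v) = μ * σ (F.Q v))
    (hs : ∀ v, s' (T v) = T (s v)) : Shp F k n s' := by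
  obtain ⟨h1, h2, h3, e, f, he, hf, hef, hse, hsf⟩ := h
  have hBT : ∀ u v, F.B (T u) (T v) = μ * σ (F.B u v) := by
    intro u v
    rw [hB, hB, ← map_add, hQ, hQ, hQ, map_sub, map_sub]
    ring
  have hpow : ∀ j v, (s' ^ j) (T v) = T ((s ^ j) v) := by
    intro j
    induction j with
    | zero => intro v; simp
    | succ j ih => intro v; rw [pow_succ, LinearEquiv.mul_apply, hs, ih, pow_succ, LinearEquiv.mul_apply]
  refine ⟨?_, ?_, ?_, T e, T f, ?_, ?_, ?_, ?_, ?_⟩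
  · ext1 v
    obtain ⟨w, rfl⟩ := T.surjective v
    rw [hpow, h1]
    rfl
  · have h4 : preT hT (LinearMap.range ((s' : (ι → K) →ₗ[K] (ι → K)) - 1)) =
        LinearMap.range ((s : (ι → K) →ₗ[K] (ι → K)) - 1) := by
      ext v
      change T v ∈ LinearMap.range ((s' : (ι → K) →ₗ[K] (ι → K)) - 1) ↔ _
      rw [LinearMap.mem_range, LinearMap.mem_range]
      constructor
      · rintro ⟨y, hy⟩
        obtain ⟨w, rfl⟩ := T.surjective y
        refine ⟨w, T.injective ?_⟩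
        rw [← hy]
        simp only [LinearMap.sub_apply, LinearEquiv.coe_coe, Module.End.one_apply, map_sub, hs]
      · rintro ⟨w, rfl⟩
        refine ⟨T w, ?_⟩
        simp only [LinearMap.sub_apply, LinearEquiv.coe_coe, Module.End.one_apply, map_sub, hs]
    rw [← finrank_preT hT, h4]
    exact h2
  · intro W hW
    have hW' : preT hT W ∈ F.Om k := by
      refine ⟨?_, by rw [finrank_preT]; exact hW.2⟩
      refine ⟨fun v hv => ?_, fun u hu v hv => ?_⟩
      · have := hW.1.1 (T v) (show T v ∈ W from hv)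
        rw [hQ] at this
        have h5 := (mul_eq_zero.1 this).resolve_left hμ
        exact (map_eq_zero σ).1 h5
      · have := hW.1.2 (T u) (show T u ∈ W from hu) (T v) (show T v ∈ W from hv)
        rw [hBT] at this
        have h5 := (mul_eq_zero.1 this).resolve_left hμ
        exact (map_eq_zero σ).1 h5
    obtain ⟨w, hw, hw'⟩ := h3 _ hW'
    refine ⟨T w, hw, fun h => hw' ?_⟩
    rw [hs] at h
    exact T.injective h
  · rw [hQ, he, map_zero, mul_zero]
  · rw [hQ, hf, map_zero, mul_zero]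
  · rw [hBT]
    exact mul_ne_zero hμ ((map_ne_zero σ).2 hef)
  · rw [hs, hse]
  · rw [hs, hsf]

end Shape

section Main

variable {ι : Type} [Fintype ι] [DecidableEq ι] {K : Type u} [Field K] [Finite K]

/-- **`VZ` in the orthogonal groups** -/
theorem vz_orth (F : CForm K (ι → K)) (hB : ∀ u v, F.B u v = F.Q (u + v) - F.Q u - F.Q v)
    (Q : QuadraticForm K (ι → K)) (hFQ : F.Q = ⇑Q) (hQ : (polarBilin Q).Nondegenerate) (h5 : 5 ≤ Fintype.card ι)
    (haut : ∀ α : MulAut (POmega K F.Q), Cfsg.Agent.AutOrth.Main.Ind F.Q α) {k n : ℕ} {χ : F.iso → ℂ}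
    (hχ : IsIrrCharacter F.iso χ) {Z : Kˣ → Prop}
    (hχz : ∀ (z : F.iso) (a : Kˣ), Z a → (∀ v, (z : (ι → K) ≃ₗ[K] (ι → K)) v = (a : K) • v) → χ z = χ 1)
    (hcen : ∀ z : Omega K F.Q, z ∈ Subgroup.center (Omega K F.Q) → ∃ a : Kˣ, Z a ∧ ∀ v, (omMat z).mulVec v = (a : K) • v)
    (hv : ∀ s : F.iso, Shp F k n s → χ s = 0) {x : Omega K F.Q}
    (hx : Shp F k n (isoQuad F hB (x : isometryGroup K F.Q) : F.iso)) :
    H713.VZ (POmega K F.Q) (QuotientGroup.mk x) := by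
  have hfin : Finite (isometryGroup K F.Q) := inferInstance
  refine vz_down (Omega K F.Q) (χ := χ ∘ (isoQuad F hB).toMonoidHom)
    (Core.isIrr_comp _ (isoQuad F hB).surjective hχ) (fun z hz => ?_)
    {x | Shp F k n (isoQuad F hB (x : isometryGroup K F.Q) : F.iso)} (fun y hy g => ?_) (fun y hy => hv _ hy)
    (fun α y hy => ?_) x hx
  · obtain ⟨a, ha, h⟩ := hcen z hz
    rw [Function.comp_apply, Function.comp_apply, map_one]
    exact hχz _ a ha h
  · obtain ⟨h1, h2, h3, e, f, he, hf, hef, hse, hsf⟩ := hy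
    refine conj_omega F.Q Q hFQ hQ h5 he hf ?_ hse hsf g
    rwa [hB] at hef
  · obtain ⟨σ, μ, T, ⟨hμ, hT, hQT⟩, hT'⟩ := haut α
    refine ⟨⟨cj hT hQT y, cj_mem hT hQT y.2⟩, ?_, ?_⟩
    · exact hy.semi hB hμ hT hQT fun v => cj_mv hT hQT _ v
    · exact hT' y _ fun v => cj_mv hT hQT _ v

end Main

end Cfsg.Agent.H649.VanC
end

-- part: H594/VzCen
section
/-!
# Zeros of characters without fixed vectors: the parabolic `N(Z(W))`, `W` a Sylow `r`-subgroup (helper594)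

`K` a finite simple group with a split (B, N)-pair of characteristic `r`, `W` a Sylow `r`-subgroup,
`cen W = Z(W)`, `nor W = N(Z(W))`, `rad W = O_r(N(Z(W)))` (the intersection of the conjugates of `W` under `nor W`).
Some irreducible character `χ` vanishes at all images under automorphisms of all elements `s ∈ nor W` with
`C_{rad W}(s) = 1` (`exists_char`, `vz_of_rad`).
-/

set_option autoImplicit false

open scoped Pointwise

namespace Cfsg.Agent.H594.VzCen

open Cfsg Cfsg.Agent.Characters Cfsg.Agent.FixBN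

variable {K : Type*} [Group K]

/-- the centre of `W` -/
def cen (W : Subgroup K) : Subgroup K where
  carrier := {z | z ∈ W ∧ ∀ w ∈ W, z * w = w * z}
  one_mem' := ⟨one_mem _, fun w _ => by rw [one_mul, mul_one]⟩
  mul_mem' := by
    rintro a b ⟨ha, ha'⟩ ⟨hb, hb'⟩
    exact ⟨mul_mem ha hb, fun w hw => by rw [mul_assoc, hb' w hw, ← mul_assoc, ha' w hw, mul_assoc]⟩
  inv_mem' := by
    rintro a ⟨ha, ha'⟩
    refine ⟨inv_mem ha, fun w hw => ?_⟩
    have := ha' w hw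
    calc a⁻¹ * w = a⁻¹ * (w * a) * a⁻¹ := by group
      _ = a⁻¹ * (a * w) * a⁻¹ := by rw [this]
      _ = w * a⁻¹ := by group

theorem mem_cen {W : Subgroup K} {z : K} : z ∈ cen W ↔ z ∈ W ∧ ∀ w ∈ W, z * w = w * z := Iff.rfl

/-- `N(Z(W))` -/
def nor (W : Subgroup K) : Subgroup K := Subgroup.normalizer (cen W : Set K)

theorem mem_nor {W : Subgroup K} {k : K} : k ∈ nor W ↔ ∀ z, z ∈ cen W ↔ k * z * k⁻¹ ∈ cen W :=
  Subgroup.mem_normalizer_iff

/-- the intersection of the conjugates of `W` under `N(Z(W))` -/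
def rad (W : Subgroup K) : Subgroup K where
  carrier := {v | ∀ k ∈ nor W, k⁻¹ * v * k ∈ W}
  one_mem' := fun k _ => by
    have : k⁻¹ * 1 * k = 1 := by group
    rw [this]; exact one_mem _
  mul_mem' := by
    intro a b ha hb k hk
    have : k⁻¹ * (a * b) * k = (k⁻¹ * a * k) * (k⁻¹ * b * k) := by group
    rw [this]
    exact mul_mem (ha k hk) (hb k hk)
  inv_mem' := by
    intro a ha k hk
    have : k⁻¹ * a⁻¹ * k = (k⁻¹ * a * k)⁻¹ := by group
    rw [this]
    exact inv_mem (ha k hk)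

theorem mem_rad {W : Subgroup K} {v : K} : v ∈ rad W ↔ ∀ k ∈ nor W, k⁻¹ * v * k ∈ W := Iff.rfl

/-! ### transport -/

section transport

variable (f : K ≃* K) {W W' : Subgroup K} (h : ∀ y, y ∈ W ↔ f y ∈ W')

include h

theorem cen_iff (y : K) : y ∈ cen W ↔ f y ∈ cen W' := by
  rw [mem_cen, mem_cen, ← h]
  refine and_congr_right fun _ => ?_
  constructor
  · intro h1 w hw
    obtain ⟨w, rfl⟩ := f.surjective w
    rw [← map_mul, h1 w ((h w).2 hw), map_mul]
  · intro h1 w hw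
    apply f.injective
    rw [map_mul, map_mul]
    exact h1 _ ((h w).1 hw)

theorem nor_iff (y : K) : y ∈ nor W ↔ f y ∈ nor W' := by
  rw [mem_nor, mem_nor]
  constructor
  · intro h1 z
    obtain ⟨z, rfl⟩ := f.surjective z
    rw [← cen_iff f h, ← map_inv, ← map_mul, ← map_mul, ← cen_iff f h]
    exact h1 z
  · intro h1 z
    have := h1 (f z)
    rw [← cen_iff f h, ← map_inv, ← map_mul, ← map_mul, ← cen_iff f h] at this
    exact this

theorem rad_iff (y : K) : y ∈ rad W ↔ f y ∈ rad W' := by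
  rw [mem_rad, mem_rad]
  constructor
  · intro h1 k hk
    obtain ⟨k, rfl⟩ := f.surjective k
    rw [← map_inv, ← map_mul, ← map_mul, ← h]
    exact h1 k ((nor_iff f h k).2 hk)
  · intro h1 k hk
    rw [h, map_mul, map_mul, map_inv]
    exact h1 _ ((nor_iff f h k).1 hk)

end transport

theorem nor_conj_rad {W : Subgroup K} {s : K} (hs : s ∈ nor W) (u : K) : u ∈ rad W ↔ s * u * s⁻¹ ∈ rad W := by
  rw [mem_rad, mem_rad]
  constructor
  · intro h k hk
    have := h (s⁻¹ * k) (mul_mem (inv_mem hs) hk)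
    have e : (s⁻¹ * k)⁻¹ * u * (s⁻¹ * k) = k⁻¹ * (s * u * s⁻¹) * k := by group
    rwa [e] at this
  · intro h k hk
    have := h (s * k) (mul_mem hs hk)
    have e : (s * k)⁻¹ * (s * u * s⁻¹) * (s * k) = k⁻¹ * u * k := by group
    rwa [e] at this

theorem normalizer_le_nor {W : Subgroup K} {b : K} (hb : ∀ u, u ∈ W ↔ b * u * b⁻¹ ∈ W) : b ∈ nor W := by
  rw [mem_nor]
  intro z
  have := cen_iff (MulAut.conj b) (W := W) (W' := W) (fun y => by rw [MulAut.conj_apply]; exact hb y) z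
  rwa [MulAut.conj_apply] at this

/-- **An irreducible character vanishing at the elements of `N(Z(W))` acting fixed point freely on the radical**,
and at their images under automorphisms. -/
theorem exists_char [Finite K] [IsSimpleGroup K] {r : ℕ} [hr : Fact r.Prime] (hS : HasSplit r K) :
    ∃ χ : IrrCharacter K, ∀ (W : Sylow r K) (s : K), s ∈ nor (W : Subgroup K) →
      (∀ v ∈ rad (W : Subgroup K), s * v = v * s → v = 1) → ∀ α : MulAut K, (χ : K → ℂ) (α s) = 0 := by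
  classical
  obtain ⟨P, U, hne, h⟩ := hS
  obtain ⟨Q, hQ⟩ := H612.CharTwo.exists_sylow h
  have hU : IsPGroup r U := h.isP
  have hB : P.B ≤ nor U := by
    intro b hb
    rw [← h.normalizer_eq, Subgroup.mem_normalizer_iff] at hb
    exact normalizer_le_nor hb
  -- `Z(U)` is neither trivial nor the whole group
  have hBt : P.B ≠ ⊤ := by
    obtain ⟨s, hs⟩ := hne
    intro hB
    exact LieExceptional.BNPairCore.not_mem_B hs (by rw [hB]; trivial)
  have hUb : U ≠ ⊥ := by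
    rintro rfl
    apply hBt
    rw [← h.normalizer_eq, eq_top_iff]
    intro x _
    rw [Subgroup.mem_normalizer_iff]
    intro y
    constructor
    · intro hy
      have hy' : y = 1 := Subgroup.mem_bot.1 hy
      have : x * y * x⁻¹ = 1 := by rw [hy']; group
      exact Subgroup.mem_bot.2 this
    · intro hy
      have hy' : x * y * x⁻¹ = 1 := Subgroup.mem_bot.1 hy
      have : y = 1 := by
        have h2 : y = x⁻¹ * (x * y * x⁻¹) * x := by group
        rw [h2, hy']; group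
      exact Subgroup.mem_bot.2 this
  have hntU : Nontrivial U := (Subgroup.nontrivial_iff_ne_bot U).2 hUb
  obtain ⟨⟨z, hz⟩, hz1⟩ := @exists_ne _ hU.center_nontrivial 1
  have hzc : (z : K) ∈ cen U := ⟨z.2, fun w hw => by
    have := (Subgroup.mem_center_iff.1 hz) ⟨w, hw⟩
    exact (congrArg Subtype.val this).symm⟩
  have hnor : nor U ≠ ⊤ := by
    intro htop
    have hn : (cen U).Normal := Subgroup.normalizer_eq_top_iff.1 htop
    rcases IsSimpleGroup.eq_bot_or_eq_top_of_normal (cen U) hn with h1 | h1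
    · apply hz1
      apply Subtype.ext
      apply Subtype.ext
      have : (z : K) ∈ (⊥ : Subgroup K) := h1 ▸ hzc
      exact Subgroup.mem_bot.1 this
    · apply hBt
      rw [eq_top_iff, ← h1]
      exact fun y hy => h.le hy.1
  have : Fintype (rad U) := Fintype.ofFinite _
  obtain ⟨χ, hχ⟩ := H40.GGS.exists_no_fixed_par h (nor U) hB hnor (rad U) (fun v => Iff.rfl)
  refine ⟨χ, fun W s hs hreg α => ?_⟩
  obtain ⟨g, hg⟩ := MulAction.exists_smul_eq K (α • W) Q
  -- `f = conj g ∘ α` maps `W` to `U`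
  let f : K ≃* K := α.trans (MulAut.conj g)
  have hf : ∀ y, f y = g * α y * g⁻¹ := fun y => rfl
  have hfW : ∀ y, y ∈ (W : Subgroup K) ↔ f y ∈ U := by
    intro y
    rw [← hQ, ← hg, Sylow.coe_subgroup_smul, Subgroup.mem_pointwise_smul_iff_inv_smul_mem]
    have h1 : (MulAut.conj g)⁻¹ • f y = α y := by
      rw [hf]
      change (MulAut.conj g)⁻¹ (g * α y * g⁻¹) = _
      rw [← map_inv, MulAut.conj_apply]
      group
    rw [h1, Sylow.pointwise_smul_def, Subgroup.mem_pointwise_smul_iff_inv_smul_mem]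
    have h2 : α⁻¹ • α y = y := by
      change α⁻¹ (α y) = y
      exact MulEquiv.symm_apply_apply α y
    rw [h2]
  have hcl : (χ : K → ℂ) (α s) = (χ : K → ℂ) (f s) := by
    rw [hf]
    exact (Core.isIrr_isClassFunction χ.2 (α s) g).symm
  rw [hcl]
  have hs' : f s ∈ nor U := (nor_iff f hfW s).1 hs
  refine H720.PV.zero_of_regular (rad U) χ.2 hχ (nor_conj_rad hs') fun u hu hc => ?_
  obtain ⟨u, rfl⟩ := f.surjective u
  have hu' := (rad_iff f hfW u).2 hu
  rw [← map_mul, ← map_mul] at hc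
  rw [hreg u hu' (f.injective hc), map_one]

theorem vz_of_rad [Finite K] [IsSimpleGroup K] {r : ℕ} [hr : Fact r.Prime] (hS : HasSplit r K) (W : Sylow r K)
    {s : K} (hs : s ∈ nor (W : Subgroup K)) (h : ∀ v ∈ rad (W : Subgroup K), s * v = v * s → v = 1) :
    H713.VZ K s := by
  obtain ⟨χ, hχ⟩ := exists_char hS
  exact ⟨χ, fun α => hχ W s hs h α⟩

end Cfsg.Agent.H594.VzCen
end

private theorem dce_de164d9b3f66 : _root_.True := by
  try have : _root_.True := by simp only [_root_.Cfsg.Agent.H649.VanC.mv.eq_1]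
  exact _root_.True.intro
end

-- part: H984/PV/Tool
section
set_option linter.all false
open scoped Cfsg.Agent.FastGrp

/-!
# Zeros of characters at rational elements that are `r`-th powers (helper984)

* `card_ne_zero_le` : at most `#C(w)` irreducible characters do not vanish at `w`.
* `dvd_of_zero` : if `χ w = 0` and `w ^ r = x` is rational then `r ∣ χ x`.
* `dvd_of_two` : if `x` is a rational `p`-element then `χ x ≡ χ 1` modulo `p`.
* `van_of_two` : `x` rational 2-element, `x = w ^ r`, `r` odd: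
  `#C(x) + (r² - 1) #C(w) < r² k(G) + 3 e` with `e` characters of even degree gives a zero at `x`.
-/

set_option autoImplicit false

namespace Cfsg.Agent.H984.PV

open Cfsg Cfsg.Agent.Characters.Core Cfsg.Agent.H713
open Cfsg.Agent.OddOrderCharacters.PF13.SumBound

universe u

/-- At most `#C(w)` irreducible characters do not vanish at `w`. -/
theorem card_ne_zero_le {G : Type u} [Group G] [Finite G] (w : G) :
    Nat.card {χ : IrrCharacter G // (χ : G → ℂ) w ≠ 0} ≤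
      Nat.card (Subgroup.centralizer ({w} : Set G)) := by
  classical
  have := Fintype.ofFinite G
  have := finite_irr (G := G)
  have := Fintype.ofFinite (IrrCharacter G)
  set X : Finset G := Finset.univ.filter fun g => ∃ m : ℕ, m.Coprime (Nat.card G) ∧ w ^ m = g with hX
  have hwX : w ∈ X := by
    rw [hX, Finset.mem_filter]
    exact ⟨Finset.mem_univ _, 1, Nat.coprime_one_left _, pow_one w⟩
  have hXpos : 0 < X.card := Finset.card_pos.2 ⟨w, hwX⟩
  have hclosed : ∀ g ∈ X, ∀ m : ℕ, m.Coprime (Nat.card G) → g ^ m ∈ X := by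
    intro g hg m hm
    rw [hX, Finset.mem_filter] at hg ⊢
    obtain ⟨-, k, hk, rfl⟩ := hg
    exact ⟨Finset.mem_univ _, k * m, Nat.Coprime.mul_left hk hm, by rw [pow_mul]⟩
  have hcent : ∀ g ∈ X, Nat.card (Subgroup.centralizer ({g} : Set G)) =
      Nat.card (Subgroup.centralizer ({w} : Set G)) := by
    intro g hg
    rw [hX, Finset.mem_filter] at hg
    obtain ⟨-, k, hk, rfl⟩ := hg
    have h2 : Subgroup.centralizer ({w ^ k} : Set G) = Subgroup.centralizer ({w} : Set G) := by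
      have hk' : k.Coprime (orderOf w) := hk.coprime_dvd_right (orderOf_dvd_natCard w)
      ext x
      rw [Subgroup.mem_centralizer_singleton_iff, Subgroup.mem_centralizer_singleton_iff]
      constructor
      · intro hx
        have h1 : w ∈ Subgroup.zpowers (w ^ k) := by
          rw [mem_zpowers_pow_iff]
          exact hk'
        rw [← mem_powers_iff_mem_zpowers] at h1
        obtain ⟨l, hl⟩ := h1
        have h3 : Commute x ((w ^ k) ^ l) := Commute.pow_right (show Commute x (w ^ k) from hx) l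
        have h4 : (w ^ k) ^ l = w := hl
        rw [h4] at h3
        exact h3
      · intro hx
        exact Commute.pow_right (show Commute x w from hx) k
    rw [h2]
  have key : ∀ χ : IrrCharacter G, (χ : G → ℂ) w ≠ 0 → (X.card : ℝ) ≤
      ∑ g ∈ X, ‖(χ : G → ℂ) g‖ ^ 2 := by
    intro χ hne
    have h1 := card_le_sum_sq (G := G) (Finset.univ : Finset (Fin 1)) (fun _ => (χ : G → ℂ)) ?_ X
      hclosed ?_
    · refine h1.trans (le_of_eq ?_)
      refine Finset.sum_congr rfl fun g _ => ?_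
      rw [Finset.sum_const, Finset.card_univ, Fintype.card_fin, one_smul]
    · intro _ _
      exact isGeneralizedCharacter_def.2 ⟨_, 0, isIrr_isCharacter χ.2, isCharacter_zero,
        by rw [sub_zero]⟩
    · intro g hg
      refine ⟨0, Finset.mem_univ _, ?_⟩
      rw [hX, Finset.mem_filter] at hg
      obtain ⟨-, k, hk, rfl⟩ := hg
      have hk' : k.Coprime (orderOf w) := hk.coprime_dvd_right (orderOf_dvd_natCard w)
      intro h0
      exact hne ((Cfsg.Agent.H710.VanCount.zero_pow_iff χ hk').1 h0)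
  set N : Finset (IrrCharacter G) := Finset.univ.filter fun χ => (χ : G → ℂ) w ≠ 0 with hN
  have hNc : Nat.card {χ : IrrCharacter G // (χ : G → ℂ) w ≠ 0} = N.card := by
    rw [Nat.card_eq_fintype_card, Fintype.card_subtype]
  rw [hNc]
  have h1 : (X.card : ℝ) * N.card ≤ ∑ χ ∈ N, ∑ g ∈ X, ‖(χ : G → ℂ) g‖ ^ 2 := by
    rw [mul_comm, ← nsmul_eq_mul, ← Finset.sum_const]
    refine Finset.sum_le_sum fun χ hχ => ?_
    rw [hN, Finset.mem_filter] at hχ
    exact key χ hχ.2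
  have h2 : ∑ χ ∈ N, ∑ g ∈ X, ‖(χ : G → ℂ) g‖ ^ 2 ≤
      ∑ χ : IrrCharacter G, ∑ g ∈ X, ‖(χ : G → ℂ) g‖ ^ 2 := by
    refine Finset.sum_le_sum_of_subset_of_nonneg (Finset.subset_univ _) ?_
    intro χ _ _
    exact Finset.sum_nonneg fun g _ => by positivity
  have h3 : ∑ χ : IrrCharacter G, ∑ g ∈ X, ‖(χ : G → ℂ) g‖ ^ 2 =
      (X.card : ℝ) * Nat.card (Subgroup.centralizer ({w} : Set G)) := by
    rw [Finset.sum_comm]
    have h4 : ∀ g ∈ X, ∑ χ : IrrCharacter G, ‖(χ : G → ℂ) g‖ ^ 2 =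
        (Nat.card (Subgroup.centralizer ({w} : Set G)) : ℝ) := by
      intro g hg
      rw [Cfsg.Agent.SmallSimple.SelfCentSum.sum_norm_sq, hcent g hg]
    rw [Finset.sum_congr rfl h4, Finset.sum_const, nsmul_eq_mul]
  have h5 : (X.card : ℝ) * N.card ≤
      (X.card : ℝ) * Nat.card (Subgroup.centralizer ({w} : Set G)) := by
    rw [← h3]
    exact h1.trans h2
  have h6 : (0 : ℝ) < X.card := by exact_mod_cast hXpos
  have h7 := le_of_mul_le_mul_left h5 h6
  exact_mod_cast h7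

/-- If `χ` vanishes at `w` and `w ^ r = x` is rational then `r ∣ χ x`. -/
theorem dvd_of_zero {G : Type u} [Group G] [Finite G] {χ : G → ℂ} (hχ : IsCharacter G χ) {x w : G}
    {r : ℕ} (hr : r.Prime) (hw : w ^ r = x) (h0 : χ w = 0) {a : ℤ} (ha : χ x = a) :
    (r : ℤ) ∣ a := by
  have h := Cfsg.Agent.J3Type.CharTools.int_congr hχ w hr (a := 0) (b := a) (by rw [h0, Int.cast_zero])
    (by rw [hw, ha])
  rw [zero_sub, dvd_neg] at h
  exact h

/-- The main criterion, general form: `D` is a set of characters whose values at `x` are divisible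
by `p`. -/
theorem van_gen {G : Type u} [Group G] [Finite G] {x w : G} {r p : ℕ} (hr : r.Prime) (hp : 0 < p)
    (hrp : r.Coprime p) (hw : w ^ r = x)
    (hrat : ∀ m : ℕ, m.Coprime (orderOf x) → IsConj x (x ^ m))
    (D : Set (IrrCharacter G))
    (hD : ∀ χ ∈ D, ∀ a : ℤ, (χ : G → ℂ) x = a → (p : ℤ) ∣ a)
    (h : Nat.card (Subgroup.centralizer ({x} : Set G)) +
      (r ^ 2 - 1) * Nat.card (Subgroup.centralizer ({w} : Set G)) <
      r ^ 2 * Nat.card (ConjClasses G) + (p ^ 2 - 1) * Nat.card D) :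
    Van G x := by
  classical
  by_contra hcon
  have h0 : ∀ χ : IrrCharacter G, (χ : G → ℂ) x ≠ 0 := fun χ h => hcon ⟨χ, h⟩
  have := finite_irr (G := G)
  have := Fintype.ofFinite (IrrCharacter G)
  choose v hv using fun χ : IrrCharacter G =>
    Cfsg.Agent.J3Type.CharTools.int_of_conj (isIrr_isCharacter χ.2) x hrat
  have hv0 : ∀ χ, v χ ≠ 0 := by
    intro χ hz
    apply h0 χ
    rw [hv χ, hz, Int.cast_zero]
  have hsum : (∑ χ : IrrCharacter G, (v χ) ^ 2 : ℤ) =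
      Nat.card (Subgroup.centralizer ({x} : Set G)) := by
    have h1 := Cfsg.Agent.SmallSimple.SelfCentSum.sum_norm_sq x
    have h2 : ((∑ χ : IrrCharacter G, (v χ) ^ 2 : ℤ) : ℝ) =
        ((Nat.card (Subgroup.centralizer ({x} : Set G)) : ℤ) : ℝ) := by
      push_cast
      rw [← h1]
      refine Finset.sum_congr rfl fun χ _ => ?_
      rw [hv χ, Complex.norm_intCast, sq_abs]
    exact_mod_cast h2
  -- pointwise bound
  have hpt : ∀ χ : IrrCharacter G, (1 : ℤ) + (if (χ : G → ℂ) w = 0 then (r : ℤ) ^ 2 - 1 else 0) +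
      (if χ ∈ D then (p : ℤ) ^ 2 - 1 else 0) ≤ (v χ) ^ 2 := by
    intro χ
    have hr1 : (1 : ℤ) ≤ (r : ℤ) ^ 2 := by
      have : (1 : ℤ) ≤ r := by exact_mod_cast hr.one_le
      nlinarith
    have hp1 : (1 : ℤ) ≤ (p : ℤ) ^ 2 := by
      have : (1 : ℤ) ≤ p := by exact_mod_cast hp
      nlinarith
    have hdvd : ∀ d : ℕ, (d : ℤ) ∣ v χ → (d : ℤ) ^ 2 ≤ (v χ) ^ 2 := by
      intro d hd
      have h3 := Int.le_of_dvd (pow_pos (abs_pos.2 (hv0 χ)) 2)
        ((pow_dvd_pow_of_dvd ((dvd_abs _ _).2 hd) 2))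
      rwa [sq_abs] at h3
    have hR : (χ : G → ℂ) w = 0 → (r : ℤ) ∣ v χ := fun hz =>
      dvd_of_zero (isIrr_isCharacter χ.2) hr hw hz (hv χ)
    have hP : χ ∈ D → (p : ℤ) ∣ v χ := fun hz => hD χ hz _ (hv χ)
    have hone : (1 : ℤ) ≤ (v χ) ^ 2 := by
      have := hdvd 1 (by simp)
      simpa using this
    split_ifs with h1 h2 h2
    · have h3 : ((r * p : ℕ) : ℤ) ∣ v χ := by
        push_cast
        exact IsCoprime.mul_dvd (Nat.isCoprime_iff_coprime.2 hrp) (hR h1) (hP h2)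
      have h4 := hdvd _ h3
      push_cast at h4
      nlinarith [mul_nonneg (sub_nonneg.2 hr1) (sub_nonneg.2 hp1)]
    · have := hdvd _ (hR h1)
      linarith
    · have := hdvd _ (hP h2)
      linarith
    · linarith
  have hs := Finset.sum_le_sum fun (χ : IrrCharacter G) (_ : χ ∈ Finset.univ) => hpt χ
  rw [hsum, Finset.sum_add_distrib, Finset.sum_add_distrib] at hs
  rw [Finset.sum_const, Finset.card_univ, ← Finset.sum_filter, ← Finset.sum_filter,
    Finset.sum_const, Finset.sum_const] at hs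
  simp only [nsmul_eq_mul, mul_one] at hs
  have hk : Fintype.card (IrrCharacter G) = Nat.card (ConjClasses G) := by
    rw [← card_irr, Nat.card_eq_fintype_card]
  have hDc : (Finset.univ.filter fun χ : IrrCharacter G => χ ∈ D).card = Nat.card D := by
    rw [← Nat.subtype_card]
    intro χ
    simp
  have hwc : (Finset.univ.filter fun χ : IrrCharacter G => (χ : G → ℂ) w = 0).card +
      Nat.card {χ : IrrCharacter G // (χ : G → ℂ) w ≠ 0} = Nat.card (ConjClasses G) := by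
    rw [← hk, Nat.card_eq_fintype_card, Fintype.card_subtype, ← Finset.card_univ]
    exact Finset.card_filter_add_card_filter_not _
  have hle := card_ne_zero_le w
  rw [hk, hDc] at hs
  set A := (Finset.univ.filter fun χ : IrrCharacter G => (χ : G → ℂ) w = 0).card
  set k := Nat.card (ConjClasses G)
  set cw := Nat.card (Subgroup.centralizer ({w} : Set G))
  set cx := Nat.card (Subgroup.centralizer ({x} : Set G))
  set n := Nat.card {χ : IrrCharacter G // (χ : G → ℂ) w ≠ 0}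
  have hr1 : 1 ≤ r ^ 2 := Nat.one_le_pow _ _ hr.pos
  have hp1 : 1 ≤ p ^ 2 := Nat.one_le_pow _ _ hp
  have hs' : k + (A * (r ^ 2 - 1)) + Nat.card D * (p ^ 2 - 1) ≤ cx := by
    zify [hr1, hp1]
    exact hs
  obtain ⟨R, hR⟩ : ∃ R, r ^ 2 = R + 1 := ⟨r ^ 2 - 1, (Nat.sub_add_cancel hr1).symm⟩
  rw [hR, Nat.add_sub_cancel] at hs' h
  have h5 : k * R ≤ (A + cw) * R := Nat.mul_le_mul_right _ (by omega)
  nlinarith

/-- For a rational element, without characters of even degree. -/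
theorem van_of_pow {G : Type u} [Group G] [Finite G] {x w : G} {r : ℕ} (hr : r.Prime)
    (hw : w ^ r = x) (hrat : ∀ m : ℕ, m.Coprime (orderOf x) → IsConj x (x ^ m))
    (h : Nat.card (Subgroup.centralizer ({x} : Set G)) +
      (r ^ 2 - 1) * Nat.card (Subgroup.centralizer ({w} : Set G)) <
      r ^ 2 * Nat.card (ConjClasses G)) :
    Van G x :=
  van_gen (p := 1) hr one_pos (Nat.coprime_one_right r) hw hrat ∅ (by simp) (by simpa using h)

/-- Elements of order 8 conjugate to their fifth and to their third or seventh power are rational. -/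
theorem rat_eight {G : Type u} [Group G] {x : G} (ho : orderOf x = 8) (h5 : IsConj x (x ^ 5))
    (h3 : IsConj x (x ^ 3) ∨ IsConj x (x ^ 7)) :
    ∀ m : ℕ, m.Coprime (orderOf x) → IsConj x (x ^ m) := by
  have hpow : ∀ {y z : G} (k : ℕ), IsConj y z → IsConj (y ^ k) (z ^ k) := by
    intro y z k h
    rw [isConj_iff] at h ⊢
    obtain ⟨c, hc⟩ := h
    exact ⟨c, by rw [← conj_pow, hc]⟩
  have h8 : x ^ 8 = 1 := by rw [← ho]; exact pow_orderOf_eq_one x
  have hmod : ∀ m : ℕ, x ^ m = x ^ (m % 8) := by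
    intro m
    rw [← ho]
    exact (pow_mod_orderOf x m).symm
  have h37 : IsConj x (x ^ 3) ∧ IsConj x (x ^ 7) := by
    rcases h3 with h | h
    · refine ⟨h, ?_⟩
      have h1 := h5.trans (hpow 5 h)
      rw [← pow_mul, hmod (3 * 5)] at h1
      exact h1
    · refine ⟨?_, h⟩
      have h1 := h5.trans (hpow 5 h)
      rw [← pow_mul, hmod (7 * 5)] at h1
      exact h1
  intro m hm
  rw [ho] at hm
  rw [hmod m]
  have h2 : ¬ 2 ∣ m := fun h => by
    have := Nat.dvd_gcd h (show 2 ∣ 8 by norm_num)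
    rw [hm] at this
    norm_num at this
  have h4 : m % 8 = 1 ∨ m % 8 = 3 ∨ m % 8 = 5 ∨ m % 8 = 7 := by omega
  rcases h4 with h | h | h | h <;> rw [h]
  · rw [pow_one]
  · exact h37.1
  · exact h5
  · exact h37.2

end Cfsg.Agent.H984.PV
end
end
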